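import Groth.Agent.EtaleBase.Limit.PullOn
import Groth.Agent.EtaleBase.PullStalk
import Mathlib.Algebra.Homology.ShortComplex.ExactFunctor
import Mathlib.CategoryTheory.Abelian.Injective.Resolution

/-!
Cohomology classes of cycles of global sections in a resolution, their naturality for morphisms of
resolutions and for inverse images, and the computation of cohomology by acyclic resolutions.
-/

set_option autoImplicit false

universe u

open CategoryTheory CategoryTheory.Limits CategoryTheory.Abelian AlgebraicGeometry Opposite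

namespace Groth.EtaleBase.EtLimit

variable {Y : Scheme.{u}}

/-- A resolution. -/
structure Resn (G : EtCoh.Ab Y) where
  /-- the terms -/
  X : ℕ → EtCoh.Ab Y
  /-- the differentials -/
  d : ∀ n, X n ⟶ X (n + 1)
  /-- the augmentation -/
  ε : G ⟶ X 0
  mono : Mono ε
  ε_d : ε ≫ d 0 = 0
  exact_ε : (ShortComplex.mk ε (d 0) ε_d).Exact
  d_d : ∀ n, d n ≫ d (n + 1) = 0
  exact_d : ∀ n, (ShortComplex.mk (d n) (d (n + 1)) (d_d n)).Exact

namespace Resn

variable {G : EtCoh.Ab Y} (R : Resn G)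

/-- The resolution of the first syzygy. -/
noncomputable def shift : Resn (kernel (R.d 1)) where
  X n := R.X (n + 1)
  d n := R.d (n + 1)
  ε := kernel.ι (R.d 1)
  mono := inferInstance
  ε_d := kernel.condition _
  exact_ε := ShortComplex.exact_of_f_is_kernel _ (kernelIsKernel _)
  d_d n := R.d_d (n + 1)
  exact_d n := R.exact_d (n + 1)

/-- The first short exact sequence. -/
noncomputable def seq : ShortComplex (EtCoh.Ab Y) :=
  ShortComplex.mk R.ε (kernel.lift (R.d 1) (R.d 0) (R.d_d 0))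
    (by rw [← cancel_mono (kernel.ι (R.d 1)), Category.assoc, kernel.lift_ι, zero_comp, R.ε_d])

lemma seq_shortExact : R.seq.ShortExact where
  exact := by
    let φ : R.seq ⟶ ShortComplex.mk R.ε (R.d 0) R.ε_d :=
      { τ₁ := 𝟙 _, τ₂ := 𝟙 _, τ₃ := kernel.ι (R.d 1)
        comm₁₂ := (Category.id_comp _).trans (Category.comp_id _).symm
        comm₂₃ := (Category.id_comp _).trans (kernel.lift_ι (R.d 1) (R.d 0) (R.d_d 0)).symm }
    haveI : Epi φ.τ₁ := inferInstanceAs (Epi (𝟙 _))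
    haveI : IsIso φ.τ₂ := inferInstanceAs (IsIso (𝟙 _))
    haveI : Mono φ.τ₃ := inferInstanceAs (Mono (kernel.ι _))
    exact (ShortComplex.exact_iff_of_epi_of_isIso_of_mono φ).2 R.exact_ε
  mono_f := R.mono
  epi_g := (R.exact_d 0).epi_kernelLift

/-- A global section killed by `d 0` comes from the resolved sheaf. -/
noncomputable def lift0 (z : EtCoh.const Y ℤ ⟶ R.X 0) (h : z ≫ R.d 0 = 0) : EtCoh.const Y ℤ ⟶ G :=
  haveI := R.mono
  R.exact_ε.lift z h

lemma lift0_ε (z : EtCoh.const Y ℤ ⟶ R.X 0) (h : z ≫ R.d 0 = 0) : R.lift0 z h ≫ R.ε = z :=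
  haveI := R.mono
  R.exact_ε.lift_f z h

/-- The class of a cycle. -/
noncomputable def cls : ∀ (q : ℕ) {G : EtCoh.Ab Y} (R : Resn G) (z : EtCoh.const Y ℤ ⟶ R.X q),
    z ≫ R.d q = 0 → EtCoh.H Y G q
  | 0, _, R, z, h => Ext.mk₀ (R.lift0 z h)
  | q + 1, _, R, z, h => (cls q R.shift z h).comp R.seq_shortExact.extClass rfl

/-- A morphism of resolutions over a morphism of the resolved sheaves, along a morphism of schemes. -/
structure Hom {Z : Scheme.{u}} (u : Z ⟶ Y) {G' : EtCoh.Ab Z} (R : Resn G) (R' : Resn G')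
    (ρ : (EtCoh.pull u).obj G ⟶ G') where
  /-- the components -/
  f : ∀ n, (EtCoh.pull u).obj (R.X n) ⟶ R'.X n
  comm : ∀ n, (EtCoh.pull u).map (R.d n) ≫ f (n + 1) = f n ≫ R'.d n
  comm_ε : (EtCoh.pull u).map R.ε ≫ f 0 = ρ ≫ R'.ε

/-- A morphism of resolutions over a morphism of the resolved sheaves. -/
structure Map {G' : EtCoh.Ab Y} (R : Resn G) (R' : Resn G') (ρ : G ⟶ G') where
  /-- the components -/
  f : ∀ n, R.X n ⟶ R'.X n
  comm : ∀ n, R.d n ≫ f (n + 1) = f n ≫ R'.d n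
  comm_ε : R.ε ≫ f 0 = ρ ≫ R'.ε

section Map

variable {G' : EtCoh.Ab Y} {R} {R' : Resn G'} {ρ : G ⟶ G'}

/-- The induced morphism on syzygies. -/
noncomputable def Map.syz (φ : Map R R' ρ) : kernel (R.d 1) ⟶ kernel (R'.d 1) :=
  kernel.map (R.d 1) (R'.d 1) (φ.f 1) (φ.f 2) (φ.comm 1)

/-- The shifted morphism. -/
noncomputable def Map.shift (φ : Map R R' ρ) : Map R.shift R'.shift φ.syz where
  f n := φ.f (n + 1)
  comm n := φ.comm (n + 1)
  comm_ε := (kernel.lift_ι _ _ _).symm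

/-- The morphism of short exact sequences. -/
noncomputable def Map.seq (φ : Map R R' ρ) : R.seq ⟶ R'.seq where
  τ₁ := ρ
  τ₂ := φ.f 0
  τ₃ := φ.syz
  comm₁₂ := φ.comm_ε.symm
  comm₂₃ := by
    show φ.f 0 ≫ kernel.lift _ _ _ = kernel.lift _ _ _ ≫ φ.syz
    rw [← cancel_mono (kernel.ι (R'.d 1))]
    simp [Map.syz, φ.comm 0]

lemma Map.cycle (φ : Map R R' ρ) {q : ℕ} {z : EtCoh.const Y ℤ ⟶ R.X q} (h : z ≫ R.d q = 0) :
    (z ≫ φ.f q) ≫ R'.d q = 0 := by
  rw [Category.assoc, ← φ.comm, reassoc_of% h, zero_comp]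

/-- Classes are natural in morphisms of resolutions. -/
theorem cls_map : ∀ (q : ℕ) {G G' : EtCoh.Ab Y} {R : Resn G} {R' : Resn G'} {ρ : G ⟶ G'}
    (φ : Map R R' ρ) (z : EtCoh.const Y ℤ ⟶ R.X q) (h : z ≫ R.d q = 0),
    cls q R' (z ≫ φ.f q) (φ.cycle h) = (cls q R z h).comp (Ext.mk₀ ρ) (add_zero q)
  | 0, G, G', R, R', ρ, φ, z, h => by
    show Ext.mk₀ (R'.lift0 _ _) = (Ext.mk₀ (R.lift0 z h)).comp (Ext.mk₀ ρ) (add_zero 0)
    rw [Ext.mk₀_comp_mk₀]
    haveI := R'.mono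
    refine congrArg Ext.mk₀ ((cancel_mono R'.ε).1 ?_)
    rw [lift0_ε, Category.assoc, ← φ.comm_ε, ← Category.assoc, lift0_ε]
  | q + 1, G, G', R, R', ρ, φ, z, h => by
    show (cls q R'.shift _ _).comp R'.seq_shortExact.extClass rfl =
      ((cls q R.shift z h).comp R.seq_shortExact.extClass rfl).comp (Ext.mk₀ ρ) (add_zero (q + 1))
    refine (congrArg (fun e => Ext.comp e _ rfl) (cls_map q φ.shift z h)).trans ?_
    rw [Ext.comp_assoc_of_second_deg_zero, Ext.comp_assoc_of_third_deg_zero]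
    exact congrArg (fun e => Ext.comp _ e rfl)
      (ShortComplex.ShortExact.extClass_naturality R.seq_shortExact R'.seq_shortExact φ.seq).symm

end Map

section Hom

variable {Z : Scheme.{u}} {u : Z ⟶ Y} {G' : EtCoh.Ab Z} {R} {R' : Resn G'}
  {ρ : (EtCoh.pull u).obj G ⟶ G'}

/-- The induced morphism on syzygies. -/
noncomputable def Hom.syz (φ : Hom u R R' ρ) : (EtCoh.pull u).obj (kernel (R.d 1)) ⟶ kernel (R'.d 1) :=
  kernel.lift (R'.d 1) ((EtCoh.pull u).map (kernel.ι (R.d 1)) ≫ φ.f 1) (by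
    haveI : (EtCoh.pull u).Additive := (EtCoh.pullPushAdj u).left_adjoint_additive
    rw [Category.assoc, ← φ.comm 1, ← Category.assoc, ← Functor.map_comp, kernel.condition,
      Functor.map_zero, zero_comp])

/-- The shifted morphism. -/
noncomputable def Hom.shift (φ : Hom u R R' ρ) : Hom u R.shift R'.shift φ.syz where
  f n := φ.f (n + 1)
  comm n := φ.comm (n + 1)
  comm_ε := (kernel.lift_ι _ _ _).symm

variable [PreservesFiniteLimits (EtCoh.pull u)]

/-- The morphism of short exact sequences. -/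
noncomputable def Hom.seq (φ : Hom u R R' ρ) : R.seq.map (EtCoh.pull u) ⟶ R'.seq where
  τ₁ := ρ
  τ₂ := φ.f 0
  τ₃ := φ.syz
  comm₁₂ := φ.comm_ε.symm
  comm₂₃ := by
    show φ.f 0 ≫ kernel.lift _ _ _ = (EtCoh.pull u).map (kernel.lift _ _ _) ≫ φ.syz
    rw [← cancel_mono (kernel.ι (R'.d 1)), Category.assoc, Category.assoc, kernel.lift_ι,
      show φ.syz ≫ kernel.ι (R'.d 1) = _ from kernel.lift_ι _ _ _, ← Category.assoc,
      ← Functor.map_comp, kernel.lift_ι, φ.comm 0]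

omit [PreservesFiniteLimits (EtCoh.pull u)] in
lemma Hom.cycle (φ : Hom u R R' ρ) {q : ℕ} {z : EtCoh.const Y ℤ ⟶ R.X q} (h : z ≫ R.d q = 0) :
    ((EtCore.pullConst u ℤ).inv ≫ (EtCoh.pull u).map z ≫ φ.f q) ≫ R'.d q = 0 := by
  haveI : (EtCoh.pull u).Additive := (EtCoh.pullPushAdj u).left_adjoint_additive
  rw [Category.assoc, Category.assoc, ← φ.comm, ← Category.assoc ((EtCoh.pull u).map z),
    ← Functor.map_comp, h, Functor.map_zero, zero_comp, comp_zero]

end Hom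

/-- Classes are natural in inverse images. -/
theorem cls_pull {Z : Scheme.{u}} {u : Z ⟶ Y} [PreservesFiniteLimits (EtCoh.pull u)] :
    ∀ (q : ℕ) {G : EtCoh.Ab Y} {G' : EtCoh.Ab Z} {R : Resn G} {R' : Resn G'}
      {ρ : (EtCoh.pull u).obj G ⟶ G'} (φ : Hom u R R' ρ) (z : EtCoh.const Y ℤ ⟶ R.X q)
      (h : z ≫ R.d q = 0),
    cls q R' ((EtCore.pullConst u ℤ).inv ≫ (EtCoh.pull u).map z ≫ φ.f q) (φ.cycle h) =
      EtLim.HpullThen u G ρ q (cls q R z h)
  | 0, G, G', R, R', ρ, φ, z, h => by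
    show Ext.mk₀ (R'.lift0 _ _) = ((Ext.mk₀ (EtCore.pullConst u ℤ).inv).comp
      ((Ext.mk₀ (R.lift0 z h)).mapExactFunctor (EtCoh.pull u)) (zero_add 0)).comp
        (Ext.mk₀ ρ) (add_zero 0)
    rw [Ext.mapExactFunctor_mk₀, Ext.mk₀_comp_mk₀, Ext.mk₀_comp_mk₀]
    haveI := R'.mono
    refine congrArg Ext.mk₀ ((cancel_mono R'.ε).1 ?_)
    rw [lift0_ε, Category.assoc, Category.assoc, ← φ.comm_ε,
      ← Category.assoc ((EtCoh.pull u).map _), ← Functor.map_comp, lift0_ε]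
  | q + 1, G, G', R, R', ρ, φ, z, h => by
    show (cls q R'.shift _ _).comp R'.seq_shortExact.extClass rfl =
      ((Ext.mk₀ (EtCore.pullConst u ℤ).inv).comp
        (((cls q R.shift z h).comp R.seq_shortExact.extClass rfl).mapExactFunctor (EtCoh.pull u))
        (zero_add (q + 1))).comp (Ext.mk₀ ρ) (add_zero (q + 1))
    refine (congrArg (fun e => Ext.comp e _ rfl) (cls_pull q φ.shift z h)).trans ?_
    have key := ShortComplex.ShortExact.extClass_naturality
      (R.seq_shortExact.map_of_exact (EtCoh.pull u)) R'.seq_shortExact φ.seq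
    refine Eq.trans ?_ (congrArg (fun w => ((Ext.mk₀ (EtCore.pullConst u ℤ).inv).comp w
      (zero_add (q + 1))).comp (Ext.mk₀ ρ) (add_zero (q + 1)))
      (ExtAdj.mapExt_comp_extClass (EtCoh.pull u) R.seq_shortExact (cls q R.shift z h))).symm
    exact ((congrArg (fun e => Ext.comp e (Ext.mk₀ ρ) (add_zero (q + 1)))
      (ExtAdj.pre_assoc _ _ _).symm).trans (ExtAdj.step _ _ _ φ.syz _ key)).symm

section Acyclic

lemma cls_congr {q : ℕ} {z z' : EtCoh.const Y ℤ ⟶ R.X q} (e : z = z') (h : z ≫ R.d q = 0)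
    (h' : z' ≫ R.d q = 0) : cls q R z h = cls q R z' h' := by subst e; rfl

/-- A coboundary has class zero. -/
theorem cls_boundary : ∀ (q : ℕ) {G : EtCoh.Ab Y} (R : Resn G) (b : EtCoh.const Y ℤ ⟶ R.X q)
    (z : EtCoh.const Y ℤ ⟶ R.X (q + 1)) (_ : b ≫ R.d q = z) (h : z ≫ R.d (q + 1) = 0),
    cls (q + 1) R z h = 0
  | 0, G, R, b, z, hb, h => by
    show (Ext.mk₀ (R.shift.lift0 z h)).comp R.seq_shortExact.extClass rfl = 0
    have e : R.shift.lift0 z h = b ≫ R.seq.g := by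
      refine (cancel_mono (kernel.ι (R.d 1))).1 ((R.shift.lift0_ε z h).trans ?_)
      show z = (b ≫ kernel.lift _ _ _) ≫ _
      rw [Category.assoc, kernel.lift_ι, hb]
    rw [e]
    refine (congrArg (fun w => Ext.comp w _ rfl)
      (Ext.mk₀_comp_mk₀ b R.seq.g).symm).trans ?_
    refine (Ext.comp_assoc (a₁₂ := 0) _ _ _ (add_zero 0) (zero_add 1) (by omega)).trans ?_
    exact (congrArg (fun w => Ext.comp _ w rfl) R.seq_shortExact.comp_extClass).trans
      (Ext.comp_zero _ _ _ _ _)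
  | q + 1, G, R, b, z, hb, h => by
    show (cls (q + 1) R.shift z h).comp R.seq_shortExact.extClass rfl = 0
    rw [cls_boundary q R.shift b z hb h]
    exact Ext.zero_comp _ _ _ _ _

/-- Every class is the class of a cycle for an acyclic resolution. -/
theorem exists_cls_eq : ∀ (q : ℕ) {G : EtCoh.Ab Y} (R : Resn G)
    (_ : ∀ n m, Subsingleton (EtCoh.H Y (R.X n) (m + 1))) (x : EtCoh.H Y G q),
    ∃ (z : EtCoh.const Y ℤ ⟶ R.X q) (h : z ≫ R.d q = 0), cls q R z h = x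
  | 0, G, R, _, x => by
    obtain ⟨φ, rfl⟩ := (Ext.mk₀_bijective _ _).2 x
    refine ⟨φ ≫ R.ε, by rw [Category.assoc, R.ε_d, comp_zero], ?_⟩
    haveI := R.mono
    exact congrArg Ext.mk₀ ((cancel_mono R.ε).1 (R.lift0_ε _ _))
  | q + 1, G, R, hR, x => by
    obtain ⟨a, rfl⟩ := Ext.covariant_sequence_exact₁ _ R.seq_shortExact x
      (@Subsingleton.elim _ (hR 0 q) _ _) (n₀ := q) rfl
    obtain ⟨z, h, rfl⟩ := exists_cls_eq q R.shift (fun n m => hR (n + 1) m) a
    exact ⟨z, h, rfl⟩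

/-- In degree zero only the zero cycle has class zero. -/
lemma cls_zero_eq_zero (z : EtCoh.const Y ℤ ⟶ R.X 0) (h : z ≫ R.d 0 = 0) (hz : cls 0 R z h = 0) :
    z = 0 := by
  have : R.lift0 z h = 0 := (Ext.mk₀_bijective _ _).1 (hz.trans (Ext.mk₀_zero _ _).symm)
  rw [← R.lift0_ε z h, this, zero_comp]

/-- A cycle of class zero in an acyclic resolution is a coboundary. -/
theorem exists_boundary : ∀ (q : ℕ) {G : EtCoh.Ab Y} (R : Resn G)
    (_ : ∀ n m, Subsingleton (EtCoh.H Y (R.X n) (m + 1))) (z : EtCoh.const Y ℤ ⟶ R.X (q + 1))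
    (h : z ≫ R.d (q + 1) = 0), cls (q + 1) R z h = 0 → ∃ b : EtCoh.const Y ℤ ⟶ R.X q, b ≫ R.d q = z
  | 0, G, R, _, z, h, hz => by
    obtain ⟨b, hb⟩ := Ext.covariant_sequence_exact₃ _ R.seq_shortExact (Ext.mk₀ (R.shift.lift0 z h)) rfl hz
    obtain ⟨b, rfl⟩ := (Ext.mk₀_bijective _ _).2 b
    rw [Ext.mk₀_comp_mk₀] at hb
    refine ⟨b, ?_⟩
    have e := (Ext.mk₀_bijective _ _).1 hb
    exact ((congrArg (b ≫ ·) (kernel.lift_ι (R.d 1) (R.d 0) (R.d_d 0))).symm.trans
      (Category.assoc _ _ _).symm).trans ((congrArg (· ≫ kernel.ι (R.d 1)) e).trans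
        (R.shift.lift0_ε z h))
  | q + 1, G, R, hR, z, h, hz => by
    obtain ⟨b, hb⟩ := Ext.covariant_sequence_exact₃ _ R.seq_shortExact (cls (q + 1) R.shift z h) rfl hz
    have h0 : cls (q + 1) R.shift z h = 0 :=
      hb.symm.trans ((congrArg (fun w => Ext.comp w _ (add_zero (q + 1))) (@Subsingleton.elim _ (hR 0 q) b 0)).trans
        (Ext.zero_comp _ _ _ _ _))
    exact exists_boundary q R.shift (fun n m => hR (n + 1) m) z h h0

end Acyclic

section Sections

/-- Global sections as morphisms from the constant sheaf. -/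
noncomputable def ev (F : EtCoh.Ab Y) : (EtCoh.const Y ℤ ⟶ F) ≃+ F.obj.obj (op (EtCoh.top Y)) :=
  (Ext.addEquiv₀ (X := EtCoh.const Y ℤ) (Y := F)).symm.trans (gs F)

lemma ev_comp {F F' : EtCoh.Ab Y} (z : EtCoh.const Y ℤ ⟶ F) (f : F ⟶ F') :
    ev F' (z ≫ f) = f.hom.app (op (EtCoh.top Y)) (ev F z) := by
  show gs F' (Ext.mk₀ (z ≫ f)) = f.hom.app _ (gs F (Ext.mk₀ z))
  rw [← gs_map, Ext.mk₀_comp_mk₀]

lemma ev_pull {Z : Scheme.{u}} (u : Z ⟶ Y) {F : EtCoh.Ab Y} {M : EtCoh.Ab Z}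
    (z : EtCoh.const Y ℤ ⟶ F) (φ : (EtCoh.pull u).obj F ⟶ M) :
    ev M ((EtCore.pullConst u ℤ).inv ≫ (EtCoh.pull u).map z ≫ φ) =
      M.obj.map (EtCore.bcTopIso u).inv.op
        (((EtCoh.pullPushAdj u).homEquiv F M φ).hom.app (op (EtCoh.top Y)) (ev F z)) := by
  show gs M (Ext.mk₀ _) = M.obj.map _ (((EtCoh.pullPushAdj u).homEquiv F M φ).hom.app _ (gs F (Ext.mk₀ z)))
  rw [← gs_pullOn u, pullOn_apply, Equiv.symm_apply_apply, Ext.mapExactFunctor_mk₀, Ext.mk₀_comp_mk₀,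
    Ext.mk₀_comp_mk₀, Category.assoc]

variable {R}

/-- A section killed by the differential gives a cycle. -/
lemma ev_symm_cycle {q : ℕ} {z : (R.X q).obj.obj (op (EtCoh.top Y))}
    (h : (R.d q).hom.app (op (EtCoh.top Y)) z = 0) : (ev (R.X q)).symm z ≫ R.d q = 0 :=
  (ev (R.X (q + 1))).injective
    (((ev_comp _ _).trans ((congrArg _ ((ev (R.X q)).apply_symm_apply z)).trans h)).trans (map_zero _).symm)

variable (R)

/-- The class of a section killed by the differential. -/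
noncomputable def scls (q : ℕ) (z : (R.X q).obj.obj (op (EtCoh.top Y)))
    (h : (R.d q).hom.app (op (EtCoh.top Y)) z = 0) : EtCoh.H Y G q :=
  cls q R ((ev (R.X q)).symm z) (ev_symm_cycle h)

lemma scls_congr {q : ℕ} {z z' : (R.X q).obj.obj (op (EtCoh.top Y))} (e : z = z')
    (h : (R.d q).hom.app (op (EtCoh.top Y)) z = 0) (h' : (R.d q).hom.app (op (EtCoh.top Y)) z' = 0) :
    R.scls q z h = R.scls q z' h' := by
  subst e; rfl

lemma exists_scls_eq (q : ℕ) (hR : ∀ n m, Subsingleton (EtCoh.H Y (R.X n) (m + 1)))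
    (x : EtCoh.H Y G q) :
    ∃ (z : (R.X q).obj.obj (op (EtCoh.top Y))) (h : (R.d q).hom.app (op (EtCoh.top Y)) z = 0),
      R.scls q z h = x := by
  obtain ⟨z, h, rfl⟩ := exists_cls_eq q R hR x
  refine ⟨ev _ z, by rw [← ev_comp, h, map_zero], ?_⟩
  unfold scls
  exact R.cls_congr ((ev (R.X q)).symm_apply_apply z) _ h

lemma scls_zero_eq_zero (z : (R.X 0).obj.obj (op (EtCoh.top Y)))
    (h : (R.d 0).hom.app (op (EtCoh.top Y)) z = 0) (hz : R.scls 0 z h = 0) : z = 0 := by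
  have := R.cls_zero_eq_zero _ _ hz
  rw [← (ev (R.X 0)).apply_symm_apply z, this, map_zero]

lemma exists_sboundary (q : ℕ) (hR : ∀ n m, Subsingleton (EtCoh.H Y (R.X n) (m + 1)))
    (z : (R.X (q + 1)).obj.obj (op (EtCoh.top Y)))
    (h : (R.d (q + 1)).hom.app (op (EtCoh.top Y)) z = 0) (hz : R.scls (q + 1) z h = 0) :
    ∃ b : (R.X q).obj.obj (op (EtCoh.top Y)), (R.d q).hom.app (op (EtCoh.top Y)) b = z := by
  obtain ⟨b, hb⟩ := exists_boundary q R hR _ _ hz
  refine ⟨ev _ b, ?_⟩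
  rw [← ev_comp, hb, AddEquiv.apply_symm_apply]

lemma scls_sboundary (q : ℕ) (b : (R.X q).obj.obj (op (EtCoh.top Y)))
    (h : (R.d (q + 1)).hom.app (op (EtCoh.top Y)) ((R.d q).hom.app (op (EtCoh.top Y)) b) = 0) :
    R.scls (q + 1) ((R.d q).hom.app (op (EtCoh.top Y)) b) h = 0 := by
  refine cls_boundary q R ((ev _).symm b) _ ((ev _).injective ?_) _
  rw [ev_comp, AddEquiv.apply_symm_apply, AddEquiv.apply_symm_apply]

variable {R}

lemma scls_map {G' : EtCoh.Ab Y} {R' : Resn G'} {ρ : G ⟶ G'} (φ : Map R R' ρ) {q : ℕ}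
    (z : (R.X q).obj.obj (op (EtCoh.top Y))) (h : (R.d q).hom.app (op (EtCoh.top Y)) z = 0) :
    ∃ h', R'.scls q ((φ.f q).hom.app (op (EtCoh.top Y)) z) h' =
      (R.scls q z h).comp (Ext.mk₀ ρ) (add_zero q) := by
  have hz : ev _ ((ev (R.X q)).symm z ≫ φ.f q) = (φ.f q).hom.app (op (EtCoh.top Y)) z := by
    rw [ev_comp, AddEquiv.apply_symm_apply]
  refine ⟨by rw [← hz, ← ev_comp, φ.cycle (ev_symm_cycle h), map_zero], ?_⟩
  unfold scls
  exact (R'.cls_congr ((congrArg (ev (R'.X q)).symm hz.symm).trans ((ev (R'.X q)).symm_apply_apply _)) _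
    (φ.cycle (ev_symm_cycle h))).trans (cls_map q φ _ _)

lemma scls_pull {Z : Scheme.{u}} {u : Z ⟶ Y} [PreservesFiniteLimits (EtCoh.pull u)] {G' : EtCoh.Ab Z}
    {R' : Resn G'} {ρ : (EtCoh.pull u).obj G ⟶ G'} (φ : Hom u R R' ρ) {q : ℕ}
    (z : (R.X q).obj.obj (op (EtCoh.top Y))) (h : (R.d q).hom.app (op (EtCoh.top Y)) z = 0) :
    ∃ h', R'.scls q ((R'.X q).obj.map (EtCore.bcTopIso u).inv.op
        (((EtCoh.pullPushAdj u).homEquiv (R.X q) (R'.X q) (φ.f q)).hom.app (op (EtCoh.top Y)) z)) h' =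
      EtLim.HpullThen u G ρ q (R.scls q z h) := by
  have hz := ev_pull u ((ev (R.X q)).symm z) (φ.f q)
  rw [AddEquiv.apply_symm_apply] at hz
  refine ⟨by rw [← hz, ← ev_comp, φ.cycle (ev_symm_cycle h), map_zero], ?_⟩
  unfold scls
  exact (R'.cls_congr ((congrArg (ev (R'.X q)).symm hz.symm).trans ((ev (R'.X q)).symm_apply_apply _)) _
    (φ.cycle (ev_symm_cycle h))).trans (cls_pull q φ _ _)

end Sections

/-- The inverse image of a resolution. -/
noncomputable def pullback (R : Resn G) {Z : Scheme.{u}} (u : Z ⟶ Y) : Resn ((EtCoh.pull u).obj G) :=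
  haveI : (EtCoh.pull u).Additive := (EtCoh.pullPushAdj u).left_adjoint_additive
  haveI : PreservesFiniteColimits (EtCoh.pull u) :=
    (EtCoh.pullPushAdj u).leftAdjoint_preservesColimits.{0, 0}.preservesFiniteColimits
  haveI : PreservesFiniteLimits (EtCoh.pull u) := pull_preservesFiniteLimits u
  { X := fun n => (EtCoh.pull u).obj (R.X n)
    d := fun n => (EtCoh.pull u).map (R.d n)
    ε := (EtCoh.pull u).map R.ε
    mono := haveI := R.mono; inferInstance
    ε_d := by rw [← Functor.map_comp, R.ε_d, Functor.map_zero]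
    exact_ε := R.exact_ε.map (EtCoh.pull u)
    d_d := fun n => by rw [← Functor.map_comp, R.d_d, Functor.map_zero]
    exact_d := fun n => (R.exact_d n).map (EtCoh.pull u) }

end Resn

/-- The resolution given by an injective resolution. -/
noncomputable def injResn {G : EtCoh.Ab Y} (I : InjectiveResolution G) : Resn G where
  X := I.cocomplex.X
  d n := I.cocomplex.d n (n + 1)
  ε := I.ι.f 0
  mono := mono_of_isLimit_fork I.isLimitKernelFork
  ε_d := I.ι_f_zero_comp_complex_d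
  exact_ε := I.exact₀
  d_d _ := HomologicalComplex.d_comp_d _ _ _ _
  exact_d n := I.exact_succ n

end Groth.EtaleBase.EtLimit
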