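import Groth.Agent.EtaleBase.Limit.StalkClass

/-!
The base change morphism on stalks: coefficient changes, the criterion for being an isomorphism, and
étale base change.
-/

set_option autoImplicit false

universe u

open CategoryTheory CategoryTheory.Limits CategoryTheory.Abelian AlgebraicGeometry Opposite

namespace Groth.EtaleBase.EtLimit

lemma exists_common_nbhd {S : Scheme.{u}} {Ω : Type u} [Field Ω] [IsSepClosed Ω]
    {ξ : Spec (CommRingCat.of Ω) ⟶ S} (V₁ : S.Etale) (t₁ : (Scheme.pointSmallEtale ξ).fiber.obj V₁)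
    (V₂ : S.Etale) (t₂ : (Scheme.pointSmallEtale ξ).fiber.obj V₂) :
    ∃ (V : S.Etale) (p₁ : V ⟶ V₁) (p₂ : V ⟶ V₂) (t : (Scheme.pointSmallEtale ξ).fiber.obj V),
      (Scheme.pointSmallEtale ξ).fiber.map p₁ t = t₁ ∧ (Scheme.pointSmallEtale ξ).fiber.map p₂ t = t₂ := by
  obtain ⟨E, p₁, p₂, -⟩ := IsCofilteredOrEmpty.cone_objs
    (C := (Scheme.pointSmallEtale ξ).fiber.Elements)
    (Functor.elementsMk _ V₁ t₁) (Functor.elementsMk _ V₂ t₂)
  exact ⟨E.1, p₁.1, p₂.1, E.2, p₁.2, p₂.2⟩

lemma ext_cancel {C : Type*} [Category C] [Abelian C] [HasExt.{u + 1} C] {X₁ X₂ X₃ : C} {n : ℕ}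
    (x : Ext X₁ X₂ n) (a : X₂ ⟶ X₃) (b : X₃ ⟶ X₂) (h : a ≫ b = 𝟙 X₂) :
    (x.comp (Ext.mk₀ a) (add_zero n)).comp (Ext.mk₀ b) (add_zero n) = x := by
  rw [Ext.comp_assoc_of_third_deg_zero, Ext.mk₀_comp_mk₀, h, Ext.comp_mk₀_id]

section Criterion

variable {X S S' X' : Scheme.{u}} (f : X ⟶ S) (g : S' ⟶ S) (f' : X' ⟶ S') (g' : X' ⟶ X)
  (w : g' ≫ f = f' ≫ g) [PreservesFiniteLimits (EtCoh.pull g')] {F : EtCoh.Ab X} {F' F'' : EtCoh.Ab X'}

lemma stalkBC_map {Ω : Type u} [Field Ω] [IsSepClosed Ω] (ξ : Spec (CommRingCat.of Ω) ⟶ S')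
    (α : (EtCoh.pull g').obj F ⟶ F') (β : F' ⟶ F'') (q : ℕ) :
    stalkBC f g f' g' w (α ≫ β) ξ q =
      stalkBC f g f' g' w α ξ q ≫ (EtCoh.stalk ξ).map ((EtCoh.Rpush f' q).map β) := by
  rw [stalkBC, stalkBC, Functor.map_comp (EtCoh.Rpush f' q), ← Category.assoc (EtBC.bcQ f g f' g' w q F),
    Functor.map_comp, Category.assoc]

lemma stalkBC_id {Ω : Type u} [Field Ω] [IsSepClosed Ω] (ξ : Spec (CommRingCat.of Ω) ⟶ S') (q : ℕ) :
    stalkBC f g f' g' w (𝟙 ((EtCoh.pull g').obj F)) ξ q =
      (stalkPullIso g ξ).hom.app _ ≫ (EtCoh.stalk ξ).map (EtBC.bcQ f g f' g' w q F) := by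
  rw [stalkBC, CategoryTheory.Functor.map_id, Category.comp_id]

/-- Bijectivity on stalks does not depend on an isomorphism of coefficients. -/
lemma bijective_stalkBC_iff {Ω : Type u} [Field Ω] [IsSepClosed Ω] (ξ : Spec (CommRingCat.of Ω) ⟶ S')
    (α : (EtCoh.pull g').obj F ⟶ F') [IsIso α] (q : ℕ) :
    Function.Bijective (stalkBC f g f' g' w α ξ q) ↔
      IsIso ((EtCoh.stalk ξ).map (EtBC.bcQ f g f' g' w q F)) := by
  rw [← ConcreteCategory.isIso_iff_bijective, ← Category.id_comp α, stalkBC_map, stalkBC_id,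
    Category.assoc]
  constructor
  · intro h
    haveI := IsIso.of_isIso_comp_left ((stalkPullIso g ξ).hom.app ((EtCoh.Rpush f q).obj F))
      ((EtCoh.stalk ξ).map (EtBC.bcQ f g f' g' w q F) ≫
        (EtCoh.stalk ξ).map ((EtCoh.Rpush f' q).map α))
    exact IsIso.of_isIso_comp_right _ ((EtCoh.stalk ξ).map ((EtCoh.Rpush f' q).map α))
  · intro h
    infer_instance

/-- The base change morphism is an isomorphism if it is so at all geometric points. -/
theorem isIso_bcQ (q : ℕ)
    (h : ∀ s : S', Function.Bijective (stalkBC f g f' g' w (𝟙 ((EtCoh.pull g').obj F)) (geomPoint s) q)) :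
    IsIso (EtBC.bcQ f g f' g' w q F) := by
  haveI : ∀ s : S', IsIso ((stalkAt s).map (EtBC.bcQ f g f' g' w q F)) := fun s =>
    (bijective_stalkBC_iff f g f' g' w (geomPoint s) (𝟙 _) q).1 (h s)
  exact stalkAt_jointlyReflectIsomorphisms.isIso _

/-- An isomorphism is bijective on stalks. -/
theorem bijective_stalkBC {Ω : Type u} [Field Ω] [IsSepClosed Ω] (ξ : Spec (CommRingCat.of Ω) ⟶ S')
    (α : (EtCoh.pull g').obj F ⟶ F') [IsIso α] (q : ℕ) (h : IsIso (EtBC.bcQ f g f' g' w q F)) :
    Function.Bijective (stalkBC f g f' g' w α ξ q) :=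
  haveI := h
  (bijective_stalkBC_iff f g f' g' w ξ α q).2 inferInstance

end Criterion

section Etale

variable {X S S' X' : Scheme.{u}} {f : X ⟶ S} {j : S' ⟶ S} {f' : X' ⟶ S'} {j' : X' ⟶ X}
  [PreservesFiniteLimits (EtCoh.pull j')] (c : IsPullback j' f' f j) [AlgebraicGeometry.Etale j]
  {F : EtCoh.Ab X} {F' : EtCoh.Ab X'} (α : (EtCoh.pull j').obj F ⟶ F') [IsIso α]
  {Ω : Type u} [Field Ω] [IsSepClosed Ω] (ξ : Spec (CommRingCat.of Ω) ⟶ S')

/-- An étale scheme over the base change, over the base. -/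
noncomputable abbrev downEtale (W : S'.Etale) : S.Etale := (EtShriek.compEtale j).obj W

/-- Its point. -/
noncomputable def downPt (W : S'.Etale) (t : (Scheme.pointSmallEtale ξ).fiber.obj W) :
    (Scheme.pointSmallEtale (ξ ≫ j)).fiber.obj (downEtale (j := j) W) :=
  Over.homMk t.left ((Category.assoc _ _ _).symm.trans (congrArg (· ≫ j) (Over.w t)))

/-- The graph of an étale scheme over the base change. -/
noncomputable def graphDown (W : S'.Etale) : W ⟶ (EtCoh.bc j).obj (downEtale (j := j) W) :=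
  MorphismProperty.Over.homMk (pullback.lift (𝟙 W.left) W.hom (Category.id_comp _) :
    W.left ⟶ pullback (W.hom ≫ j) j) (pullback.lift_snd _ _ _)

lemma graphDown_fst (W : S'.Etale) :
    (graphDown (j := j) W).left ≫ pullback.fst (W.hom ≫ j) j = 𝟙 W.left :=
  pullback.lift_fst _ _ _

lemma map_graphDown (W : S'.Etale) (t : (Scheme.pointSmallEtale ξ).fiber.obj W) :
    (Scheme.pointSmallEtale ξ).fiber.map (graphDown W) t = liftPt j ξ (downEtale W) (downPt ξ W t) := by
  have e1 : (t.left ≫ (graphDown (j := j) W).left) ≫ pullback.fst (W.hom ≫ j) j = t.left :=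
    (Category.assoc _ _ _).trans
      ((congrArg (fun x => t.left ≫ x) (graphDown_fst W)).trans (Category.comp_id t.left))
  have e2 : (liftPt j ξ (downEtale (j := j) W) (downPt ξ W t)).left ≫ pullback.fst (W.hom ≫ j) j =
      t.left := pullback.lift_fst _ _ _
  exact fiber_bc_ext j (downEtale (j := j) W) ξ _ _ (e1.trans e2.symm)

variable (f' j') in
/-- The base change of an étale scheme over the base change, over the original scheme. -/
noncomputable def upEtale [AlgebraicGeometry.Etale j'] (W : S'.Etale) : X.Etale :=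
  MorphismProperty.Over.mk ⊤ (((EtCoh.bc f').obj W).hom ≫ j')
    (MorphismProperty.comp_mem _ _ _ ((EtCoh.bc f').obj W).prop ‹AlgebraicGeometry.Etale j'›)

include c in
lemma isPullback_up (W : S'.Etale) :
    IsPullback (pullback.fst W.hom f') (pullback.snd W.hom f' ≫ j') (W.hom ≫ j) f :=
  (IsPullback.of_hasPullback W.hom f').paste_vert c.flip

/-- It is the base change. -/
noncomputable def upIso [AlgebraicGeometry.Etale j'] (W : S'.Etale) :
    upEtale f' j' W ≅ (EtCoh.bc f).obj (downEtale (j := j) W) :=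
  MorphismProperty.Over.isoMk ((isPullback_up c W).isoPullback :
      pullback W.hom f' ≅ pullback (W.hom ≫ j) f)
    ((isPullback_up c W).isoPullback_hom_snd)

lemma upIso_fst [AlgebraicGeometry.Etale j'] (W : S'.Etale) :
    (upIso c W).hom.left ≫ pullback.fst (W.hom ≫ j) f = pullback.fst W.hom f' :=
  (isPullback_up c W).isoPullback_hom_fst

include c in
lemma etale_top : AlgebraicGeometry.Etale j' :=
  MorphismProperty.of_isPullback (P := @AlgebraicGeometry.Etale) c.flip inferInstance

/-- The point of the base change through which classes are compared. -/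
lemma comparePt [AlgebraicGeometry.Etale j'] (W : S'.Etale) {V : S.Etale}
    (μ : W ⟶ (EtCoh.bc j).obj V) (n : downEtale (j := j) W ⟶ V)
    (hn : μ.left ≫ pullback.fst V.hom j = n.left) :
    ((𝟙 ((EtCoh.bc f').obj W).left ≫ ((EtCoh.bc f').map μ).left) ≫
        (bcSq f j f' j' c.w V).left) ≫ pullback.fst ((EtCoh.bc f).obj V).hom j' =
      (upIso c W).hom.left ≫ ((EtCoh.bc f).map n).left := by
  refine pullback.hom_ext ?_ ?_
  · refine ((Category.assoc _ _ _).trans ((Category.assoc _ _ _).trans ((congrArg (_ ≫ ·)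
      (bcSq_fst f j f' j' c.w V)).trans ((congrArg (· ≫ _) (Category.id_comp _)).trans
        ((Category.assoc _ _ _).symm.trans ((congrArg (· ≫ _) (EtCoh.isPullback_bc_map f' μ).w).trans
          ((Category.assoc _ _ _).trans (congrArg (_ ≫ ·) hn)))))))).trans ?_
    exact ((Category.assoc _ _ _).trans ((congrArg (_ ≫ ·) (EtCoh.isPullback_bc_map f n).w).trans
      ((Category.assoc _ _ _).symm.trans (congrArg (· ≫ n.left) (upIso_fst c W))))).symm
  · have h1 : (((𝟙 ((EtCoh.bc f').obj W).left ≫ ((EtCoh.bc f').map μ).left) ≫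
        (bcSq f j f' j' c.w V).left) ≫ pullback.snd ((EtCoh.bc f).obj V).hom j') =
        ((EtCoh.bc f').obj W).hom :=
      lift_w (bcSq f j f' j' c.w V) (lift_w ((EtCoh.bc f').map μ) (Category.id_comp _))
    have h2 : (((upIso c W).hom.left ≫ ((EtCoh.bc f).map n).left) ≫ pullback.snd V.hom f) =
        ((EtCoh.bc f').obj W).hom ≫ j' :=
      lift_w ((EtCoh.bc f).map n) (MorphismProperty.Over.w (upIso c W).hom)
    refine ((Category.assoc _ _ _).trans ((congrArg (_ ≫ ·) pullback.condition).trans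
      ((Category.assoc _ _ _).symm.trans (congrArg (· ≫ j') h1)))).trans h2.symm

/-- The class of a transported cycle. -/
lemma cls_transport [AlgebraicGeometry.Etale j'] {q : ℕ} (W : S'.Etale) {V : S.Etale}
    (μ : W ⟶ (EtCoh.bc j).obj V) (n : downEtale (j := j) W ⟶ V)
    (hn : μ.left ≫ pullback.fst V.hom j = n.left)
    (φ : Resn.Hom j' (injResn (injectiveResolution F)) (injResn (injectiveResolution F')) α)
    {z : ((injResn (injectiveResolution F)).X q).obj.obj (op ((EtCoh.bc f).obj V))}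
    (hz : ((injResn (injectiveResolution F)).d q).hom.app (op ((EtCoh.bc f).obj V)) z = 0)
    (hz₁ : ((injResn (injectiveResolution F')).d q).hom.app (op ((EtCoh.bc f').obj ((EtCoh.bc j).obj V)))
      (((injResn (injectiveResolution F')).X q).obj.map (bcSq f j f' j' c.w V).op
        (((EtCoh.pullPushAdj j').homEquiv _ _ (φ.f q)).hom.app (op ((EtCoh.bc f).obj V)) z)) = 0) :
    (injResn (injectiveResolution F')).clsAt _ hz₁ ((EtCoh.bc f').obj W).hom
        (𝟙 _ ≫ ((EtCoh.bc f').map μ).left) (lift_w _ (Category.id_comp _)) =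
      ((injResn (injectiveResolution F)).clsAt z hz (upEtale f' j' W).hom
        ((upIso c W).hom.left ≫ ((EtCoh.bc f).map n).left)
        (lift_w _ (MorphismProperty.Over.w (upIso c W).hom))).comp (Ext.mk₀
          ((((EtCore.pullComp ((EtCoh.bc f').obj W).hom j').symm ≪≫ EtCore.pullCongr rfl).app F).inv ≫
            (EtCoh.pull ((EtCoh.bc f').obj W).hom).map α)) (add_zero q) :=
  (injResn (injectiveResolution F')).clsAt_hom φ (bcSq f j f' j' c.w V) rfl _ _
    (comparePt c W μ n hn) hz hz₁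

include c in
/-- Étale base change is bijective on stalks. -/
theorem bijective_stalkBC_etale (q : ℕ) : Function.Bijective (stalkBC f j f' j' c.w α ξ q) := by
  haveI := etale_top c
  let I := injResn (injectiveResolution F)
  let J := injResn (injectiveResolution F')
  let φ := bcHom j' α
  refine ⟨(injective_iff_map_eq_zero _).2 fun e he => ?_, fun e' => ?_⟩
  · obtain ⟨V, t, z, hz⟩ := exists_rep f (injectiveResolution F) (ξ ≫ j) q e
    have h1 := rep_stalkBC f j f' j' c.w α ξ hz φ
    rw [he] at h1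
    obtain ⟨W, μ, t', ht, hzero⟩ := exists_cls_eq_zero f' (injectiveResolution F') h1 h1.cycle
    let n : downEtale (j := j) W ⟶ V := MorphismProperty.Over.homMk (μ.left ≫ pullback.fst V.hom j)
      ((Category.assoc _ _ _).trans ((congrArg (μ.left ≫ ·) pullback.condition).trans
        ((Category.assoc _ _ _).symm.trans (congrArg (· ≫ j) (MorphismProperty.Over.w μ)))))
    have hn : (Scheme.pointSmallEtale (ξ ≫ j)).fiber.map n (downPt ξ W t') = t := by
      refine Over.OverMorphism.ext ?_
      have h2 := congrArg (fun s => s.left ≫ pullback.fst V.hom j) ht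
      exact ((Category.assoc _ _ _).symm.trans h2).trans (pullback.lift_fst _ _ _)
    have hc := hzero ((EtCoh.bc f').obj W).hom (𝟙 _) (Category.id_comp _)
    rw [cls_transport c α W μ n rfl φ hz.cycle h1.cycle] at hc
    let A := ((((EtCore.pullComp ((EtCoh.bc f').obj W).hom j').symm ≪≫ EtCore.pullCongr rfl).app F).inv ≫
      (EtCoh.pull ((EtCoh.bc f').obj W).hom).map α)
    haveI : IsIso A := inferInstance
    have hc' := (ext_cancel _ A (inv A) (IsIso.hom_inv_id A)).symm.trans
      ((congrArg (fun x => Ext.comp x (Ext.mk₀ (inv A)) (add_zero q)) hc).trans (Ext.zero_comp _ _ _ _ _))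
    have h3 := hz.res n (downPt ξ W t') hn
    refine eq_zero_of_cls f (injectiveResolution F) h3 h3.cycle ?_
    have hi : (upIso c W).inv.left ≫ (upIso c W).hom.left = 𝟙 _ :=
      congrArg (fun m => m.left) (upIso c W).inv_hom_id
    haveI := pull_preservesFiniteLimits (upIso c W).inv.left
    refine (I.clsAt_res (hm := lift_w _ (Category.id_comp _)) hz.cycle _ (𝟙 _) (Category.id_comp _) rfl
      h3.cycle).trans ?_
    refine (I.clsAt_pull (hm := lift_w _ (MorphismProperty.Over.w (upIso c W).hom))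
      (upIso c W).inv.left (MorphismProperty.Over.w (upIso c W).inv) _ _ ?_ hz.cycle).trans
        ((congrArg _ hc').trans (map_zero _))
    exact (Category.assoc _ _ _).symm.trans (congrArg (· ≫ ((EtCoh.bc f).map n).left) hi)
  · obtain ⟨W, t, z', hz'⟩ := exists_rep f' (injectiveResolution F') ξ q e'
    let A := ((((EtCore.pullComp ((EtCoh.bc f').obj W).hom j').symm ≪≫ EtCore.pullCongr rfl).app F).inv ≫
      (EtCoh.pull ((EtCoh.bc f').obj W).hom).map α)
    haveI : IsIso A := inferInstance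
    let x' := J.clsAt z' hz'.cycle ((EtCoh.bc f').obj W).hom (𝟙 _) (Category.id_comp _)
    obtain ⟨z₁, hz₁, hcls⟩ := exists_clsAt_eq (injectiveResolution F) (upEtale f' j' W)
      (x'.comp (Ext.mk₀ (inv A)) (add_zero q))
    let z := (I.X q).obj.map (upIso c W).inv.op z₁
    have hz : (I.d q).hom.app (op ((EtCoh.bc f).obj (downEtale W))) z = 0 :=
      (NatTrans.naturality_apply (I.d q).hom _ z₁).trans ((congrArg _ hz₁).trans (map_zero _))
    obtain ⟨e, he⟩ := exists_rep_of_cycle f (injectiveResolution F) (ξ ≫ j) q (downEtale W)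
      (downPt ξ W t) z hz
    refine ⟨e, ?_⟩
    have h1 := rep_stalkBC f j f' j' c.w α ξ he φ
    have h2 := h1.res (graphDown W) t (map_graphDown ξ W t)
    refine (rep_of_cls_eq f' (injectiveResolution F') h2 h2.cycle hz'.cycle ?_).unique hz'
    refine Eq.symm ((J.clsAt_res (hm := lift_w _ (Category.id_comp _)) h1.cycle _ (𝟙 _)
      (Category.id_comp _) rfl h2.cycle).trans ?_)
    refine (cls_transport c α W (graphDown W) (𝟙 _) (graphDown_fst W) φ hz h1.cycle).trans ?_
    have hm : ((upIso c W).hom.left ≫ ((EtCoh.bc f).map (𝟙 (downEtale (j := j) W))).left) ≫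
        (upIso c W).inv.left = 𝟙 _ := by
      rw [CategoryTheory.Functor.map_id]
      exact (congrArg (· ≫ _) (Category.comp_id _)).trans
        (congrArg (fun m => m.left) (upIso c W).hom_inv_id)
    have h4 : I.clsAt z hz (upEtale f' j' W).hom
        ((upIso c W).hom.left ≫ ((EtCoh.bc f).map (𝟙 (downEtale (j := j) W))).left)
        (lift_w _ (MorphismProperty.Over.w (upIso c W).hom)) = x'.comp (Ext.mk₀ (inv A)) (add_zero q) :=
      (I.clsAt_res (hm := Category.id_comp _) hz₁ (upIso c W).inv _ _ hm hz).trans hcls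
    refine (congrArg (fun x => Ext.comp x (Ext.mk₀ A) (add_zero q)) h4).trans ?_
    exact ext_cancel _ (inv A) A (IsIso.inv_hom_id A)

end Etale

end Groth.EtaleBase.EtLimit
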