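import Groth.Agent.EtaleBase.Limit.StrictCompat

/-!
The base change morphism is an isomorphism exactly when pullback on the fibres over all strict
henselizations is bijective.
-/

set_option autoImplicit false

universe u

open CategoryTheory CategoryTheory.Limits AlgebraicGeometry Opposite IsLocalRing
open Groth.EtaleBase Groth.EtaleBase.EtLocalRing Groth.AlgSpEt.StrictLocal

namespace Groth.EtaleBase.EtLimit

lemma specOf_compat {X S : Scheme.{u}} (f : X ⟶ S) (x : X) (RS : Type u) [CommRing RS]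
    [Algebra (S.presheaf.stalk (f.base x)) RS] (RX : Type u) [CommRing RX] [Algebra (X.presheaf.stalk x) RX]
    (ψ : RS →+* RX)
    (h : ψ.comp (algebraMap (S.presheaf.stalk (f.base x)) RS) =
      (algebraMap (X.presheaf.stalk x) RX).comp (f.stalkMap x).hom) :
    Spec.map (CommRingCat.ofHom ψ) ≫ Hens2.specOf S (f.base x) RS = Hens2.specOf X x RX ≫ f := by
  have h' : CommRingCat.ofHom (algebraMap (S.presheaf.stalk (f.base x)) RS) ≫ CommRingCat.ofHom ψ =
      f.stalkMap x ≫ CommRingCat.ofHom (algebraMap (X.presheaf.stalk x) RX) := CommRingCat.hom_ext h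
  refine (Category.assoc _ _ _).symm.trans ((congrArg (· ≫ S.fromSpecStalk (f.base x))
    ((Spec.map_comp _ _).symm.trans ((congrArg Spec.map h').trans (Spec.map_comp _ _)))).trans ?_)
  exact (Category.assoc _ _ _).trans ((congrArg (_ ≫ ·) (Scheme.SpecMap_stalkMap_fromSpecStalk f)).trans
    (Category.assoc _ _ _).symm)

variable {X S Y T : Scheme.{u}} (f : X ⟶ S) (g : T ⟶ S)
  [QuasiCompact g] [QuasiSeparated g] (h : Y ⟶ X) (e : Y ⟶ T) (c : IsPullback e h g f)
  [PreservesFiniteLimits (EtCoh.pull e)] (F : EtCoh.Ab T) (q : ℕ)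

/-- The forward implication. -/
theorem bijective_HpullVia_of_isIso_bcQ (hiso : IsIso (EtBC.bcQ g f h e c.w q F)) (x : X)
    (RS : Type u) [CommRing RS] [IsLocalRing RS] [Algebra (S.presheaf.stalk (f.base x)) RS]
    [IsLocalHom (algebraMap (S.presheaf.stalk (f.base x)) RS)]
    [hRS : Hensel.IsStrictHenselization (S.presheaf.stalk (f.base x)) RS]
    (RX : Type u) [CommRing RX] [IsLocalRing RX] [Algebra (X.presheaf.stalk x) RX]
    [IsLocalHom (algebraMap (X.presheaf.stalk x) RX)]
    [hRX : Hensel.IsStrictHenselization (X.presheaf.stalk x) RX] (ψ : RS →+* RX) [IsLocalHom ψ]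
    (hψ : ψ.comp (algebraMap (S.presheaf.stalk (f.base x)) RS) =
      (algebraMap (X.presheaf.stalk x) RX).comp (f.stalkMap x).hom)
    (PS PX : Scheme.{u}) (aS : PS ⟶ T) (bS : PS ⟶ Spec (CommRingCat.of RS))
    (hS : IsPullback aS bS g (Hens2.specOf S (f.base x) RS))
    (aX : PX ⟶ T) (bX : PX ⟶ Spec (CommRingCat.of RX))
    (hX : IsPullback aX bX g (Hens2.specOf X x RX ≫ f))
    (m : PX ⟶ PS) (w : m ≫ aS = aX) (hmb : m ≫ bS = bX ≫ Spec.map (CommRingCat.ofHom ψ))
    [PreservesFiniteLimits (EtCoh.pull m)] :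
    Function.Bijective (EtCore.HpullVia m aS aX w F q) := by
  haveI := hRS.henselian
  haveI := hRX.henselian
  haveI : IsSepClosed (ResidueField RS) :=
    haveI := hRS.isSepClosure
    IsSepClosure.sep_closed (ResidueField (S.presheaf.stalk (f.base x)))
  haveI : IsSepClosed (ResidueField RX) :=
    haveI := hRX.isSepClosure
    IsSepClosure.sep_closed (ResidueField (X.presheaf.stalk x))
  let ρ' := residue RX
  let ρ : RS →+* ResidueField RX := (residue RX).comp ψ
  let ξ := locPt RX ρ' ≫ Hens2.specOf X x RX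
  have hν := specOf_compat f x RS RX ψ hψ
  have hpt : locPt RX ρ' ≫ Spec.map (CommRingCat.ofHom ψ) = locPt RS ρ :=
    (Spec.map_comp (CommRingCat.ofHom ψ) (CommRingCat.ofHom ρ')).symm
  have hη : locPt RS ρ ≫ Hens2.specOf S (f.base x) RS = ξ ≫ f :=
    ((congrArg (· ≫ Hens2.specOf S (f.base x) RS) hpt.symm).trans ((Category.assoc _ _ _).trans
      (congrArg (locPt RX ρ' ≫ ·) hν))).trans (Category.assoc _ _ _).symm
  exact (bijective_stalkBC_iff_HpullVia f g h e F c RS RX ρ ρ' ξ rfl hη _ hν hpt hS hX m w hmb q).1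
    (bijective_stalkBC g f h e c.w ξ (𝟙 ((EtCoh.pull e).obj F)) q hiso)

/-- The converse. -/
theorem isIso_bcQ_of_bijective_HpullVia
    (H : ∀ (x : X) (RS : Type u) [CommRing RS] [IsLocalRing RS] [Algebra (S.presheaf.stalk (f.base x)) RS]
      [IsLocalHom (algebraMap (S.presheaf.stalk (f.base x)) RS)] [Hensel.IsStrictHenselization (S.presheaf.stalk (f.base x)) RS]
      (RX : Type u) [CommRing RX] [IsLocalRing RX] [Algebra (X.presheaf.stalk x) RX]
      [IsLocalHom (algebraMap (X.presheaf.stalk x) RX)] [Hensel.IsStrictHenselization (X.presheaf.stalk x) RX]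
      (ψ : RS →+* RX) [IsLocalHom ψ],
      ψ.comp (algebraMap (S.presheaf.stalk (f.base x)) RS) = (algebraMap (X.presheaf.stalk x) RX).comp (f.stalkMap x).hom →
      ∀ (PS PX : Scheme.{u}) (aS : PS ⟶ T) (bS : PS ⟶ Spec (CommRingCat.of RS))
        (_ : IsPullback aS bS g (Hens2.specOf S (f.base x) RS))
        (aX : PX ⟶ T) (bX : PX ⟶ Spec (CommRingCat.of RX))
        (_ : IsPullback aX bX g (Hens2.specOf X x RX ≫ f))
        (m : PX ⟶ PS) (w : m ≫ aS = aX), m ≫ bS = bX ≫ Spec.map (CommRingCat.ofHom ψ) →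
        ∀ [PreservesFiniteLimits (EtCoh.pull m)], Function.Bijective (EtCore.HpullVia m aS aX w F q)) :
    IsIso (EtBC.bcQ g f h e c.w q F) := by
  refine isIso_bcQ g f h e c.w q fun s => ?_
  let ξ := geomPoint s
  let x : X := ξ default
  let RX : Type u := EtBase.etaleLocalRing ξ
  letI : Algebra (X.presheaf.stalk x) RX := (toEtale ξ).hom.toAlgebra
  obtain ⟨hlocX, hX⟩ := Groth.AlgSpEt.StrictHens.isStrictHenselization ξ
  haveI : IsLocalHom (algebraMap (X.presheaf.stalk x) RX) := hlocX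
  haveI : Hensel.IsStrictHenselization (X.presheaf.stalk x) RX := hX
  let RS : Type u := EtBase.etaleLocalRing (ξ ≫ f)
  letI : Algebra (S.presheaf.stalk (f.base x)) RS := (toEtale (ξ ≫ f)).hom.toAlgebra
  obtain ⟨hlocS, hS⟩ := Groth.AlgSpEt.StrictHens.isStrictHenselization (ξ ≫ f)
  haveI : IsLocalHom (algebraMap (S.presheaf.stalk (f.base x)) RS) := hlocS
  haveI : Hensel.IsStrictHenselization (S.presheaf.stalk (f.base x)) RS := hS
  haveI := hX.henselian
  haveI := hS.henselian
  haveI : IsSepClosed (ResidueField RS) := hS.isSepClosure.sep_closed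
  haveI : IsSepClosed (ResidueField RX) :=
    haveI := hX.isSepClosure
    IsSepClosure.sep_closed (ResidueField (X.presheaf.stalk x))
  obtain ⟨ψ, hψloc, hψ⟩ := exists_strictHenselization_map (S.presheaf.stalk (f.base x))
    (X.presheaf.stalk x) (f.stalkMap x).hom RS RX
  haveI := hψloc
  haveI : IsLocalHom (ev ξ).hom := isLocalHom_ev ξ
  let ρ : RS →+* _ := (ev ξ).hom.comp ψ
  have hν := specOf_compat f x RS RX ψ hψ
  have hξ : locPt RX (ev ξ).hom ≫ Hens2.specOf X x RX = ξ := specMap_ev_toEtale ξ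
  have hpt : locPt RX (ev ξ).hom ≫ Spec.map (CommRingCat.ofHom ψ) = locPt RS ρ :=
    (Spec.map_comp (CommRingCat.ofHom ψ) (ev ξ)).symm
  have hη : locPt RS ρ ≫ Hens2.specOf S (f.base x) RS = ξ ≫ f :=
    (congrArg (· ≫ Hens2.specOf S (f.base x) RS) hpt.symm).trans ((Category.assoc _ _ _).trans
      ((congrArg (locPt RX (ev ξ).hom ≫ ·) hν).trans
        ((Category.assoc _ _ _).symm.trans (congrArg (· ≫ f) hξ))))
  let σS := Hens2.specOf S (f.base x) RS
  let τ := Hens2.specOf X x RX ≫ f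
  let m : pullback g τ ⟶ pullback g σS := pullback.lift (pullback.fst g τ)
    (pullback.snd g τ ≫ Spec.map (CommRingCat.ofHom ψ))
    (pullback.condition.trans ((congrArg (_ ≫ ·) hν.symm).trans (Category.assoc _ _ _).symm))
  haveI := pull_preservesFiniteLimits m
  exact (bijective_stalkBC_iff_HpullVia f g h e F c RS RX ρ (ev ξ).hom ξ hξ hη _ hν hpt
    (IsPullback.of_hasPullback g σS) (IsPullback.of_hasPullback g τ) m (pullback.lift_fst _ _ _)
    (pullback.lift_snd _ _ _) q).2
    (H x RS RX ψ hψ _ _ _ _ (IsPullback.of_hasPullback g σS) _ _ (IsPullback.of_hasPullback g τ) m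
      (pullback.lift_fst _ _ _) (pullback.lift_snd _ _ _))

end Groth.EtaleBase.EtLimit
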