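import Groth.Agent.EtaleBase.Limit.FromStage

/-!
Systems of sheaves given by transition maps on inverse images.
-/

set_option autoImplicit false

universe u

open CategoryTheory CategoryTheory.Limits CategoryTheory.Abelian AlgebraicGeometry Opposite

namespace Groth.EtaleBase.EtLimit

section Transpose

variable {X Y Z : Scheme.{u}}

/-- The adjoint form of compatibility of morphisms along a composite. -/
theorem transpose_via (f : X ⟶ Y) (t : Y ⟶ Z) {f₀ : X ⟶ Z} (w : f ≫ t = f₀) {A : EtCoh.Ab Z}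
    {B : EtCoh.Ab Y} {C : EtCoh.Ab X} (α : (EtCoh.pull f₀).obj A ⟶ C)
    (β : (EtCoh.pull t).obj A ⟶ B) (γ : (EtCoh.pull f).obj B ⟶ C)
    (h : α = (EtCore.pullCongr w.symm ≪≫ EtCore.pullComp f t).hom.app A ≫
      (EtCoh.pull f).map β ≫ γ) :
    (EtCoh.pullPushAdj t).homEquiv _ _ β ≫
        (EtCoh.push t).map ((EtCoh.pullPushAdj f).homEquiv _ _ γ) =
      (EtCoh.pullPushAdj f₀).homEquiv _ _ α ≫ pushVia f t w C := by
  subst w
  have e1 : (((EtCore.pullComp f t).symm ≪≫ EtCore.pullCongr (rfl : f ≫ t = f ≫ t)).app A).hom ≫ α =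
      (EtCoh.pull f).map β ≫ γ := by
    rw [h]
    simp [EtCore.pullCongr]
  rw [← Adjunction.homEquiv_naturality_right, ← Adjunction.homEquiv_naturality_left, ← e1,
    Adjunction.homEquiv_naturality_right, Adjunction.homEquiv_naturality_right, homEquiv_pullVia,
    Category.assoc, ← pushVia_natural, ← Category.assoc, ← Adjunction.homEquiv_unit]

end Transpose

variable {ι : Type u} [Preorder ι] {Xs : ιᵒᵖ ⥤ Scheme.{u}}
variable (F : ∀ i : ι, EtCoh.Ab (Xs.obj (op i)))
variable (φ : ∀ ⦃i j : ι⦄ (h : i ≤ j), (EtCoh.pull (Xs.map (homOfLE h).op)).obj (F i) ⟶ F j)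

/-- The adjoint transition morphisms. -/
noncomputable def sysHom {i j : ι} (h : i ≤ j) : F i ⟶ (EtCoh.push (trn Xs h)).obj (F j) :=
  (EtCoh.pullPushAdj (trn Xs h)).homEquiv (F i) (F j) (φ h)

/-- The action of a morphism of the category of the system. -/
noncomputable def pmap {a b : Obj Xs} (f : a ⟶ b) :
    (F b.idx).obj.obj (op b.obj) ⟶ (F a.idx).obj.obj (op a.obj) :=
  (sysHom F φ (Obj.idx_le f)).hom.app (op b.obj) ≫ (F a.idx).obj.map (factor Xs f (Obj.idx_le f)).op

lemma pmap_apply {a b : Obj Xs} (f : a ⟶ b) (h : b.idx ≤ a.idx) (y : (F b.idx).obj.obj (op b.obj)) :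
    pmap F φ f y = (F a.idx).obj.map (factor Xs f h).op ((sysHom F φ h).hom.app (op b.obj) y) :=
  rfl

lemma factor_st {i j : ι} (h : i ≤ j) (V : (Xs.obj (op i)).Etale) :
    factor Xs (st h V) h = 𝟙 ((EtCoh.bc (trn Xs h)).obj V) :=
  MorphismProperty.Over.Hom.ext (pullback.hom_ext
    ((pullback.lift_fst _ _ _).trans (Category.id_comp _).symm)
    ((pullback.lift_snd _ _ _).trans (Category.id_comp _).symm))

lemma pmap_st {i j : ι} (h : i ≤ j) (V : (Xs.obj (op i)).Etale) (y : (F i).obj.obj (op V)) :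
    pmap F φ (st h V) y = (sysHom F φ h).hom.app (op V) y :=
  (congrArg (fun m => (F j).obj.map (Quiver.Hom.op m) _) (factor_st h V)).trans
    (ConcreteCategory.congr_hom ((F j).obj.map_id _) _)

variable (hφ : ∀ ⦃i j k : ι⦄ (hij : i ≤ j) (hjk : j ≤ k),
  φ (hij.trans hjk) = (EtLim.pullTrans Xs hij hjk).hom.app (F i) ≫
    (EtCoh.pull (Xs.map (homOfLE hjk).op)).map (φ hij) ≫ φ hjk)

include hφ in
lemma sysHom_comp {i j k : ι} (h : i ≤ j) (h' : j ≤ k) :
    sysHom F φ h ≫ (EtCoh.push (trn Xs h)).map (sysHom F φ h') =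
      sysHom F φ (h.trans h') ≫ pushVia (trn Xs h') (trn Xs h) (trn_trn Xs h h') (F k) :=
  transpose_via (trn Xs h') (trn Xs h) (trn_trn Xs h h') (φ (h.trans h')) (φ h) (φ h') (hφ h h')

set_option backward.isDefEq.respectTransparency.types false in
include hφ in
lemma pmap_comp {a b d : Obj Xs} (f : a ⟶ b) (g : b ⟶ d) (y : (F d.idx).obj.obj (op d.obj)) :
    pmap F φ f (pmap F φ g y) = pmap F φ (f ≫ g) y := by
  have hf := Obj.idx_le f
  have hg := Obj.idx_le g
  rw [pmap_apply F φ g hg, pmap_apply F φ f hf, pmap_apply F φ (f ≫ g) (hg.trans hf)]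
  refine (congrArg _ (NatTrans.naturality_apply (sysHom F φ hf).hom (factor Xs g hg).op
    ((sysHom F φ hg).hom.app (op d.obj) y))).trans ?_
  have h1 : (sysHom F φ hf).hom.app (op ((EtCoh.bc (trn Xs hg)).obj d.obj))
        ((sysHom F φ hg).hom.app (op d.obj) y) =
      (pushVia (trn Xs hf) (trn Xs hg) (trn_trn Xs hg hf) (F a.idx)).hom.app (op d.obj)
        ((sysHom F φ (hg.trans hf)).hom.app (op d.obj) y) :=
    ConcreteCategory.congr_hom (congrArg (fun m => m.hom.app (op d.obj))
      (sysHom_comp F φ hφ hg hf)) y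
  refine (congrArg (fun z => (F a.idx).obj.map (factor Xs f hf).op
    ((F a.idx).obj.map ((EtCoh.bc (trn Xs hf)).map (factor Xs g hg)).op z))
      (h1.trans (pushVia_app _ _ _ _ _ _))).trans ?_
  refine (congrArg _ (mapMap (F a.idx).obj _ _ _)).trans ((mapMap (F a.idx).obj _ _ _).trans ?_)
  refine congrArg (fun m => (F a.idx).obj.map (Quiver.Hom.op m) _) ?_
  refine MorphismProperty.Over.Hom.ext (pullback.hom_ext ?_
    ((MorphismProperty.Over.w (factor Xs f hf ≫ (EtCoh.bc (trn Xs hf)).map (factor Xs g hg) ≫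
      bcVia (trn Xs hf) (trn Xs hg) (trn_trn Xs hg hf) d.obj)).trans
        (MorphismProperty.Over.w (factor Xs (f ≫ g) (hg.trans hf))).symm))
  refine Eq.trans ?_ (pullback.lift_fst _ _ _).symm
  have k1 := bcVia_fst (trn Xs hf) (trn Xs hg) (trn_trn Xs hg hf) d.obj
  have k2 := (EtCoh.isPullback_bc_map (trn Xs hf) (factor Xs g hg)).w
  have k3 : (factor Xs f hf).left ≫ pullback.fst b.obj.hom (trn Xs hf) = f.1 := pullback.lift_fst _ _ _
  have k4 : (factor Xs g hg).left ≫ pullback.fst d.obj.hom (trn Xs hg) = g.1 := pullback.lift_fst _ _ _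
  refine (Category.assoc _ _ _).trans ((congrArg ((factor Xs f hf).left ≫ ·)
    ((Category.assoc _ _ _).trans ((congrArg (_ ≫ ·) k1).trans ((Category.assoc _ _ _).symm.trans
      ((congrArg (· ≫ _) k2).trans ((Category.assoc _ _ _).trans (congrArg (_ ≫ ·) k4))))))).trans ?_)
  exact (Category.assoc _ _ _).symm.trans (congrArg (· ≫ g.1) k3)

/-- The fixed sections. -/
noncomputable def fixedSec (a : Obj Xs) : AddSubgroup ((F a.idx).obj.obj (op a.obj)) :=
  ((pmap F φ (𝟙 a)).hom - AddMonoidHom.id _).ker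

lemma mem_fixedSec {a : Obj Xs} {y : (F a.idx).obj.obj (op a.obj)} :
    y ∈ fixedSec F φ a ↔ pmap F φ (𝟙 a) y = y :=
  AddMonoidHom.mem_ker.trans sub_eq_zero

include hφ in
lemma pmap_mem {a b : Obj Xs} (f : a ⟶ b) (y : (F b.idx).obj.obj (op b.obj)) :
    pmap F φ f y ∈ fixedSec F φ a := by
  rw [mem_fixedSec, pmap_comp F φ hφ, Category.id_comp]

include hφ in
lemma pmap_id_pmap {a b : Obj Xs} (f : a ⟶ b) (y : (F b.idx).obj.obj (op b.obj)) :
    pmap F φ f (pmap F φ (𝟙 b) y) = pmap F φ f y := by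
  rw [pmap_comp F φ hφ, Category.comp_id]

/-- The presheaf of fixed sections. -/
noncomputable def sysPresheaf : (Obj Xs)ᵒᵖ ⥤ AddCommGrpCat.{u + 1} where
  obj a := AddCommGrpCat.of (fixedSec F φ a.unop)
  map {a b} f := AddCommGrpCat.ofHom
    (((pmap F φ f.unop).hom.comp (fixedSec F φ a.unop).subtype).codRestrict (fixedSec F φ b.unop)
      fun y => pmap_mem F φ hφ f.unop _)
  map_id a := by
    ext y
    exact mem_fixedSec F φ |>.1 y.2
  map_comp {a b d} f g := by
    ext y
    exact (pmap_comp F φ hφ g.unop f.unop _).symm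

lemma incl_factor {j : ι} {V W : (Xs.obj (op j)).Etale} (g : V ⟶ W) :
    factor Xs ((incl Xs j).map g) le_rfl =
      g ≫ factor Xs (𝟙 ((incl Xs j).obj W)) le_rfl :=
  MorphismProperty.Over.Hom.ext (pullback.hom_ext
    ((pullback.lift_fst _ _ _).trans (((Category.assoc _ _ _).trans
      ((congrArg (g.left ≫ ·) (pullback.lift_fst _ _ _)).trans (Category.comp_id _))).symm))
    ((pullback.lift_snd _ _ _).trans (((Category.assoc _ _ _).trans
      ((congrArg (g.left ≫ ·) (pullback.lift_snd _ _ _)).trans (MorphismProperty.Over.w g))).symm)))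

lemma pmap_incl {j : ι} {V W : (Xs.obj (op j)).Etale} (g : V ⟶ W) (y : (F j).obj.obj (op W)) :
    pmap F φ ((incl Xs j).map g) y = (F j).obj.map g.op (pmap F φ (𝟙 ((incl Xs j).obj W)) y) := by
  refine (congrArg (fun m => (F j).obj.map (Quiver.Hom.op m) _) (incl_factor g)).trans ?_
  exact (mapMap (F j).obj g _ _).symm

lemma pmap_id_natural {j : ι} {V W : (Xs.obj (op j)).Etale} (g : V ⟶ W) (y : (F j).obj.obj (op W)) :
    pmap F φ (𝟙 ((incl Xs j).obj V)) ((F j).obj.map g.op y) =
      (F j).obj.map g.op (pmap F φ (𝟙 ((incl Xs j).obj W)) y) := by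
  refine (congrArg _ (NatTrans.naturality_apply (sysHom F φ le_rfl).hom g.op y)).trans ?_
  refine (mapMap (F j).obj _ _ _).trans (Eq.trans ?_ (mapMap (F j).obj g _ _).symm)
  refine congrArg (fun m => (F j).obj.map (Quiver.Hom.op m) _) ?_
  refine MorphismProperty.Over.Hom.ext (pullback.hom_ext ?_ ((MorphismProperty.Over.w
    (factor Xs (𝟙 ((incl Xs j).obj V)) le_rfl ≫ (EtCoh.bc (trn Xs le_rfl)).map g)).trans
      (MorphismProperty.Over.w (g ≫ factor Xs (𝟙 ((incl Xs j).obj W)) le_rfl)).symm))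
  have k2 := (EtCoh.isPullback_bc_map (trn Xs (le_refl j)) g).w
  refine (Category.assoc _ _ _).trans ((congrArg (_ ≫ ·) k2).trans ((Category.assoc _ _ _).symm.trans
    ((congrArg (· ≫ g.left) (pullback.lift_fst _ _ _)).trans ((Category.id_comp _).trans ?_))))
  exact ((Category.assoc _ _ _).trans
    ((congrArg (g.left ≫ ·) (pullback.lift_fst _ _ _)).trans (Category.comp_id _))).symm

/-- The system of sheaves. -/
noncomputable def sysSheaf : AbSys Xs :=
  ⟨sysPresheaf F φ hφ, Presheaf.isSheaf_of_isSheaf_comp _ _ (forget AddCommGrpCat.{u + 1})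
    ((isSheaf_iff_isSheaf_of_type _ _).2 (isSheaf_of_fibres Xs _ fun j W S hS x hx => by
      have hF : Presieve.IsSheaf (Xs.obj (op j)).smallEtaleTopology
          ((F j).obj ⋙ forget AddCommGrpCat.{u + 1}) :=
        (isSheaf_iff_isSheaf_of_type _ _).1
          (GrothendieckTopology.HasSheafCompose.isSheaf (F := forget AddCommGrpCat.{u + 1})
            (F j).obj (F j).property)
      have hres : ∀ {V V' : (Xs.obj (op j)).Etale} (g : V ⟶ V')
          (z : fixedSec F φ ((incl Xs j).obj V')),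
          pmap F φ ((incl Xs j).map g) z.1 = (F j).obj.map g.op z.1 := fun g z => by
        rw [pmap_incl]
        exact congrArg _ ((mem_fixedSec F φ).1 z.2)
      let x' : Presieve.FamilyOfElements ((F j).obj ⋙ forget AddCommGrpCat.{u + 1}) S.arrows :=
        fun V g hg => (x g hg).1
      have hx' : x'.Compatible := fun V₁ V₂ V g₁ g₂ k₁ k₂ h₁ h₂ e =>
        (hres g₁ (x k₁ h₁)).symm.trans ((congrArg Subtype.val (hx g₁ g₂ h₁ h₂ e)).trans
          (hres g₂ (x k₂ h₂)))
      have hfix : pmap F φ (𝟙 ((incl Xs j).obj W)) ((hF S hS).amalgamate x' hx') =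
          (hF S hS).amalgamate x' hx' := by
        refine (hF S hS).isSeparatedFor.ext fun V g hg => ?_
        refine (pmap_id_natural F φ g _).symm.trans ?_
        refine (congrArg _ ((hF S hS).valid_glue hx' g hg)).trans ?_
        exact ((mem_fixedSec F φ).1 (x g hg).2).trans ((hF S hS).valid_glue hx' g hg).symm
      refine ⟨⟨(hF S hS).amalgamate x' hx', (mem_fixedSec F φ).2 hfix⟩, fun V g hg => ?_, fun t ht => ?_⟩
      · exact Subtype.ext ((hres g ⟨_, (mem_fixedSec F φ).2 hfix⟩).trans ((hF S hS).valid_glue hx' g hg))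
      · refine Subtype.ext ((hF S hS).isSeparatedFor.ext fun V g hg => ?_)
        exact ((hres g t).symm.trans (congrArg Subtype.val (ht g hg))).trans
          ((hF S hS).valid_glue hx' g hg).symm))⟩

/-- The inclusion of the fixed sections. -/
noncomputable def sysIncl (j : ι) : (res Xs j).obj (sysSheaf F φ hφ) ⟶ F j :=
  ObjectProperty.homMk
    { app := fun V => AddCommGrpCat.ofHom (fixedSec F φ ((incl Xs j).obj V.unop)).subtype
      naturality := fun V W g => by
        ext y
        exact (pmap_incl F φ g.unop y.1).trans (congrArg _ ((mem_fixedSec F φ).1 y.2)) }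

/-- The projection to the fixed sections. -/
noncomputable def sysProj (j : ι) : F j ⟶ (res Xs j).obj (sysSheaf F φ hφ) :=
  ObjectProperty.homMk
    { app := fun V => AddCommGrpCat.ofHom
        ((pmap F φ (𝟙 ((incl Xs j).obj V.unop))).hom.codRestrict (fixedSec F φ ((incl Xs j).obj V.unop))
          fun y => pmap_mem F φ hφ _ _)
      naturality := fun V W g => by
        ext y
        refine Subtype.ext ?_
        refine (pmap_id_natural F φ g.unop y).trans (Eq.trans ?_ (pmap_incl F φ g.unop _).symm)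
        exact congrArg _ (pmap_id_pmap F φ hφ (𝟙 ((incl Xs j).obj V.unop)) y).symm }

lemma sysIncl_sysProj (j : ι) : sysIncl F φ hφ j ≫ sysProj F φ hφ j = 𝟙 _ := by
  apply (sheafToPresheaf _ _).map_injective
  ext V y
  exact Subtype.ext ((mem_fixedSec F φ).1 y.2)

lemma sysProj_transHom {i j : ι} (h : i ≤ j) :
    sysProj F φ hφ i ≫ transHom (sysSheaf F φ hφ) h =
      sysHom F φ h ≫ (EtCoh.push (trn Xs h)).map (sysProj F φ hφ j) := by
  apply (sheafToPresheaf _ _).map_injective
  ext V y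
  refine Subtype.ext ?_
  show pmap F φ (st h V.unop) (pmap F φ (𝟙 ((incl Xs i).obj V.unop)) y) = pmap F φ (𝟙 ((incl Xs j).obj ((EtCoh.bc (trn Xs h)).obj V.unop))) ((sysHom F φ h).hom.app (op V.unop) y)
  rw [pmap_id_pmap F φ hφ]
  exact ((congrArg (fun m : (incl Xs j).obj ((EtCoh.bc (trn Xs h)).obj V.unop) ⟶ (incl Xs i).obj V.unop =>
      pmap F φ m y) (Category.id_comp (st h V.unop))).symm.trans
    (pmap_comp F φ hφ (𝟙 _) (st h V.unop) y).symm).trans (congrArg _ (pmap_st F φ h V.unop y))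

include hφ in
lemma sysHom_proj_incl {i j : ι} (h : i ≤ j) :
    sysHom F φ h ≫ (EtCoh.push (trn Xs h)).map (sysProj F φ hφ j ≫ sysIncl F φ hφ j) =
      sysHom F φ h := by
  apply (sheafToPresheaf _ _).map_injective
  ext V y
  show pmap F φ (𝟙 ((incl Xs j).obj ((EtCoh.bc (trn Xs h)).obj V.unop))) ((sysHom F φ h).hom.app (op V.unop) y) = (sysHom F φ h).hom.app (op V.unop) y
  refine (congrArg _ (pmap_st F φ h V.unop y).symm).trans ?_
  refine (pmap_comp F φ hφ (𝟙 _) (st h V.unop) y).trans ?_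
  exact (congrArg (fun m : (incl Xs j).obj ((EtCoh.bc (trn Xs h)).obj V.unop) ⟶ (incl Xs i).obj V.unop =>
      pmap F φ m y) (Category.id_comp (st h V.unop))).trans
    (pmap_st F φ h V.unop y)

section Cone

variable [Nonempty ι] [IsDirectedOrder ι] (c : Cone Xs)
variable {C : EtCoh.Ab c.pt} (γ : ∀ i, (EtCoh.pull (proj Xs c i)).obj (F i) ⟶ C)
variable (hγ : ∀ ⦃i j : ι⦄ (h : i ≤ j), γ i = (EtLim.pullTransCone Xs c h).hom.app (F i) ≫
  (EtCoh.pull (c.π.app (op j))).map (φ h) ≫ γ j)

/-- The adjoint of the comparison. -/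
noncomputable def coneAdj (i : ι) : F i ⟶ (EtCoh.push (proj Xs c i)).obj C :=
  (EtCoh.pullPushAdj (proj Xs c i)).homEquiv (F i) C (γ i)

include hγ in
lemma coneAdj_comp {i j : ι} (h : i ≤ j) :
    sysHom F φ h ≫ (EtCoh.push (trn Xs h)).map (coneAdj F c γ j) =
      coneAdj F c γ i ≫ pushVia (proj Xs c j) (trn Xs h) (proj_trn Xs c h) C :=
  transpose_via (proj Xs c j) (trn Xs h) (proj_trn Xs c h) (γ i) (φ h) (γ j) (hγ h)

set_option backward.isDefEq.respectTransparency.types false in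
include hγ in
lemma coneAdj_pmap {a b : Obj Xs} (f : a ⟶ b) (y : (F b.idx).obj.obj (op b.obj)) :
    (coneAdj F c γ a.idx).hom.app (op a.obj) (pmap F φ f y) =
      C.obj.map ((toPt Xs c).map f).op ((coneAdj F c γ b.idx).hom.app (op b.obj) y) := by
  have h := Obj.idx_le f
  rw [pmap_apply F φ f h]
  refine (NatTrans.naturality_apply (coneAdj F c γ a.idx).hom (factor Xs f h).op _).trans ?_
  have h1 : (coneAdj F c γ a.idx).hom.app (op ((EtCoh.bc (trn Xs h)).obj b.obj))
        ((sysHom F φ h).hom.app (op b.obj) y) =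
      (pushVia (proj Xs c a.idx) (trn Xs h) (proj_trn Xs c h) C).hom.app (op b.obj)
        ((coneAdj F c γ b.idx).hom.app (op b.obj) y) :=
    ConcreteCategory.congr_hom (congrArg (fun m => m.hom.app (op b.obj))
      (coneAdj_comp F φ c γ hγ h)) y
  refine (congrArg _ (h1.trans (pushVia_app _ _ _ _ _ _))).trans ((mapMap C.obj _ _ _).trans ?_)
  refine congrArg (fun m => C.obj.map (Quiver.Hom.op m) _) ?_
  refine MorphismProperty.Over.Hom.ext (pullback.hom_ext ?_ ((MorphismProperty.Over.w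
    ((EtCoh.bc (proj Xs c a.idx)).map (factor Xs f h) ≫
      bcVia (proj Xs c a.idx) (trn Xs h) (proj_trn Xs c h) b.obj)).trans
        (MorphismProperty.Over.w ((toPt Xs c).map f)).symm))
  have k1 := bcVia_fst (proj Xs c a.idx) (trn Xs h) (proj_trn Xs c h) b.obj
  have k2 := (EtCoh.isPullback_bc_map (proj Xs c a.idx) (factor Xs f h)).w
  refine Eq.trans ?_ (toPt_map_fst Xs c f).symm
  refine (Category.assoc _ _ _).trans ((congrArg (_ ≫ ·) k1).trans ((Category.assoc _ _ _).symm.trans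
    ((congrArg (· ≫ _) k2).trans ((Category.assoc _ _ _).trans ?_))))
  exact congrArg (_ ≫ ·) (pullback.lift_fst _ _ _)

/-- The comparison morphism of systems. -/
noncomputable def toCone : sysSheaf F φ hφ ⟶ (pushSys Xs c).obj C :=
  ObjectProperty.homMk
    { app := fun a => AddCommGrpCat.ofHom
        (((coneAdj F c γ a.unop.idx).hom.app (op a.unop.obj)).hom.comp (fixedSec F φ a.unop).subtype)
      naturality := fun a b f => by
        ext y
        exact coneAdj_pmap F φ c γ hγ f.unop y.1 }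

include hγ in
lemma sysProj_toCone (i : ι) :
    sysProj F φ hφ i ≫ (res Xs i).map (toCone F φ hφ c γ hγ) ≫
      (resPushIso Xs c i).hom.app C = coneAdj F c γ i := by
  apply (sheafToPresheaf _ _).map_injective
  ext V y
  refine (coneAdj_pmap F φ c γ hγ (𝟙 ((incl Xs i).obj V.unop)) y).trans ?_
  exact (congrArg (fun m => C.obj.map (Quiver.Hom.op m) _) ((toPt Xs c).map_id _)).trans
    (map_one_apply C.obj _)

end Cone

section Colimit

variable [Nonempty ι] [IsDirectedOrder ι] (c : Cone Xs) (G : ι ⥤ EtCoh.Ab c.pt)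
variable (ψ : ∀ i : ι, (EtCoh.pull (c.π.app (op i))).obj (F i) ≅ G.obj i)
variable (hψ : ∀ ⦃i j : ι⦄ (hij : i ≤ j), (ψ i).hom ≫ G.map (homOfLE hij) =
  (EtLim.pullTransCone Xs c hij).hom.app (F i) ≫ (EtCoh.pull (c.π.app (op j))).map (φ hij) ≫ (ψ j).hom)

/-- The morphisms to the colimit. -/
noncomputable def colimHom (i : ι) : (EtCoh.pull (proj Xs c i)).obj (F i) ⟶ colimit G :=
  (ψ i).hom ≫ colimit.ι G i

include hψ in
lemma colimHom_comp ⦃i j : ι⦄ (h : i ≤ j) :
    colimHom F c G ψ i = (EtLim.pullTransCone Xs c h).hom.app (F i) ≫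
      (EtCoh.pull (c.π.app (op j))).map (φ h) ≫ colimHom F c G ψ j := by
  rw [colimHom, colimHom, ← colimit.w G (homOfLE h), ← Category.assoc, hψ h]
  simp only [Category.assoc]

/-- The morphism from a stage to the inverse image of the system. -/
noncomputable def stageToPullSys (i : ι) :
    (EtCoh.pull (proj Xs c i)).obj (F i) ⟶ (pullSys Xs c).obj (sysSheaf F φ hφ) :=
  ((EtCoh.pullPushAdj (proj Xs c i)).homEquiv _ _).symm
    (sysProj F φ hφ i ≫ coneHom c (sysSheaf F φ hφ) i)

lemma stageToPullSys_comp {i j : ι} (h : i ≤ j) :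
    stageToPullSys F φ hφ c i = (EtLim.pullTransCone Xs c h).hom.app (F i) ≫
      (EtCoh.pull (c.π.app (op j))).map (φ h) ≫ stageToPullSys F φ hφ c j := by
  have key := transpose_via (proj Xs c j) (trn Xs h) (proj_trn Xs c h)
    ((EtLim.pullTransCone Xs c h).hom.app (F i) ≫
      (EtCoh.pull (c.π.app (op j))).map (φ h) ≫ stageToPullSys F φ hφ c j)
    (φ h) (stageToPullSys F φ hφ c j) rfl
  rw [stageToPullSys, Equiv.apply_symm_apply] at key
  have e : sysHom F φ h ≫ (EtCoh.push (trn Xs h)).map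
      (sysProj F φ hφ j ≫ coneHom c (sysSheaf F φ hφ) j) =
        (sysProj F φ hφ i ≫ coneHom c (sysSheaf F φ hφ) i) ≫
          pushVia (proj Xs c j) (trn Xs h) (proj_trn Xs c h) _ := by
    rw [Functor.map_comp, ← Category.assoc, ← sysProj_transHom, Category.assoc, transHom_coneHom,
      Category.assoc]
  have hiso : IsIso (pushVia (proj Xs c j) (trn Xs h) (proj_trn Xs c h)
      ((pullSys Xs c).obj (sysSheaf F φ hφ))) :=
    inferInstanceAs (IsIso (_ ≫ _))
  refine (Equiv.symm_apply_eq _).2 ?_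
  exact ((cancel_mono (pushVia (proj Xs c j) (trn Xs h) (proj_trn Xs c h)
    ((pullSys Xs c).obj (sysSheaf F φ hφ)))).1 (e.symm.trans key))

/-- The comparison with the colimit. -/
noncomputable def fromColim : colimit G ⟶ (pullSys Xs c).obj (sysSheaf F φ hφ) :=
  colimit.desc G
    { pt := (pullSys Xs c).obj (sysSheaf F φ hφ)
      ι :=
        { app := fun i => (ψ i).inv ≫ stageToPullSys F φ hφ c i
          naturality := fun i j m => by
            refine Eq.trans ?_ (Category.comp_id _).symm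
            rw [← cancel_epi (ψ i).hom, Iso.hom_inv_id_assoc,
              Subsingleton.elim m (homOfLE (leOfHom m)), ← Category.assoc, hψ (leOfHom m)]
            simp only [Category.assoc, Iso.hom_inv_id_assoc]
            exact (stageToPullSys_comp F φ hφ c (leOfHom m)).symm } }

lemma colimHom_fromColim (i : ι) :
    colimHom F c G ψ i ≫ fromColim F φ hφ c G ψ hψ = stageToPullSys F φ hφ c i := by
  rw [colimHom, fromColim, Category.assoc, colimit.ι_desc]
  exact Iso.hom_inv_id_assoc _ _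

lemma coneAdj_fromColim (i : ι) :
    coneAdj F c (colimHom F c G ψ) i ≫
        (EtCoh.push (proj Xs c i)).map (fromColim F φ hφ c G ψ hψ) =
      sysProj F φ hφ i ≫ coneHom c (sysSheaf F φ hφ) i := by
  rw [coneAdj, ← Adjunction.homEquiv_naturality_right, colimHom_fromColim, stageToPullSys,
    Equiv.apply_symm_apply]

/-- The inverse image of the system is the colimit. -/
lemma isIso_fromColim : IsIso (fromColim F φ hφ c G ψ hψ) := by
  have hγ := colimHom_comp F φ c G ψ hψ
  let Φ := toCone F φ hφ c (colimHom F c G ψ) hγ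
  let κ := ((sysAdj Xs c).homEquiv _ _).symm Φ
  have hκ : ∀ i, coneHom c (sysSheaf F φ hφ) i ≫ (EtCoh.push (proj Xs c i)).map κ =
      (res Xs i).map Φ ≫ (resPushIso Xs c i).hom.app (colimit G) := fun i => by
    rw [coneHom, Category.assoc, ← show (res Xs i).map ((pushSys Xs c).map κ) ≫
      (resPushIso Xs c i).hom.app _ = _ from (resPushIso Xs c i).hom.naturality κ,
      ← Category.assoc, ← Functor.map_comp, ← Adjunction.homEquiv_unit]
    simp only [κ, Equiv.apply_symm_apply]
  refine ⟨κ, ?_, ?_⟩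
  · refine colimit.hom_ext fun i => ?_
    rw [← cancel_epi (ψ i).hom]
    refine (Category.assoc _ _ _).symm.trans (((Category.assoc _ _ _).symm.trans
      ((congrArg (· ≫ κ) (colimHom_fromColim F φ hφ c G ψ hψ i)).trans ?_)).trans
        (congrArg ((ψ i).hom ≫ ·) (Category.comp_id _)).symm)
    apply ((EtCoh.pullPushAdj (proj Xs c i)).homEquiv _ _).injective
    rw [Adjunction.homEquiv_naturality_right, stageToPullSys, Equiv.apply_symm_apply, Category.assoc,
      hκ]
    exact sysProj_toCone F φ hφ c _ hγ i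
  · apply ((sysAdj Xs c).homEquiv _ _).injective
    rw [Adjunction.homEquiv_naturality_right, Adjunction.homEquiv_id]
    simp only [κ, Equiv.apply_symm_apply]
    apply (sheafToPresheaf _ _).map_injective
    ext a y
    have h1 : (fromColim F φ hφ c G ψ hψ).hom.app _
        ((coneAdj F c (colimHom F c G ψ) a.unop.idx).hom.app (op a.unop.obj) y.1) =
          (coneHom c (sysSheaf F φ hφ) a.unop.idx).hom.app (op a.unop.obj)
            ((sysProj F φ hφ a.unop.idx).hom.app (op a.unop.obj) y.1) :=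
      ConcreteCategory.congr_hom (congrArg (fun m => m.hom.app (op a.unop.obj))
        (coneAdj_fromColim F φ hφ c G ψ hψ a.unop.idx)) y.1
    refine h1.trans ?_
    exact congrArg (unitApp c (sysSheaf F φ hφ) a.unop) (Subtype.ext ((mem_fixedSec F φ).1 y.2))

variable [∀ (p q : ιᵒᵖ) (h : p ⟶ q), IsAffineHom (Xs.map h)]
  [∀ p, CompactSpace ↥(Xs.obj p)] [∀ p, QuasiSeparatedSpace ↥(Xs.obj p)]
  [∀ a, PreservesFiniteLimits (EtCoh.pull (c.π.app a))]
  [∀ ⦃a b : ιᵒᵖ⦄ (h : a ⟶ b), PreservesFiniteLimits (EtCoh.pull (Xs.map h))]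

include hφ hψ in
/-- Cohomology of the colimit of a system. -/
theorem system_colimit (hc : IsLimit c) (n : ℕ) :
    (∀ ξ : EtCoh.H c.pt (colimit G) n, ∃ (j : ι) (ξj : EtCoh.H (Xs.obj (op j)) (F j) n),
        EtLim.HpullThen (proj Xs c j) (F j) (colimHom F c G ψ j) n ξj = ξ) ∧
    (∀ (j : ι) (ξj : EtCoh.H (Xs.obj (op j)) (F j) n),
      EtLim.HpullThen (proj Xs c j) (F j) (colimHom F c G ψ j) n ξj = 0 →
        ∃ (k : ι) (hk : j ≤ k), EtLim.HpullThen (trn Xs hk) (F j) (φ hk) n ξj = 0) := by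
  haveI := isIso_fromColim F φ hφ c G ψ hψ
  have hT : ∀ (j : ι) (x : EtCoh.H (Xs.obj (op j)) (F j) n),
      T c j (sysSheaf F φ hφ) n (x.comp (Ext.mk₀ (sysProj F φ hφ j)) (add_zero n)) =
        (EtLim.HpullThen (proj Xs c j) (F j) (colimHom F c G ψ j) n x).comp
          (Ext.mk₀ (fromColim F φ hφ c G ψ hψ)) (add_zero n) := fun j x => by
    have e : EtLim.HpullThen (proj Xs c j) (F j) (colimHom F c G ψ j) n x =
        pullOn (proj Xs c j) (coneAdj F c (colimHom F c G ψ) j) n x :=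
      congrArg (fun z => EtLim.HpullThen (proj Xs c j) (F j) z n x)
        (Equiv.symm_apply_apply _ _).symm
    rw [e]
    exact pullOn_map _ _ _ _ _ (coneAdj_fromColim F φ hφ c G ψ hψ j).symm n x
  have hcol := colimit_cohomology hc n (sysSheaf F φ hφ)
  refine ⟨fun ξ => ?_, fun j x hx => ?_⟩
  · obtain ⟨j, x', hx'⟩ := hcol.1 (ξ.comp (Ext.mk₀ (fromColim F φ hφ c G ψ hψ)) (add_zero n))
    refine ⟨j, x'.comp (Ext.mk₀ (sysIncl F φ hφ j)) (add_zero n), ?_⟩
    have h1 := hT j (x'.comp (Ext.mk₀ (sysIncl F φ hφ j)) (add_zero n))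
    rw [Ext.comp_assoc_of_third_deg_zero, Ext.mk₀_comp_mk₀, sysIncl_sysProj] at h1
    have h2 := congrArg (fun z => Ext.comp z (Ext.mk₀ (inv (fromColim F φ hφ c G ψ hψ))) (add_zero n))
      (h1.symm.trans ((congrArg (T c j _ n) (Ext.comp_mk₀_id _)).trans hx'))
    simp only [Ext.comp_assoc_of_third_deg_zero, Ext.mk₀_comp_mk₀, IsIso.hom_inv_id] at h2
    exact (Ext.comp_mk₀_id _).symm.trans (h2.trans (Ext.comp_mk₀_id _))
  · obtain ⟨k, hk, hR⟩ := hcol.2 j _ ((hT j x).trans
      ((congrArg (fun z => Ext.comp z _ (add_zero n)) hx).trans (Ext.zero_comp _ _ _ _ _)))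
    refine ⟨k, hk, ?_⟩
    have e : EtLim.HpullThen (trn Xs hk) (F j) (φ hk) n x = pullOn (trn Xs hk) (sysHom F φ hk) n x :=
      congrArg (fun z => EtLim.HpullThen (trn Xs hk) (F j) z n x) (Equiv.symm_apply_apply _ _).symm
    rw [e]
    have h1 := (pullOn_map (trn Xs hk) _ _ _ _ (sysProj_transHom F φ hφ hk) n x).symm.trans hR
    have h2 := pullOn_map (trn Xs hk) (𝟙 (F j)) (sysProj F φ hφ k ≫ sysIncl F φ hφ k)
      (sysHom F φ hk) (sysHom F φ hk)
      ((Category.id_comp _).trans (sysHom_proj_incl F φ hφ hk).symm) n x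
    rw [Ext.comp_mk₀_id, ← Ext.mk₀_comp_mk₀, ← Ext.comp_assoc_of_third_deg_zero, h1] at h2
    exact h2.trans (Ext.zero_comp _ _ _ _ _)

end Colimit

end Groth.EtaleBase.EtLimit
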