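import Groth.Agent.EtaleBase.Limit.StalkEtale
import Groth.Agent.EtaleBase.Limit.Systems

/-!
Morphisms of sheaves along morphisms of schemes, their composition, and the induced maps on stalks of
higher direct images in commutative squares.
-/

set_option autoImplicit false

universe u

open CategoryTheory CategoryTheory.Limits CategoryTheory.Abelian AlgebraicGeometry Opposite

namespace Groth.EtaleBase.EtLimit

attribute [local instance] pull_preservesFiniteLimits

lemma comp_map_id_comp {C D : Type*} [Category C] [Category D] (L : C ⥤ D) {b : C} {a a' z : D}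
    (eh : a ⟶ L.obj b) (ei : L.obj b ⟶ a) (h : eh ≫ ei = 𝟙 a) (c : a ⟶ a') (f : a' ⟶ z) :
    eh ≫ L.map (𝟙 b) ≫ (ei ≫ c) ≫ f = c ≫ f := by
  simp [reassoc_of% h]

/-- A morphism of sheaves along a morphism of schemes. -/
structure CHom {A B : Scheme.{u}} (G : EtCoh.Ab B) (G' : EtCoh.Ab A) where
  /-- the morphism of schemes -/
  m : A ⟶ B
  /-- the morphism of sheaves -/
  α : (EtCoh.pull m).obj G ⟶ G'

namespace CHom

variable {A B C D : Scheme.{u}} {GA : EtCoh.Ab A} {GB : EtCoh.Ab B} {GC : EtCoh.Ab C} {GD : EtCoh.Ab D}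

theorem ext' {f f' : CHom GB GA} (h : f.m = f'.m) (hα : f.α = (EtCore.pullCongr h).hom.app GB ≫ f'.α) :
    f = f' := by
  obtain ⟨m, α⟩ := f
  obtain ⟨m', α'⟩ := f'
  dsimp at h
  subst h
  exact congrArg (CHom.mk m) (hα.trans (Category.id_comp α'))

/-- Composition. -/
noncomputable def comp (f : CHom GC GB) (f' : CHom GB GA) : CHom GC GA :=
  ⟨f'.m ≫ f.m, coeffComp f.m f'.m f.α f'.α⟩

theorem assoc (f : CHom GD GC) (f' : CHom GC GB) (f'' : CHom GB GA) :
    (f.comp f').comp f'' = f.comp (f'.comp f'') := by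
  refine congrArg (CHom.mk (f''.m ≫ f'.m ≫ f.m)) ?_
  have h := congrArg (· ≫ f''.α) (coeff_assoc f.m f'.m f.α f'.α f''.m)
  have e1 : ∀ {A B C : Scheme.{u}} (a : A ⟶ B) (b : B ⟶ C) (G : EtCoh.Ab C),
      (((EtCore.pullComp a b).symm ≪≫ EtCore.pullCongr rfl).app G).inv =
        (EtCore.pullComp a b).hom.app G := fun a b G => Category.id_comp _
  rw [e1, e1, e1] at h
  refine Eq.trans (Category.assoc _ _ _).symm (h.symm.trans ?_)
  exact ((Category.assoc _ _ _).trans ((Category.assoc _ _ _).trans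
    (congrArg (_ ≫ ·) (congrArg (_ ≫ ·) (Category.assoc _ _ _)))))

/-- The cartesian morphism. -/
noncomputable def cart (u : A ⟶ B) (G : EtCoh.Ab B) : CHom G ((EtCoh.pull u).obj G) := ⟨u, 𝟙 _⟩

/-- Factorization through a cartesian morphism. -/
noncomputable def factor (f : CHom GC GA) (u : B ⟶ C) (k : A ⟶ B) (h : k ≫ u = f.m) :
    CHom ((EtCoh.pull u).obj GC) GA :=
  ⟨k, (((EtCore.pullComp k u).symm ≪≫ EtCore.pullCongr h).app GC).hom ≫ f.α⟩

theorem cart_comp_factor (f : CHom GC GA) (u : B ⟶ C) (k : A ⟶ B) (h : k ≫ u = f.m) :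
    (cart u GC).comp (f.factor u k h) = f := by
  refine ext' h ?_
  exact comp_map_id_comp (EtCoh.pull k) ((EtCore.pullComp k u).hom.app GC)
    ((EtCore.pullComp k u).inv.app GC) ((EtCore.pullComp k u).hom_inv_id_app GC) _ f.α

theorem cart_cancel {u : B ⟶ C} {x y : CHom ((EtCoh.pull u).obj GC) GA} (hm : x.m = y.m)
    (h : (cart u GC).comp x = (cart u GC).comp y) : x = y := by
  obtain ⟨m, α⟩ := x
  obtain ⟨m', α'⟩ := y
  dsimp at hm
  subst hm
  have h' : coeffComp u m (𝟙 ((EtCoh.pull u).obj GC)) α = coeffComp u m (𝟙 ((EtCoh.pull u).obj GC)) α' :=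
    eq_of_heq (CHom.mk.inj h).2
  simp only [coeffComp, CategoryTheory.Functor.map_id, Category.id_comp] at h'
  exact congrArg (CHom.mk m) ((cancel_epi ((EtCore.pullComp m u).hom.app GC)).1 h')

/-- The action on cohomology. -/
noncomputable def H (f : CHom GB GA) (q : ℕ) : EtCoh.H B GB q →+ EtCoh.H A GA q :=
  EtLim.HpullThen f.m GB f.α q

lemma H_via_comp (k : A ⟶ B) (u : B ⟶ C) {k₀ : A ⟶ C} (w : k ≫ u = k₀) {G' : EtCoh.Ab A}
    (α : (EtCoh.pull k₀).obj GC ⟶ G') (q : ℕ) (x : EtCoh.H B ((EtCoh.pull u).obj GC) q) :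
    EtLim.HpullThen k ((EtCoh.pull u).obj GC)
        ((((EtCore.pullComp k u).symm ≪≫ EtCore.pullCongr w).app GC).hom ≫ α) q x =
      (EtCore.HpullVia k u k₀ w GC q x).comp (Ext.mk₀ α) (add_zero q) := by
  show (EtCore.Hpull k _ q x).comp (Ext.mk₀ (_ ≫ α)) (add_zero q) =
    ((EtCore.Hpull k _ q x).comp (Ext.mk₀ _) (add_zero q)).comp (Ext.mk₀ α) (add_zero q)
  rw [Ext.comp_assoc_of_third_deg_zero, Ext.mk₀_comp_mk₀]

end CHom

/-- A morphism between sheaves over morphisms of schemes. -/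
structure SMor {T S T' S' : Scheme.{u}} (g : T ⟶ S) (F : EtCoh.Ab T) (g' : T' ⟶ S') (F' : EtCoh.Ab T') where
  /-- the morphism of the bases -/
  bS : S' ⟶ S
  /-- the morphism of the sheaves -/
  c : CHom F F'
  w : c.m ≫ g = g' ≫ bS

namespace SMor

variable {T S T' S' T'' S'' : Scheme.{u}} {g : T ⟶ S} {F : EtCoh.Ab T} {g' : T' ⟶ S'} {F' : EtCoh.Ab T'}
  {g'' : T'' ⟶ S''} {F'' : EtCoh.Ab T''}

theorem ext' {a b : SMor g F g' F'} (h : a.bS = b.bS) (hc : a.c = b.c) : a = b := by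
  obtain ⟨bS, c, w⟩ := a
  obtain ⟨bS', c', w'⟩ := b
  dsimp at h hc
  subst h hc
  rfl

/-- Composition. -/
noncomputable def comp (a : SMor g F g' F') (b : SMor g' F' g'' F'') : SMor g F g'' F'' :=
  ⟨b.bS ≫ a.bS, a.c.comp b.c,
    (Category.assoc _ _ _).trans ((congrArg (b.c.m ≫ ·) a.w).trans ((Category.assoc _ _ _).symm.trans
      ((congrArg (· ≫ a.bS) b.w).trans (Category.assoc _ _ _))))⟩

variable {Ω : Type u} [Field Ω] [IsSepClosed Ω]

/-- The map on stalks of higher direct images. -/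
noncomputable def st (a : SMor g F g' F') (ξ : Spec (CommRingCat.of Ω) ⟶ S')
    (η : Spec (CommRingCat.of Ω) ⟶ S) (h : ξ ≫ a.bS = η) (q : ℕ) :
    (EtCoh.stalk η).obj ((EtCoh.Rpush g q).obj F) ⟶ (EtCoh.stalk ξ).obj ((EtCoh.Rpush g' q).obj F') :=
  eqToHom (by rw [h]) ≫ stalkBC g a.bS g' a.c.m a.w a.c.α ξ q

lemma st_rfl (a : SMor g F g' F') (ξ : Spec (CommRingCat.of Ω) ⟶ S') (q : ℕ) :
    a.st ξ (ξ ≫ a.bS) rfl q = stalkBC g a.bS g' a.c.m a.w a.c.α ξ q :=
  Category.id_comp _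

theorem st_congr {a b : SMor g F g' F'} (e : a = b) (ξ : Spec (CommRingCat.of Ω) ⟶ S')
    (η : Spec (CommRingCat.of Ω) ⟶ S) (h : ξ ≫ a.bS = η) (h' : ξ ≫ b.bS = η) (q : ℕ) :
    a.st ξ η h q = b.st ξ η h' q := by subst e; rfl

theorem st_comp (a : SMor g F g' F') (b : SMor g' F' g'' F'') (ξ : Spec (CommRingCat.of Ω) ⟶ S'')
    (η' : Spec (CommRingCat.of Ω) ⟶ S') (η : Spec (CommRingCat.of Ω) ⟶ S) (h' : ξ ≫ b.bS = η')
    (h : η' ≫ a.bS = η) (h'' : ξ ≫ (a.comp b).bS = η) (q : ℕ)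
    (x : (EtCoh.stalk η).obj ((EtCoh.Rpush g q).obj F)) :
    b.st ξ η' h' q (a.st η' η h q x) = (a.comp b).st ξ η h'' q x := by
  subst h' h
  rw [st_rfl, st_rfl]
  refine Eq.trans ?_ (ConcreteCategory.congr_hom ((a.comp b).st_rfl ξ q) x).symm
  exact stalkBC_comp g a.bS g' a.c.m a.w g'' b.bS b.c.m b.w (a.comp b).w a.c.α b.c.α ξ q x

/-- The cycle representing the image. -/
noncomputable def stCycle (a : SMor g F g' F') (q : ℕ) {V : S.Etale}
    (z : ((injResn (injectiveResolution F)).X q).obj.obj (op ((EtCoh.bc g).obj V))) :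
    ((injResn (injectiveResolution F')).X q).obj.obj (op ((EtCoh.bc g').obj ((EtCoh.bc a.bS).obj V))) :=
  ((injResn (injectiveResolution F')).X q).obj.map (bcSq g a.bS g' a.c.m a.w V).op
    (((EtCoh.pullPushAdj a.c.m).homEquiv _ _ ((bcHom a.c.m a.c.α).f q)).hom.app (op ((EtCoh.bc g).obj V)) z)

/-- The map on stalks on representatives. -/
theorem st_rep (a : SMor g F g' F') {ξ : Spec (CommRingCat.of Ω) ⟶ S'}
    {η : Spec (CommRingCat.of Ω) ⟶ S} (h : ξ ≫ a.bS = η) {q : ℕ} {V : S.Etale}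
    {t : (Scheme.pointSmallEtale η).fiber.obj V}
    {z : ((injResn (injectiveResolution F)).X q).obj.obj (op ((EtCoh.bc g).obj V))}
    {e : (EtCoh.stalk η).obj ((EtCoh.Rpush g q).obj F)} (hz : Rep g (injectiveResolution F) η q V t z e)
    (t' : (Scheme.pointSmallEtale ξ).fiber.obj ((EtCoh.bc a.bS).obj V))
    (ht : t'.left ≫ pullback.fst V.hom a.bS = t.left) :
    Rep g' (injectiveResolution F') ξ q ((EtCoh.bc a.bS).obj V) t' (a.stCycle q z) (a.st ξ η h q e) := by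
  subst h
  rw [st_rfl]
  have e' : t' = liftPt a.bS ξ V t := fiber_bc_ext a.bS V ξ _ _ (ht.trans (pullback.lift_fst _ _ _).symm)
  rw [e']
  exact rep_stalkBC g a.bS g' a.c.m a.w a.c.α ξ hz (bcHom a.c.m a.c.α)

/-- The class of the image cycle. -/
theorem clsAt_stCycle (a : SMor g F g' F') {q : ℕ} {V : S.Etale}
    {z : ((injResn (injectiveResolution F)).X q).obj.obj (op ((EtCoh.bc g).obj V))}
    (h : ((injResn (injectiveResolution F)).d q).hom.app (op ((EtCoh.bc g).obj V)) z = 0)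
    (h' : ((injResn (injectiveResolution F')).d q).hom.app
      (op ((EtCoh.bc g').obj ((EtCoh.bc a.bS).obj V))) (a.stCycle q z) = 0)
    {P : Scheme.{u}} (p : P ⟶ T') (m : P ⟶ ((EtCoh.bc g').obj ((EtCoh.bc a.bS).obj V)).left)
    (hm : m ≫ ((EtCoh.bc g').obj ((EtCoh.bc a.bS).obj V)).hom = p)
    (k : P ⟶ ((EtCoh.bc g).obj V).left) (hk : k ≫ ((EtCoh.bc g).obj V).hom = p ≫ a.c.m)
    (e : (m ≫ (bcSq g a.bS g' a.c.m a.w V).left) ≫ pullback.fst ((EtCoh.bc g).obj V).hom a.c.m = k) :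
    (injResn (injectiveResolution F')).clsAt (a.stCycle q z) h' p m hm =
      ((a.c.comp (CHom.cart p F')).factor ((EtCoh.bc g).obj V).hom k hk).H q
        ((injResn (injectiveResolution F)).clsAt z h ((EtCoh.bc g).obj V).hom (𝟙 _) (Category.id_comp _)) := by
  refine ((injResn (injectiveResolution F')).clsAt_hom (hm := hm) (bcHom a.c.m a.c.α)
    (bcSq g a.bS g' a.c.m a.w V) rfl k hk e h h').trans ?_
  rw [(injResn (injectiveResolution F)).clsAt_pull (hm := Category.id_comp _) k hk k hk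
    (Category.comp_id k) h]
  refine Eq.trans ?_ (CHom.H_via_comp k ((EtCoh.bc g).obj V).hom hk (a.c.comp (CHom.cart p F')).α q _).symm
  refine congrArg (fun y => Ext.comp _ (Ext.mk₀ y) (add_zero q)) ?_
  exact (congrArg (· ≫ (EtCoh.pull p).map a.c.α) (Category.id_comp _)).trans
    (congrArg (_ ≫ ·) (Category.comp_id _).symm)

end SMor

end Groth.EtaleBase.EtLimit
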