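import Groth.Agent.EtaleBase.Limit.ResClass
import Groth.Agent.EtaleBase.BaseChange0
import Groth.Prelude.Def_EtBC2

/-!
Stalks of higher direct images through cycles of sections in an injective resolution, and the action
of the base change morphism on them.
-/

set_option autoImplicit false

universe u

open CategoryTheory CategoryTheory.Limits AlgebraicGeometry Opposite HomologicalComplex

namespace Groth.EtaleBase.EtLimit

section Sheaves

variable {Y : Scheme.{u}}

/-- Sections of a left exact sequence of sheaves. -/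
lemma sections_exact_of_mono {S : ShortComplex (EtCoh.Ab Y)} (hS : S.Exact) (hf : Mono S.f) (V : Y.Etale)
    (x : S.X₂.obj.obj (op V)) (hx : S.g.hom.app (op V) x = 0) :
    ∃ y, S.f.hom.app (op V) y = x := by
  let E := sheafToPresheaf Y.smallEtaleTopology AddCommGrpCat.{u + 1} ⋙
    (evaluation _ AddCommGrpCat.{u + 1}).obj (op V)
  haveI : PreservesFiniteLimits E := inferInstance
  haveI : E.PreservesZeroMorphisms := inferInstance
  exact ((ShortComplex.ab_exact_iff _).1 (hS.map_of_mono_of_preservesKernel E hf inferInstance)) x hx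

lemma injective_app_of_mono {A B : EtCoh.Ab Y} (a : A ⟶ B) [Mono a] (V : Y.Etale) :
    Function.Injective (a.hom.app (op V)) :=
  let E := sheafToPresheaf Y.smallEtaleTopology AddCommGrpCat.{u + 1} ⋙
    (evaluation _ AddCommGrpCat.{u + 1}).obj (op V)
  (AddCommGrpCat.mono_iff_injective _).1 (inferInstanceAs (Mono (E.map a)))

variable (K : CochainComplex (EtCoh.Ab Y) ℕ)

lemma exists_cycle (q : ℕ) (V : Y.Etale) (z : (K.X q).obj.obj (op V))
    (hz : (K.d q (q + 1)).hom.app (op V) z = 0) :
    ∃ c : (K.cycles q).obj.obj (op V), (K.iCycles q).hom.app (op V) c = z :=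
  sections_exact_of_mono (S := ShortComplex.mk (K.iCycles q) (K.d q (q + 1)) (K.iCycles_d q (q + 1)))
    (ShortComplex.exact_of_f_is_kernel _ (K.cyclesIsKernel q (q + 1) (by simp))) inferInstance V z hz

lemma iCycles_injective (q : ℕ) (V : Y.Etale) : Function.Injective ((K.iCycles q).hom.app (op V)) :=
  injective_app_of_mono _ V

lemma d_iCycles_app (q : ℕ) (V : Y.Etale) (c : (K.cycles q).obj.obj (op V)) :
    (K.d q (q + 1)).hom.app (op V) ((K.iCycles q).hom.app (op V) c) = 0 :=
  ConcreteCategory.congr_hom (congrArg (fun ψ => ψ.hom.app (op V)) (K.iCycles_d q (q + 1))) c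

end Sheaves

variable {T S : Scheme.{u}} (g : T ⟶ S) {F : EtCoh.Ab T} (I : InjectiveResolution F)
  {Ω : Type u} [Field Ω] [IsSepClosed Ω] (ξ : Spec (CommRingCat.of Ω) ⟶ S)

/-- The complex of direct images. -/
noncomputable abbrev pushCx : CochainComplex (EtCoh.Ab S) ℕ :=
  ((EtCoh.push g).mapHomologicalComplex (ComplexShape.up ℕ)).obj I.cocomplex

/-- An element of the stalk of a higher direct image is represented by a cycle of sections. -/
def Rep (q : ℕ) (V : S.Etale) (t : (Scheme.pointSmallEtale ξ).fiber.obj V)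
    (z : (I.cocomplex.X q).obj.obj (op ((EtCoh.bc g).obj V)))
    (e : (EtCoh.stalk ξ).obj ((EtCoh.Rpush g q).obj F)) : Prop :=
  ∃ c : ((pushCx g I).cycles q).obj.obj (op V),
    ((pushCx g I).iCycles q).hom.app (op V) c = z ∧
    (EtCoh.stalk ξ).map (((pushCx g I).homologyπ q) ≫ (I.isoRightDerivedObj (EtCoh.push g) q).inv)
      (germ ξ ((pushCx g I).cycles q) V t c) = e

namespace Rep

variable {g I ξ} {q : ℕ} {V : S.Etale} {t : (Scheme.pointSmallEtale ξ).fiber.obj V}
  {z : (I.cocomplex.X q).obj.obj (op ((EtCoh.bc g).obj V))}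
  {e : (EtCoh.stalk ξ).obj ((EtCoh.Rpush g q).obj F)}

lemma cycle (h : Rep g I ξ q V t z e) :
    (I.cocomplex.d q (q + 1)).hom.app (op ((EtCoh.bc g).obj V)) z = 0 := by
  obtain ⟨c, hc, -⟩ := h
  rw [← hc]
  exact d_iCycles_app (pushCx g I) q V c

lemma res (h : Rep g I ξ q V t z e) {V' : S.Etale} (m : V' ⟶ V)
    (t' : (Scheme.pointSmallEtale ξ).fiber.obj V') (ht : (Scheme.pointSmallEtale ξ).fiber.map m t' = t) :
    Rep g I ξ q V' t' ((I.cocomplex.X q).obj.map ((EtCoh.bc g).map m).op z) e := by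
  obtain ⟨c, hc, he⟩ := h
  refine ⟨((pushCx g I).cycles q).obj.map m.op c, ?_, ?_⟩
  · rw [← hc]
    exact NatTrans.naturality_apply ((pushCx g I).iCycles q).hom m.op c
  · subst ht
    rw [← he]
    exact congrArg _ ((Scheme.pointSmallEtale ξ).toPresheafFiber_w_apply m t' _ c)

lemma sub (h : Rep g I ξ q V t z e) {z' : (I.cocomplex.X q).obj.obj (op ((EtCoh.bc g).obj V))}
    {e' : (EtCoh.stalk ξ).obj ((EtCoh.Rpush g q).obj F)} (h' : Rep g I ξ q V t z' e') :
    Rep g I ξ q V t (z - z') (e - e') := by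
  obtain ⟨c, hc, he⟩ := h
  obtain ⟨c', hc', he'⟩ := h'
  exact ⟨c - c', by rw [map_sub, hc, hc']; rfl, by rw [map_sub, map_sub, he, he']⟩

lemma unique (h : Rep g I ξ q V t z e) {e' : (EtCoh.stalk ξ).obj ((EtCoh.Rpush g q).obj F)}
    (h' : Rep g I ξ q V t z e') : e = e' := by
  obtain ⟨c, hc, he⟩ := h
  obtain ⟨c', hc', he'⟩ := h'
  rw [← he, ← he', iCycles_injective (pushCx g I) q V (hc.trans hc'.symm)]

end Rep

lemma exists_rep_of_cycle (q : ℕ) (V : S.Etale) (t : (Scheme.pointSmallEtale ξ).fiber.obj V)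
    (z : (I.cocomplex.X q).obj.obj (op ((EtCoh.bc g).obj V)))
    (hz : (I.cocomplex.d q (q + 1)).hom.app (op ((EtCoh.bc g).obj V)) z = 0) :
    ∃ e, Rep g I ξ q V t z e := by
  obtain ⟨c, hc⟩ := exists_cycle (pushCx g I) q V z hz
  exact ⟨_, c, hc, rfl⟩

/-- Every element of the stalk is represented. -/
theorem exists_rep (q : ℕ) (e : (EtCoh.stalk ξ).obj ((EtCoh.Rpush g q).obj F)) :
    ∃ (V : S.Etale) (t : (Scheme.pointSmallEtale ξ).fiber.obj V)
      (z : (I.cocomplex.X q).obj.obj (op ((EtCoh.bc g).obj V))), Rep g I ξ q V t z e := by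
  let ψ := ((pushCx g I).homologyπ q) ≫ (I.isoRightDerivedObj (EtCoh.push g) q).inv
  haveI : Epi ψ := epi_comp _ _
  obtain ⟨x, hx⟩ := (AddCommGrpCat.epi_iff_surjective ((EtCoh.stalk ξ).map ψ)).1 inferInstance e
  obtain ⟨V, t, c, rfl⟩ := germ_surjective ξ _ x
  exact ⟨V, t, _, c, rfl, hx⟩

/-- A boundary represents zero. -/
theorem rep_boundary (q : ℕ) (V : S.Etale) (t : (Scheme.pointSmallEtale ξ).fiber.obj V)
    (b : (I.cocomplex.X q).obj.obj (op ((EtCoh.bc g).obj V))) :
    Rep g I ξ (q + 1) V t ((I.cocomplex.d q (q + 1)).hom.app (op ((EtCoh.bc g).obj V)) b) 0 := by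
  refine ⟨((pushCx g I).toCycles q (q + 1)).hom.app (op V) b, ?_, ?_⟩
  · exact ConcreteCategory.congr_hom (congrArg (fun ψ => ψ.hom.app (op V))
      ((pushCx g I).toCycles_i q (q + 1))) b
  · refine ((congrArg _ (germ_map ξ ((pushCx g I).toCycles q (q + 1)) V t b).symm).trans ?_)
    refine (ConcreteCategory.congr_hom ((EtCoh.stalk ξ).map_comp _ _) _).symm.trans ?_
    rw [← Category.assoc, HomologicalComplex.toCycles_comp_homologyπ, zero_comp, Functor.map_zero]
    rfl

lemma germ_cycle_eq_zero {q : ℕ} {V : S.Etale} {t : (Scheme.pointSmallEtale ξ).fiber.obj V}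
    (c : ((pushCx g I).cycles q).obj.obj (op V))
    (h : (EtCoh.stalk ξ).map (((pushCx g I).homologyπ q) ≫ (I.isoRightDerivedObj (EtCoh.push g) q).inv)
      (germ ξ ((pushCx g I).cycles q) V t c) = 0) :
    (EtCoh.stalk ξ).map ((pushCx g I).homologyπ q) (germ ξ ((pushCx g I).cycles q) V t c) = 0 := by
  rw [Functor.map_comp, ConcreteCategory.comp_apply] at h
  exact ((ConcreteCategory.isIso_iff_bijective
    ((EtCoh.stalk ξ).map (I.isoRightDerivedObj (EtCoh.push g) q).inv)).1 inferInstance).1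
      (h.trans (map_zero _).symm)

/-- In degree zero a representative of zero vanishes on a neighbourhood. -/
theorem rep_zero_degree_zero {V : S.Etale} {t : (Scheme.pointSmallEtale ξ).fiber.obj V}
    {z : (I.cocomplex.X 0).obj.obj (op ((EtCoh.bc g).obj V))} (h : Rep g I ξ 0 V t z 0) :
    ∃ (V' : S.Etale) (m : V' ⟶ V) (t' : (Scheme.pointSmallEtale ξ).fiber.obj V'),
      (Scheme.pointSmallEtale ξ).fiber.map m t' = t ∧
        (I.cocomplex.X 0).obj.map ((EtCoh.bc g).map m).op z = 0 := by
  obtain ⟨c, hc, he⟩ := h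
  have hpi := germ_cycle_eq_zero g I ξ c he
  haveI : IsIso ((pushCx g I).homologyπ 0) :=
    HomologicalComplex.isIso_homologyπ _ _ _ rfl (HomologicalComplex.shape _ _ _ (by simp))
  have h0 : germ ξ ((pushCx g I).cycles 0) V t c = 0 :=
    ((ConcreteCategory.isIso_iff_bijective ((EtCoh.stalk ξ).map ((pushCx g I).homologyπ 0))).1
      inferInstance).1 (hpi.trans (map_zero _).symm)
  obtain ⟨V', m, t', ht, hm⟩ := (germ_eq_zero_iff ξ _ V t c).1 h0
  refine ⟨V', m, t', ht, ?_⟩
  rw [← hc]
  exact (NatTrans.naturality_apply ((pushCx g I).iCycles 0).hom m.op c).symm.trans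
    ((congrArg _ hm).trans (map_zero _))

/-- A representative of zero is a coboundary on a neighbourhood. -/
theorem rep_zero {q : ℕ} {V : S.Etale} {t : (Scheme.pointSmallEtale ξ).fiber.obj V}
    {z : (I.cocomplex.X (q + 1)).obj.obj (op ((EtCoh.bc g).obj V))} (h : Rep g I ξ (q + 1) V t z 0) :
    ∃ (V' : S.Etale) (m : V' ⟶ V) (t' : (Scheme.pointSmallEtale ξ).fiber.obj V')
      (b : (I.cocomplex.X q).obj.obj (op ((EtCoh.bc g).obj V'))),
      (Scheme.pointSmallEtale ξ).fiber.map m t' = t ∧
        (I.cocomplex.d q (q + 1)).hom.app (op ((EtCoh.bc g).obj V')) b =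
          (I.cocomplex.X (q + 1)).obj.map ((EtCoh.bc g).map m).op z := by
  obtain ⟨c, hc, he⟩ := h
  let K := pushCx g I
  have hpi := germ_cycle_eq_zero g I ξ c he
  let SC : ShortComplex (EtCoh.Ab S) :=
    ShortComplex.mk (K.toCycles q (q + 1)) (K.homologyπ (q + 1)) (K.toCycles_comp_homologyπ q (q + 1))
  have hex : SC.Exact :=
    ShortComplex.exact_of_g_is_cokernel _ (K.homologyIsCokernel q (q + 1) (by simp))
  obtain ⟨x, hx⟩ := ((ShortComplex.ab_exact_iff _).1 (hex.map (EtCoh.stalk ξ))) _ hpi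
  obtain ⟨V₁, t₁, b, rfl⟩ := germ_surjective ξ _ x
  have hx' : germ ξ (K.cycles (q + 1)) V₁ t₁ ((K.toCycles q (q + 1)).hom.app (op V₁) b) =
      germ ξ (K.cycles (q + 1)) V t c := (germ_map ξ _ V₁ t₁ b).symm.trans hx
  obtain ⟨E, p₁, p₂, -⟩ := IsCofilteredOrEmpty.cone_objs
    (C := (Scheme.pointSmallEtale ξ).fiber.Elements)
    (Functor.elementsMk _ V₁ t₁) (Functor.elementsMk _ V t)
  obtain ⟨V₂, t₂⟩ := E
  have hp₁ : (Scheme.pointSmallEtale ξ).fiber.map p₁.1 t₂ = t₁ := p₁.2
  have hp₂ : (Scheme.pointSmallEtale ξ).fiber.map p₂.1 t₂ = t := p₂.2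
  rw [← hp₁, ← hp₂] at hx'
  have h2 : germ ξ (K.cycles (q + 1)) V₂ t₂ ((K.cycles (q + 1)).obj.map p₁.1.op
        ((K.toCycles q (q + 1)).hom.app (op V₁) b)) =
      germ ξ (K.cycles (q + 1)) V₂ t₂ ((K.cycles (q + 1)).obj.map p₂.1.op c) :=
    ((Scheme.pointSmallEtale ξ).toPresheafFiber_w_apply p₁.1 t₂ _ _).trans (hx'.trans
      ((Scheme.pointSmallEtale ξ).toPresheafFiber_w_apply p₂.1 t₂ _ _).symm)
  obtain ⟨V₃, k, t₃, ht₃, hk⟩ := (germ_eq_iff ξ _ V₂ t₂ _ _).1 h2
  refine ⟨V₃, k ≫ p₂.1, t₃, (K.X q).obj.map (k ≫ p₁.1).op b, ?_, ?_⟩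
  · exact (FunctorToTypes.map_comp_apply _ _ _ _).trans ((congrArg _ ht₃).trans hp₂)
  · have h1 := ConcreteCategory.congr_hom (congrArg (fun ψ => ψ.hom.app (op V₃)) (K.toCycles_i q (q + 1)))
      ((K.X q).obj.map (k ≫ p₁.1).op b)
    have h2' := NatTrans.naturality_apply (K.toCycles q (q + 1)).hom (k ≫ p₁.1).op b
    have e1 : (K.d q (q + 1)).hom.app (op V₃) ((K.X q).obj.map (k ≫ p₁.1).op b) =
        (K.iCycles (q + 1)).hom.app (op V₃) ((K.cycles (q + 1)).obj.map (k ≫ p₁.1).op
          ((K.toCycles q (q + 1)).hom.app (op V₁) b)) :=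
      h1.symm.trans (congrArg ((K.iCycles (q + 1)).hom.app (op V₃)) h2')
    refine e1.trans ?_
    rw [op_comp, Functor.map_comp_apply, hk, ← Functor.map_comp_apply, ← op_comp, ← hc]
    exact NatTrans.naturality_apply (K.iCycles (q + 1)).hom (k ≫ p₂.1).op c

lemma compose_steps {C : Type*} [Category C] {a b c d e a₁ b₁ c₁ d₁ : C} {i : a ⟶ b} {r : b ⟶ c}
    {E : c ⟶ d} {A : a ⟶ a₁} {L : a₁ ≅ c} {B : a₁ ⟶ b₁} {M : b₁ ≅ d} {C' : b₁ ⟶ c₁}
    {d' : C} {S' : d ⟶ d'} {N : c₁ ≅ d'} {D : c₁ ⟶ d₁} {P : d₁ ⟶ e} {O : d' ⟶ e}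
    (h1 : i ≫ r = A ≫ L.hom) (h2 : E = L.inv ≫ B ≫ M.hom) (h3 : S' = M.inv ≫ C' ≫ N.hom)
    (h4 : O = N.inv ≫ D ≫ P) : i ≫ r ≫ E ≫ S' ≫ O = A ≫ B ≫ C' ≫ D ≫ P := by
  subst h2 h3 h4
  rw [reassoc_of% h1]
  simp

section BaseChange

variable {X S' X' : Scheme.{u}} (f : X ⟶ S) (g : S' ⟶ S) (f' : X' ⟶ S') (g' : X' ⟶ X)
  (w : g' ≫ f = f' ≫ g) [PreservesFiniteLimits (EtCoh.pull g')] (F : EtCoh.Ab X)

/-- The comparison of resolutions over the unit. -/
noncomputable def resUnit : (injectiveResolution F).cocomplex ⟶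
    ((EtCoh.push g').mapHomologicalComplex (ComplexShape.up ℕ)).obj
      (injectiveResolution ((EtCoh.pull g').obj F)).cocomplex :=
  InjectiveResolution.desc ((EtCoh.pullPushAdj g').unit.app F)
      (injectiveResolution ((EtCoh.push g').obj ((EtCoh.pull g').obj F))) (injectiveResolution F) ≫
    RDer.descToInjectives (𝟙 ((EtCoh.push g').obj ((EtCoh.pull g').obj F)))
      (injectiveResolution ((EtCoh.push g').obj ((EtCoh.pull g').obj F))).cocomplex
      (injectiveResolution ((EtCoh.push g').obj ((EtCoh.pull g').obj F))).ι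
      (((EtCoh.push g').mapHomologicalComplex _).obj (injectiveResolution ((EtCoh.pull g').obj F)).cocomplex)
      (RDer.mapAug (EtCoh.push g') (injectiveResolution ((EtCoh.pull g').obj F)).ι)

lemma mapAug_f_zero {A B : Scheme.{u}} (u : A ⟶ B) (G : EtCoh.Ab A) :
    (RDer.mapAug (EtCoh.push u) (injectiveResolution G).ι).f 0 =
      (EtCoh.push u).map ((injectiveResolution G).ι.f 0) := by
  simp [RDer.mapAug, HomologicalComplex.singleMapHomologicalComplex]
  exact Category.id_comp _

lemma resUnit_zero :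
    (injectiveResolution F).ι.f 0 ≫ (resUnit g' F).f 0 =
      (EtCoh.pullPushAdj g').unit.app F ≫
        (EtCoh.push g').map ((injectiveResolution ((EtCoh.pull g').obj F)).ι.f 0) := by
  let L := injectiveResolution ((EtCoh.push g').obj ((EtCoh.pull g').obj F))
  refine (Category.assoc _ _ _).symm.trans ((congrArg (· ≫ _) (InjectiveResolution.desc_commutes_zero
    ((EtCoh.pullPushAdj g').unit.app F) L (injectiveResolution F))).trans
      ((Category.assoc _ _ _).trans (congrArg (_ ≫ ·) ?_)))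
  refine (RDer.ι_descToInjectives_f_zero _ _ _ _ _).trans ((Category.id_comp _).trans ?_)
  exact mapAug_f_zero g' ((EtCoh.pull g').obj F)

/-- The comparison of resolutions, transposed. -/
noncomputable def resUnitHom :
    Resn.Hom g' (injResn (injectiveResolution F)) (injResn (injectiveResolution ((EtCoh.pull g').obj F)))
      (𝟙 _) where
  f n := ((EtCoh.pullPushAdj g').homEquiv _ _).symm ((resUnit g' F).f n)
  comm n := by
    refine ((EtCoh.pullPushAdj g').homEquiv_naturality_left_symm _ _).symm.trans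
      (Eq.trans ?_ ((EtCoh.pullPushAdj g').homEquiv_naturality_right_symm _ _))
    exact congrArg _ ((resUnit g' F).comm n (n + 1)).symm
  comm_ε := by
    refine ((EtCoh.pullPushAdj g').homEquiv_naturality_left_symm _ _).symm.trans ?_
    refine (congrArg _ (resUnit_zero g' F)).trans ?_
    refine ((EtCoh.pullPushAdj g').homEquiv_naturality_right_symm _ _).trans (congrArg (· ≫ _) ?_)
    exact (Equiv.symm_apply_eq _).2 ((EtCoh.pullPushAdj g').homEquiv_id F).symm

/-- The morphism of complexes of direct images in a square. -/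
noncomputable def squareMap : pushCx f (injectiveResolution F) ⟶
    ((EtCoh.push g).mapHomologicalComplex (ComplexShape.up ℕ)).obj
      (pushCx f' (injectiveResolution ((EtCoh.pull g').obj F))) :=
  ((EtCoh.push f).mapHomologicalComplex _).map (resUnit g' F) ≫
    (NatTrans.mapHomologicalComplex
      (EtCoh.pushComp f g' ≪≫ EtCoh.pushCongr w ≪≫ (EtCoh.pushComp g f').symm).hom (ComplexShape.up ℕ)).app
      (injectiveResolution ((EtCoh.pull g').obj F)).cocomplex

set_option backward.isDefEq.respectTransparency.types false in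
lemma squareMap_app (q : ℕ) (V : S.Etale)
    (z : ((injectiveResolution F).cocomplex.X q).obj.obj (op ((EtCoh.bc f).obj V))) :
    ((squareMap f g f' g' w F).f q).hom.app (op V) z =
      ((injectiveResolution ((EtCoh.pull g').obj F)).cocomplex.X q).obj.map (bcSq f g f' g' w V).op
        (((resUnit g' F).f q).hom.app (op ((EtCoh.bc f).obj V)) z) := by
  let J := (injectiveResolution ((EtCoh.pull g').obj F)).cocomplex.X q
  show ((EtCoh.pushComp g f').inv.app J).hom.app (op V) (((EtCoh.pushCongr w).hom.app J).hom.app (op V)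
    (((EtCoh.pushComp f g').hom.app J).hom.app (op V) (((resUnit g' F).f q).hom.app _ z))) = _
  rw [pushComp_hom_app, pushComp_inv_app, pushCongr_hom_app]
  unfold bcSq
  erw [op_comp, Functor.map_comp, op_comp, Functor.map_comp]
  rfl

/-- The transposed base change morphism on cycles. -/
theorem π_bcQAdj (q : ℕ) :
    ((pushCx f (injectiveResolution F)).homologyπ q ≫
        ((injectiveResolution F).isoRightDerivedObj (EtCoh.push f) q).inv) ≫
        EtBC.bcQAdj f g f' g' w q F =
      HomologicalComplex.cyclesMap (squareMap f g f' g' w F) q ≫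
        RDer.cyclesComparison (EtCoh.push g) (pushCx f' (injectiveResolution ((EtCoh.pull g').obj F))) q ≫
          (EtCoh.push g).map ((pushCx f' (injectiveResolution ((EtCoh.pull g').obj F))).homologyπ q ≫
            ((injectiveResolution ((EtCoh.pull g').obj F)).isoRightDerivedObj (EtCoh.push f') q).inv) := by
  let J := injectiveResolution ((EtCoh.pull g').obj F)
  let I := injectiveResolution F
  let L := injectiveResolution ((EtCoh.push g').obj ((EtCoh.pull g').obj F))
  let a := InjectiveResolution.desc ((EtCoh.pullPushAdj g').unit.app F) L I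
  let b := RDer.descToInjectives (𝟙 ((EtCoh.push g').obj ((EtCoh.pull g').obj F))) L.cocomplex L.ι
      (((EtCoh.push g').mapHomologicalComplex _).obj J.cocomplex) (RDer.mapAug (EtCoh.push g') J.ι)
  have h1 : (I.isoRightDerivedObj (EtCoh.push f) q).inv ≫
      (EtCoh.Rpush f q).map ((EtCoh.pullPushAdj g').unit.app F) =
      HomologicalComplex.homologyMap (((EtCoh.push f).mapHomologicalComplex _).map a) q ≫
        (L.isoRightDerivedObj (EtCoh.push f) q).inv :=
    InjectiveResolution.isoRightDerivedObj_inv_naturality _ I L a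
      (InjectiveResolution.desc_commutes_zero _ L I) (EtCoh.push f) q
  have h2 : RDer.edgeIn (EtCoh.push g') (EtCoh.push f) q ((EtCoh.pull g').obj F) =
      (L.isoRightDerivedObj (EtCoh.push f) q).hom ≫
        HomologicalComplex.homologyMap (((EtCoh.push f).mapHomologicalComplex _).map b) q ≫
          (J.isoRightDerivedObj (EtCoh.push g' ⋙ EtCoh.push f) q).inv := rfl
  let α := EtCoh.pushComp f g' ≪≫ EtCoh.pushCongr w ≪≫ (EtCoh.pushComp g f').symm
  have h3 : (EtBC.RpushSquareIso f g f' g' w q).hom.app ((EtCoh.pull g').obj F) =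
      (J.isoRightDerivedObj (EtCoh.push g' ⋙ EtCoh.push f) q).hom ≫
        HomologicalComplex.homologyMap ((NatTrans.mapHomologicalComplex α.hom _).app J.cocomplex) q ≫
          (J.isoRightDerivedObj (EtCoh.push f' ⋙ EtCoh.push g) q).inv :=
    InjectiveResolution.rightDerived_app_eq α.hom J q
  have h4 : RDer.edgeOut (EtCoh.push f') (EtCoh.push g) q ((EtCoh.pull g').obj F) =
      (J.isoRightDerivedObj (EtCoh.push f' ⋙ EtCoh.push g) q).hom ≫
        RDer.homologyComparison (EtCoh.push g) (pushCx f' J) q ≫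
          (EtCoh.push g).map (J.isoRightDerivedObj (EtCoh.push f') q).inv := rfl
  have hχ : HomologicalComplex.homologyMap (((EtCoh.push f).mapHomologicalComplex _).map a) q ≫
      HomologicalComplex.homologyMap (((EtCoh.push f).mapHomologicalComplex _).map b) q ≫
        HomologicalComplex.homologyMap ((NatTrans.mapHomologicalComplex α.hom _).app J.cocomplex) q =
      HomologicalComplex.homologyMap (squareMap f g f' g' w F) q := by
    refine (Category.assoc _ _ _).symm.trans ?_
    refine (congrArg (· ≫ _) ((HomologicalComplex.homologyMap_comp _ _ q).symm.trans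
      (congrArg (fun ψ => HomologicalComplex.homologyMap ψ q) (Functor.map_comp _ a b).symm))).trans ?_
    exact (HomologicalComplex.homologyMap_comp _ _ q).symm
  have h5 : ((pushCx f I).homologyπ q ≫ (I.isoRightDerivedObj (EtCoh.push f) q).inv) ≫
        EtBC.bcQAdj f g f' g' w q F =
      (pushCx f I).homologyπ q ≫
        HomologicalComplex.homologyMap (((EtCoh.push f).mapHomologicalComplex _).map a) q ≫
        HomologicalComplex.homologyMap (((EtCoh.push f).mapHomologicalComplex _).map b) q ≫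
          HomologicalComplex.homologyMap ((NatTrans.mapHomologicalComplex α.hom _).app J.cocomplex) q ≫
          RDer.homologyComparison (EtCoh.push g) (pushCx f' J) q ≫
            (EtCoh.push g).map (J.isoRightDerivedObj (EtCoh.push f') q).inv :=
    (Category.assoc _ _ _).trans (congrArg ((pushCx f I).homologyπ q ≫ ·)
      (compose_steps (L := (L.isoRightDerivedObj (EtCoh.push f) q).symm)
        (M := (J.isoRightDerivedObj (EtCoh.push g' ⋙ EtCoh.push f) q).symm)
        (N := (J.isoRightDerivedObj (EtCoh.push f' ⋙ EtCoh.push g) q).symm) h1 h2 h3 h4))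
  calc ((pushCx f I).homologyπ q ≫ (I.isoRightDerivedObj (EtCoh.push f) q).inv) ≫
        EtBC.bcQAdj f g f' g' w q F
      = (pushCx f I).homologyπ q ≫ HomologicalComplex.homologyMap (squareMap f g f' g' w F) q ≫
          RDer.homologyComparison (EtCoh.push g) (pushCx f' J) q ≫
            (EtCoh.push g).map (J.isoRightDerivedObj (EtCoh.push f') q).inv := by
        refine h5.trans (congrArg ((pushCx f I).homologyπ q ≫ ·) ?_)
        rw [← hχ]
        exact ((Category.assoc _ _ _).trans (congrArg (_ ≫ ·) (Category.assoc _ _ _))).symm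
    _ = _ := by
        rw [Functor.map_comp, HomologicalComplex.homologyπ_naturality_assoc,
          RDer.homologyπ_homologyComparison_assoc]

variable {ξ' : Spec (CommRingCat.of Ω) ⟶ S'}

/-- The base change morphism on represented elements. -/
theorem rep_bcQ {q : ℕ} {V : S.Etale} {t : (Scheme.pointSmallEtale (ξ' ≫ g)).fiber.obj V}
    {z : ((injectiveResolution F).cocomplex.X q).obj.obj (op ((EtCoh.bc f).obj V))}
    {e : (EtCoh.stalk (ξ' ≫ g)).obj ((EtCoh.Rpush f q).obj F)}
    (h : Rep f (injectiveResolution F) (ξ' ≫ g) q V t z e) :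
    Rep f' (injectiveResolution ((EtCoh.pull g').obj F)) ξ' q ((EtCoh.bc g).obj V)
      (pushLift g ξ' rfl V t)
      (((injectiveResolution ((EtCoh.pull g').obj F)).cocomplex.X q).obj.map (bcSq f g f' g' w V).op
        (((resUnit g' F).f q).hom.app (op ((EtCoh.bc f).obj V)) z))
      ((EtCoh.stalk ξ').map (EtBC.bcQ f g f' g' w q F) ((stalkPullIso g ξ').hom.app _ e)) := by
  obtain ⟨c, hc, he⟩ := h
  let J := injectiveResolution ((EtCoh.pull g').obj F)
  let I := injectiveResolution F
  let K' := pushCx f' J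
  let c' : (K'.cycles q).obj.obj (op ((EtCoh.bc g).obj V)) :=
    (RDer.cyclesComparison (EtCoh.push g) K' q).hom.app (op V)
      ((HomologicalComplex.cyclesMap (squareMap f g f' g' w F) q).hom.app (op V) c)
  refine ⟨c', ?_, ?_⟩
  · refine (ConcreteCategory.congr_hom (congrArg (fun ψ => ψ.hom.app (op V))
      (RDer.cyclesComparison_i (EtCoh.push g) K' q)) _).trans ?_
    refine (ConcreteCategory.congr_hom (congrArg (fun ψ => ψ.hom.app (op V))
      (HomologicalComplex.cyclesMap_i (squareMap f g f' g' w F) q)) c).trans ?_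
    exact (congrArg (((squareMap f g f' g' w F).f q).hom.app (op V)) hc).trans (squareMap_app f g f' g' w F q V z)
  · let ψ := (pushCx f I).homologyπ q ≫ (I.isoRightDerivedObj (EtCoh.push f) q).inv
    let σ := ψ.hom.app (op V) c
    have he' : e = germ (ξ' ≫ g) ((EtCoh.Rpush f q).obj F) V t σ :=
      he.symm.trans (germ_map (ξ' ≫ g) ψ V t c)
    rw [he', stalkPullIso_germ, germ_map, germ_map]
    refine congrArg (germ ξ' _ _ _) ?_
    have k1 : ((EtBC.bcQ f g f' g' w q F).hom.app (op ((EtCoh.bc g).obj V)))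
        (((EtCoh.pullPushAdj g).unit.app ((EtCoh.Rpush f q).obj F)).hom.app (op V) σ) =
        (EtBC.bcQAdj f g f' g' w q F).hom.app (op V) σ := by
      have h := Equiv.apply_symm_apply ((EtCoh.pullPushAdj g).homEquiv ((EtCoh.Rpush f q).obj F)
        ((EtCoh.Rpush f' q).obj ((EtCoh.pull g').obj F))) (EtBC.bcQAdj f g f' g' w q F)
      rw [Adjunction.homEquiv_unit] at h
      exact ConcreteCategory.congr_hom (congrArg (fun ν => ν.hom.app (op V)) h) σ
    refine Eq.trans ?_ k1.symm
    exact (ConcreteCategory.congr_hom (congrArg (fun ν => ν.hom.app (op V))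
      (π_bcQAdj f g f' g' w F q)) c).symm

end BaseChange

end Groth.EtaleBase.EtLimit
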