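import Groth.Agent.EtaleBase.Limit.StalkEtale
import Groth.Agent.CohBase.DerivedShift

/-!
Direct images of flasque sheaves are flasque.
-/

set_option autoImplicit false

universe u

open CategoryTheory CategoryTheory.Limits CategoryTheory.Abelian AlgebraicGeometry Opposite

namespace Groth.EtaleBase.EtLimit

attribute [local instance] pull_preservesFiniteLimits

variable {X Y : Scheme.{u}} (f : X ⟶ Y) (F : EtCoh.Ab X)
  (hF : ∀ (W : X.Etale) (q : ℕ), 0 < q → Subsingleton (EtCoh.H W.left ((EtCoh.pull W.hom).obj F) q))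

include hF in
lemma stalk_Rpush_eq_zero {Ω : Type u} [Field Ω] [IsSepClosed Ω] (η : Spec (CommRingCat.of Ω) ⟶ Y)
    (n : ℕ) (e : (EtCoh.stalk η).obj ((EtCoh.Rpush f (n + 1)).obj F)) : e = 0 := by
  obtain ⟨V, t, z, h⟩ := exists_rep f (injectiveResolution F) η (n + 1) e
  exact eq_zero_of_cls f (injectiveResolution F) h h.cycle
    (@Subsingleton.elim _ (hF ((EtCoh.bc f).obj V) (n + 1) n.succ_pos) _ _)

include hF in
theorem isZero_Rpush_of_flasque (n : ℕ) : IsZero ((EtCoh.Rpush f (n + 1)).obj F) := by
  rw [IsZero.iff_id_eq_zero]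
  refine stalkAt_jointlyReflectIsomorphisms.jointlyFaithful.map_injective fun s => ?_
  rw [CategoryTheory.Functor.map_id, Functor.map_zero]
  ext x
  exact stalk_Rpush_eq_zero f F hF (geomPoint s) n x

include hF in
/-- Direct images of flasque sheaves are flasque. -/
theorem subsingleton_H_push (W : Y.Etale) (n : ℕ) :
    Subsingleton (EtCoh.H W.left ((EtCoh.pull W.hom).obj ((EtCoh.push f).obj F)) (n + 1)) := by
  haveI : PreservesFiniteLimits (EtCoh.push f) := EtBC.push_preservesFiniteLimits f
  haveI : (EtCoh.push f).PreservesInjectiveObjects := EtBC.push_preservesInjectiveObjects f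
  let I := injectiveResolution F
  let R := Groth.CohBase.mapResolution (EtCoh.push f) I (fun J hJ => (EtCoh.push f).injective_obj J)
    (fun n => isZero_Rpush_of_flasque f F hF n)
  refine subsingleton_of_forall_eq 0 fun x => ?_
  obtain ⟨z, h, rfl⟩ := exists_clsAt_eq R W x
  obtain ⟨b, hb⟩ := exists_boundary_of_clsAt I ((EtCoh.bc f).obj W) (z := z) h
    (@Subsingleton.elim _ (hF ((EtCoh.bc f).obj W) (n + 1) n.succ_pos) _ _)
  have hb' : ((injResn R).d n).hom.app (op W) b = z := hb
  exact ((injResn R).clsAt_congr hb'.symm h ((congrArg _ hb').trans h)).trans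
    ((injResn R).clsAt_boundary b _)

end Groth.EtaleBase.EtLimit
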