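import Groth.Agent.EtaleBase.Limit.PullOn
import Groth.Agent.EtaleBase.BaseChange0

/-!
Pullbacks of cohomology classes along composites.
-/

set_option autoImplicit false

universe u

open CategoryTheory CategoryTheory.Limits CategoryTheory.Abelian AlgebraicGeometry Opposite

namespace Groth.EtaleBase.EtLimit

variable {X Y Z : Scheme.{u}} (f : X ⟶ Y) (g : Y ⟶ Z) [PreservesFiniteLimits (EtCoh.pull f)]
  [PreservesFiniteLimits (EtCoh.pull g)] [PreservesFiniteLimits (EtCoh.pull (f ≫ g))]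

/-- The composite coefficient map. -/
noncomputable abbrev compCoeff {F : EtCoh.Ab Z} {M : EtCoh.Ab Y} {N : EtCoh.Ab X}
    (ρ : F ⟶ (EtCoh.push g).obj M) (σ : M ⟶ (EtCoh.push f).obj N) :
    F ⟶ (EtCoh.push (f ≫ g)).obj N :=
  ρ ≫ (EtCoh.push g).map σ ≫ (EtCoh.pushComp g f).hom.app N

theorem pullOn_comp_units (F : EtCoh.Ab Z) (n : ℕ) : ∀ (x : EtCoh.H Z F n),
    pullOn f ((EtCoh.pullPushAdj f).unit.app _) n (pullOn g ((EtCoh.pullPushAdj g).unit.app F) n x) =
      pullOn (f ≫ g) (compCoeff f g ((EtCoh.pullPushAdj g).unit.app F)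
        ((EtCoh.pullPushAdj f).unit.app ((EtCoh.pull g).obj F))) n x := by
  induction n generalizing F with
  | zero =>
    intro x
    apply (gs _).injective
    rw [gs_pullOn, gs_pullOn, gs_pullOn]
    let G := (EtCoh.pull g).obj F
    let N := (EtCoh.pull f).obj G
    let σ : G ⟶ (EtCoh.push f).obj N := (EtCoh.pullPushAdj f).unit.app G
    let t : G.obj.obj (op ((EtCoh.bc g).obj (EtCoh.top Z))) :=
      ((EtCoh.pullPushAdj g).unit.app F).hom.app (op (EtCoh.top Z)) (gs F x)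
    refine (congrArg (N.obj.map (EtCore.bcTopIso f).inv.op)
      (NatTrans.naturality_apply σ.hom (EtCore.bcTopIso g).inv.op t)).trans ?_
    refine Eq.trans ?_ (congrArg (N.obj.map (EtCore.bcTopIso (f ≫ g)).inv.op)
      (ConcreteCategory.congr_hom (pushComp_hom_app g f N (EtCoh.top Z))
        (σ.hom.app (op ((EtCoh.bc g).obj (EtCoh.top Z))) t))).symm
    refine (ConcreteCategory.congr_hom (N.obj.map_comp _ _).symm _).trans ?_
    refine Eq.trans ?_ (ConcreteCategory.congr_hom (N.obj.map_comp _ _) _)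
    refine congrArg (fun m => N.obj.map m (σ.hom.app (op ((EtCoh.bc g).obj (EtCoh.top Z))) t)) ?_
    refine Quiver.Hom.unop_inj ?_
    let e := (EtCoh.bc f).mapIso (EtCore.bcTopIso g) ≪≫ EtCore.bcTopIso f
    exact ((EtCore.topIsTerminal X).ofIso e.symm).hom_ext _ _
  | succ n ih =>
    intro x
    obtain ⟨a, rfl⟩ := Groth.EtaleBase.ExtAdj.exists_comp_extClass (EtCoh.const Z ℤ) F n x
    let S := Groth.CohFin.injSeq F
    have hS := Groth.CohFin.injSeq_shortExact F
    let S' := S.map (EtCoh.pull g)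
    have hS' : S'.ShortExact := hS.map_of_exact _
    let S'' := S'.map (EtCoh.pull f)
    have hS'' : S''.ShortExact := hS'.map_of_exact _
    let ρ : S ⟶ S'.map (EtCoh.push g) := ShortComplex.Hom.mk
      ((EtCoh.pullPushAdj g).unit.app _) ((EtCoh.pullPushAdj g).unit.app _)
      ((EtCoh.pullPushAdj g).unit.app _) ((EtCoh.pullPushAdj g).unit.naturality S.f).symm
      ((EtCoh.pullPushAdj g).unit.naturality S.g).symm
    let σ : S' ⟶ S''.map (EtCoh.push f) := ShortComplex.Hom.mk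
      ((EtCoh.pullPushAdj f).unit.app _) ((EtCoh.pullPushAdj f).unit.app _)
      ((EtCoh.pullPushAdj f).unit.app _) ((EtCoh.pullPushAdj f).unit.naturality S'.f).symm
      ((EtCoh.pullPushAdj f).unit.naturality S'.g).symm
    let τ : S ⟶ S''.map (EtCoh.push (f ≫ g)) :=
      ρ ≫ (EtCoh.push g).mapShortComplex.map σ ≫ (S''.mapNatTrans (EtCoh.pushComp g f).hom)
    refine (congrArg (pullOn f σ.τ₁ (n + 1)) (pullOn_extClass g hS hS' ρ n a)).trans ?_
    refine (pullOn_extClass f hS' hS'' σ n _).trans ?_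
    refine (congrArg (fun z => Ext.comp z hS''.extClass rfl) (ih S.X₃ a)).trans ?_
    exact (pullOn_extClass (f ≫ g) hS hS'' τ n a).symm

/-- Pullback along a composite. -/
theorem pullOn_comp {F : EtCoh.Ab Z} {M : EtCoh.Ab Y} {N : EtCoh.Ab X}
    (ρ : F ⟶ (EtCoh.push g).obj M) (σ : M ⟶ (EtCoh.push f).obj N) (n : ℕ) (x : EtCoh.H Z F n) :
    pullOn f σ n (pullOn g ρ n x) = pullOn (f ≫ g) (compCoeff f g ρ σ) n x := by
  let ρ' : (EtCoh.pull g).obj F ⟶ M := ((EtCoh.pullPushAdj g).homEquiv _ _).symm ρ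
  let σ' : (EtCoh.pull f).obj ((EtCoh.pull g).obj F) ⟶ N :=
    ((EtCoh.pullPushAdj f).homEquiv _ _).symm (ρ' ≫ σ)
  have hρ : (EtCoh.pullPushAdj g).unit.app F ≫ (EtCoh.push g).map ρ' = ρ := by
    exact ((EtCoh.pullPushAdj g).homEquiv_unit _ _ _).symm.trans (Equiv.apply_symm_apply _ _)
  have hσ : (EtCoh.pullPushAdj f).unit.app _ ≫ (EtCoh.push f).map σ' = ρ' ≫ σ := by
    exact ((EtCoh.pullPushAdj f).homEquiv_unit _ _ _).symm.trans (Equiv.apply_symm_apply _ _)
  have h1 := pullOn_map g (𝟙 F) ρ' ((EtCoh.pullPushAdj g).unit.app F) ρ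
    ((Category.id_comp ρ).trans hρ.symm) n x
  rw [Ext.comp_mk₀_id] at h1
  rw [h1]
  refine (pullOn_map f ρ' σ' ((EtCoh.pullPushAdj f).unit.app _) σ hσ.symm n _).trans ?_
  refine (congrArg (fun z => Ext.comp z (Ext.mk₀ σ') (add_zero n)) (pullOn_comp_units f g F n x)).trans ?_
  refine (pullOn_map (f ≫ g) (𝟙 F) σ' _ (compCoeff f g ρ σ) ?_ n x).symm.trans (by rw [Ext.comp_mk₀_id])
  rw [Category.id_comp, compCoeff, compCoeff, ← hρ]
  simp only [Category.assoc]
  refine congrArg ((EtCoh.pullPushAdj g).unit.app F ≫ ·) ?_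
  rw [← Functor.map_comp_assoc, ← hσ, Functor.map_comp, Category.assoc]
  exact congrArg (_ ≫ ·) ((EtCoh.pushComp g f).hom.naturality σ')

omit f g in
/-- Equal morphisms give the same pullback. -/
theorem pullOn_congr {u u' : X ⟶ Y} [PreservesFiniteLimits (EtCoh.pull u)]
    [PreservesFiniteLimits (EtCoh.pull u')] (e : u = u') {F : EtCoh.Ab Y} {M : EtCoh.Ab X}
    (ρ : F ⟶ (EtCoh.push u).obj M) (n : ℕ) (x : EtCoh.H Y F n) :
    pullOn u' (ρ ≫ (EtCoh.pushCongr e).hom.app M) n x = pullOn u ρ n x := by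
  subst e
  have h : (EtCoh.pushCongr (rfl : u = u)).hom.app M = 𝟙 _ := by
    apply (sheafToPresheaf _ _).map_injective
    ext V s
    show ((EtCoh.pushCongr (rfl : u = u)).hom.app M).hom.app (op V.unop) s = s
    rw [pushCongr_hom_app]
    refine (congrArg (fun m => M.obj.map m s)
      (show ((MorphismProperty.Over.pullbackCongr (P := EtCoh.etaleMP) (Q := ⊤)
        (rfl : u = u)).inv.app V.unop).op = 𝟙 _ from ?_)).trans ?_
    · refine Quiver.Hom.unop_inj ?_
      exact MorphismProperty.Over.Hom.ext (pullback.hom_ext (by simp [MorphismProperty.Over.pullbackCongr]; rfl)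
        (by simp [MorphismProperty.Over.pullbackCongr]; rfl))
    · exact ConcreteCategory.congr_hom (M.obj.map_id _) s
  rw [h, Category.comp_id]

end Groth.EtaleBase.EtLimit
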