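import Groth.Agent.EtaleBase.Limit.Compare
import Groth.Agent.EtaleBase.CechFiltered
import Groth.Agent.EtaleBase.InjCoh
import Mathlib.CategoryTheory.Sites.EpiMono

/-!
The inverse image to the limit of an injective sheaf on the system has vanishing higher cohomology.
-/

set_option autoImplicit false

universe u

open CategoryTheory CategoryTheory.Limits CategoryTheory.Abelian AlgebraicGeometry Opposite

namespace Groth.EtaleBase.EtLimit

variable {ι : Type u} [Preorder ι] [Nonempty ι] [IsDirectedOrder ι] {Xs : ιᵒᵖ ⥤ Scheme.{u}}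
  (c : Cone Xs)

/-- Composing restrictions of a presheaf. -/
lemma mapMap {C : Type (u + 1)} [Category.{u} C] (F : Cᵒᵖ ⥤ AddCommGrpCat.{u + 1}) {a b d : C}
    (f : a ⟶ b) (g : b ⟶ d) (v : F.obj (op d)) :
    F.map f.op (F.map g.op v) = F.map (f ≫ g).op v :=
  (Functor.map_comp_apply F g.op f.op v).symm

lemma map_one_apply {C : Type (u + 1)} [Category.{u} C] (F : Cᵒᵖ ⥤ AddCommGrpCat.{u + 1}) {a : C}
    (v : F.obj (op a)) : F.map (𝟙 a).op v = v :=
  ConcreteCategory.congr_hom (F.map_id (op a)) v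

/-- A sheaf on the cone point, on the site of a stage. -/
noncomputable abbrev atStage (L : ι) (F : EtCoh.Ab c.pt) :
    ((Xs.obj (op L)).Etale)ᵒᵖ ⥤ AddCommGrpCat.{u + 1} :=
  ((EtCoh.push (proj Xs c L)).obj F).obj

/-- Čech cohomology vanishes for finite families of quasi-compact quasi-separated schemes at all
stages. -/
def Acyc (F : EtCoh.Ab c.pt) : Prop :=
  ∀ (L : ι) (U : (Xs.obj (op L)).Etale) (κ : Type (u + 1)) [Finite κ] (Uf : κ → Over U),
    CechFiltered.QCQS U → (∀ r, CechFiltered.QCQS (Uf r).left) →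
      ∀ n : ℕ, IsZero (EtCech.cechH Uf (atStage c L F) (n + 1))

omit [Nonempty ι] [IsDirectedOrder ι] in
lemma acyc_injective (F : EtCoh.Ab c.pt) [Injective F] : Acyc c F := by
  intro L U κ _ Uf _ _ n
  haveI : Injective ((EtCoh.push (proj Xs c L)).obj F) :=
    (EtCoh.push (proj Xs c L)).injective_obj F
  haveI := InjCoh.injective_presheaf ((EtCoh.push (proj Xs c L)).obj F)
  exact CechInj.isZero_cechH _ n

omit [Nonempty ι] [IsDirectedOrder ι] in
/-- Sections of a short exact sequence of sheaves form a left exact sequence. -/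
lemma sections_exact {Y : Scheme.{u}} {S : ShortComplex (EtCoh.Ab Y)} (hS : S.ShortExact)
    (Z : (Y.Etale)ᵒᵖ) :
    Function.Injective (S.f.hom.app Z) ∧
      (∀ x, S.g.hom.app Z x = 0 → ∃ y, S.f.hom.app Z y = x) ∧
      ∀ y, S.g.hom.app Z (S.f.hom.app Z y) = 0 := by
  let G := sheafToPresheaf Y.smallEtaleTopology AddCommGrpCat.{u + 1} ⋙
    (evaluation _ AddCommGrpCat.{u + 1}).obj Z
  have := hS.mono_f
  haveI : PreservesFiniteLimits G := inferInstance
  haveI : G.PreservesZeroMorphisms := inferInstance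
  have h1 := hS.exact.map_of_mono_of_preservesKernel G hS.mono_f inferInstance
  refine ⟨(AddCommGrpCat.mono_iff_injective _).1 (inferInstanceAs (Mono (G.map S.f))),
    fun x hx => ((ShortComplex.ab_exact_iff _).1 h1) x hx, fun y => ?_⟩
  exact ConcreteCategory.congr_hom (S.map G).zero y

omit [Nonempty ι] [IsDirectedOrder ι] in
/-- A variant of the long exact sequence of Čech cohomology. -/
lemma isZero_cechH_of_exact' {C : Type (u + 1)} [Category.{u} C] {U : C} {κ : Type (u + 1)}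
    {Uf : κ → Over U} [HasFiniteProducts (Over U)] {P Q R : Cᵒᵖ ⥤ AddCommGrpCat.{u + 1}}
    (f : P ⟶ Q) (g : Q ⟶ R) (hinj : ∀ Z, Function.Injective (f.app Z))
    (hex : ∀ (Z) (x : Q.obj Z), g.app Z x = 0 → ∃ y, f.app Z y = x)
    (hfg : ∀ (Z) (y : P.obj Z), g.app Z (f.app Z y) = 0) (n : ℕ)
    (hsurj : ∀ σ : Fin (n + 2) → κ, Function.Surjective (g.app (op (CechInj.W (Uf := Uf) σ))))
    (hP : IsZero (EtCech.cechH Uf P (n + 2))) (hQ : IsZero (EtCech.cechH Uf Q (n + 1))) :
    IsZero (EtCech.cechH Uf R (n + 1)) := by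
  open CechInj in
  rw [isZero_cechH_iff] at hP hQ ⊢
  intro c hc
  choose b hb using fun σ : Fin (n + 2) → κ => hsurj σ (c σ)
  have hgb : ∀ σ, g.app _ (CechInj.coboundary Q b σ) = 0 := fun σ => by
    rw [← CechInj.coboundary_map g b σ, funext hb]
    exact congrFun hc σ
  choose e he using fun σ => hex _ _ (hgb σ)
  obtain ⟨k, hk⟩ := hP e (funext fun τ => hinj _ (by
    rw [← CechInj.coboundary_map f e τ, funext he, CechInj.coboundary_coboundary]
    exact (map_zero _).symm))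
  have hz : CechInj.coboundary Q (b - fun σ => f.app _ (k σ)) = 0 := by
    rw [CechInj.coboundary_sub, sub_eq_zero]
    funext σ
    rw [CechInj.coboundary_map f k σ, hk]
    exact (he σ).symm
  obtain ⟨h, hh⟩ := hQ _ hz
  refine ⟨fun τ => g.app _ (h τ), funext fun σ => ?_⟩
  rw [CechInj.coboundary_map g h σ, hh]
  exact (map_sub (g.app _).hom _ _).trans (by rw [hfg, sub_zero]; exact hb σ)

section Stages

variable [∀ (p q : ιᵒᵖ) (h : p ⟶ q), IsAffineHom (Xs.map h)]
  [∀ p, CompactSpace ↥(Xs.obj p)] [∀ p, QuasiSeparatedSpace ↥(Xs.obj p)]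
  {c} (hc : IsLimit c)

include hc in
/-- Sections on quasi-compact quasi-separated objects lift along epimorphisms with acyclic kernel. -/
theorem exists_section_lift {S : ShortComplex (EtCoh.Ab c.pt)} (hS : S.ShortExact)
    (h1 : Acyc c S.X₁) {L : ι} (U : (Xs.obj (op L)).Etale) (hU : CechFiltered.QCQS U)
    (s : (atStage c L S.X₃).obj (op U)) :
    ∃ t : (atStage c L S.X₂).obj (op U),
      S.g.hom.app (op ((EtCoh.bc (proj Xs c L)).obj U)) t = s := by
  classical
  let a : Obj Xs := (incl Xs L).obj U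
  have hloc : ∀ x : ((toPt Xs c).obj a).left, ∃ (b : Obj Xs) (f : b ⟶ a)
      (t : S.X₂.obj.obj (op ((toPt Xs c).obj b))), QC b ∧
        x ∈ Set.range ((toPt Xs c).map f).left.base ∧
        S.g.hom.app _ t = S.X₃.obj.map ((toPt Xs c).map f).op s := by
    intro x
    have := hS.epi_g
    haveI : Sheaf.IsLocallySurjective S.g := (Sheaf.isLocallySurjective_iff_epi' (φ := S.g)).2 hS.epi_g
    have hR := Presheaf.imageSieve_mem c.pt.smallEtaleTopology S.g.hom
      (U := op ((toPt Xs c).obj a)) s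
    obtain ⟨b, m, hb, ⟨t, ht⟩, hx⟩ := exists_piece hc hR x
    haveI := hb.1
    haveI := hb.2
    obtain ⟨k, hk, ψ, hψ⟩ := exists_map_eq hc m
    refine ⟨_, ψ, S.X₂.obj.map ((toPt Xs c).map (ext Xs b hk)).op t, hb.ext hk, ?_, ?_⟩
    · obtain ⟨w, hw⟩ := hx
      obtain ⟨w', hw'⟩ := surjective_left ((toPt Xs c).map (ext Xs b hk)) w
      refine ⟨w', ?_⟩
      rw [hψ]
      exact (Scheme.Hom.comp_apply _ m.left w').trans ((congrArg m.left.base hw').trans hw)
    · rw [NatTrans.naturality_apply, hψ, op_comp, Functor.map_comp_apply]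
      exact congrArg _ ht
  choose b f t hb hx ht using hloc
  haveI := compactSpace_toPt (a := a) hc hU.1
  obtain ⟨T, hT⟩ := isCompact_univ.elim_finite_subcover
    (fun x => Set.range ((toPt Xs c).map (f x)).left.base)
    (fun x => by
      haveI : AlgebraicGeometry.Etale ((toPt Xs c).map (f x)).left :=
        MorphismProperty.of_postcomp @AlgebraicGeometry.Etale _ ((toPt Xs c).obj a).hom
          ((toPt Xs c).obj a).prop
          (by rw [MorphismProperty.Over.w]; exact ((toPt Xs c).obj (b x)).prop)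
      exact ((toPt Xs c).map (f x)).left.isOpenMap.isOpen_range)
    (fun x _ => Set.mem_iUnion.2 ⟨x, hx x⟩)
  let κ : Type u := {x // x ∈ T}
  haveI : Fintype κ := Finset.Subtype.fintype T
  obtain ⟨L', h, W, g, e, he, hW, hcov⟩ := exists_stage_family hc (a := a) hU.1 (κ := κ)
    (fun r => b r.1) (fun r => f r.1) (fun r => hb r.1) (fun x => by
      obtain ⟨r, hr, hxr⟩ := Set.mem_iUnion₂.1 (hT (Set.mem_univ x))
      exact ⟨⟨r, hr⟩, hxr⟩)
  let U' : (Xs.obj (op L')).Etale := (EtCoh.bc (trn Xs h)).obj U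
  let Uf : ULift.{u + 1} κ → Over U' := fun r => Over.mk (g r.down)
  let s' : (atStage c L' S.X₃).obj (op U') := S.X₃.obj.map ((toPt Xs c).map (ext Xs a h)).op s
  let fP : atStage c L' S.X₁ ⟶ atStage c L' S.X₂ := ((EtCoh.push (proj Xs c L')).map S.f).hom
  let gP : atStage c L' S.X₂ ⟶ atStage c L' S.X₃ := ((EtCoh.push (proj Xs c L')).map S.g).hom
  let tr : ∀ r : ULift.{u + 1} κ, (atStage c L' S.X₂).obj (op (Uf r).left) := fun r =>
    S.X₂.obj.map ((toPt Xs c).map (e r.down)).op (t r.down.1)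
  have hgt : ∀ r, gP.app _ (tr r) = (atStage c L' S.X₃).map (Uf r).hom.op s' := fun r => by
    refine (NatTrans.naturality_apply S.g.hom ((toPt Xs c).map (e r.down)).op (t r.down.1)).trans ?_
    refine (congrArg _ (ht r.down.1)).trans ?_
    refine (Functor.map_comp_apply S.X₃.obj _ _ s).symm.trans
      (Eq.trans ?_ (Functor.map_comp_apply S.X₃.obj _ _ s))
    refine congrArg (fun m => S.X₃.obj.map m s) ?_
    refine congrArg Quiver.Hom.op (?_ : _ = _ ≫ _)
    exact ((toPt Xs c).map_comp _ _).symm.trans ((congrArg (toPt Xs c).map (he r.down)).trans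
      (((toPt Xs c).map_comp _ _).trans (congrArg (· ≫ _) (toPt_map_incl Xs c L' (g r.down)))))
  have hU' : CechFiltered.QCQS U' := QC.ext (a := a) hU h
  obtain ⟨t', ht', hcomp⟩ := CechInj.exists_compatible_lifts (Uf := Uf) fP gP
    (fun Z => (sections_exact hS _).1) (fun Z => (sections_exact hS _).2.1)
    (fun Z => (sections_exact hS _).2.2) (h1 L' U' _ Uf hU' (fun r => hW r.down) 0) s' tr hgt
  have hsurjU : ∀ x : U'.left, ∃ r : ULift.{u + 1} κ, x ∈ Set.range (Uf r).hom.left.base := by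
    intro x
    obtain ⟨V, q, v, ⟨_, l, _, ⟨r⟩, hl⟩, hv⟩ := hcov x
    exact ⟨⟨r⟩, l.1.base v, ((Scheme.Hom.comp_apply l.1 (g r).left v).symm.trans
      (congrArg (fun m => m.base v) (congrArg Subtype.val hl))).trans hv⟩
  have hmem : Sieve.ofArrows (fun r => (Uf r).left) (fun r => (Uf r).hom) ∈
      (Xs.obj (op L')).smallEtaleTopology U' := by
    refine (Groth.EtaleBase.mem_topology_iff _).2 fun x => ?_
    obtain ⟨r, v, hv⟩ := hsurjU x
    exact ⟨_, (Uf r).hom, v, Sieve.ofArrows_mk _ _ r, hv⟩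
  have hsh : ∀ F : EtCoh.Ab c.pt,
      (Presieve.ofArrows (fun r => (Uf r).left) (fun r => (Uf r).hom)).IsSheafFor
        (atStage c L' F ⋙ forget AddCommGrpCat.{u + 1}) := fun F =>
    (Presieve.isSheafFor_iff_generate _).2 ((isSheaf_iff_isSheaf_of_type _ _).1
      (GrothendieckTopology.HasSheafCompose.isSheaf (F := forget AddCommGrpCat.{u + 1})
        ((EtCoh.push (proj Xs c L')).obj F).obj ((EtCoh.push (proj Xs c L')).obj F).property) _ hmem)
  obtain ⟨t₀, ht₀, -⟩ := (Presieve.isSheafFor_arrows_iff _ _).1 (hsh S.X₂) t'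
    (fun i j Z gi gj hij => hcomp i j Z gi gj hij)
  have hg0 : gP.app (op U') t₀ = s' := by
    refine (hsh S.X₃).isSeparatedFor.ext ?_
    rintro _ _ ⟨r⟩
    exact (NatTrans.naturality_apply gP (Uf r).hom.op t₀).symm.trans
      ((congrArg _ (ht₀ r)).trans (ht' r))
  refine ⟨S.X₂.obj.map (extInv Xs c a h).op t₀, ?_⟩
  refine (NatTrans.naturality_apply S.g.hom (extInv Xs c a h).op t₀).trans ((congrArg _ hg0).trans ?_)
  refine (mapMap _ _ _ _).trans ?_
  exact (congrArg (fun m => S.X₃.obj.map (Quiver.Hom.op m) s) (extInv_comp_map_ext Xs c a h)).trans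
    (map_one_apply S.X₃.obj s)

include hc in
theorem acyc_quotient {S : ShortComplex (EtCoh.Ab c.pt)} (hS : S.ShortExact)
    (h1 : Acyc c S.X₁) (h2 : Acyc c S.X₂) : Acyc c S.X₃ := by
  intro L U κ _ Uf hU hUf n
  refine isZero_cechH_of_exact' ((EtCoh.push (proj Xs c L)).map S.f).hom
    ((EtCoh.push (proj Xs c L)).map S.g).hom (fun Z => (sections_exact hS _).1)
    (fun Z => (sections_exact hS _).2.1) (fun Z => (sections_exact hS _).2.2) n (fun σ s => ?_)
    (h1 L U κ Uf hU hUf (n + 1)) (h2 L U κ Uf hU hUf n)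
  exact exists_section_lift hc hS h1 _ (CechFiltered.qcqs_W Uf hU hUf _ σ) s

include hc in
/-- Cartan's criterion on the limit. -/
theorem H_of_acyc (n : ℕ) : ∀ F : EtCoh.Ab c.pt, Acyc c F →
    Subsingleton (EtCoh.H c.pt F (n + 1)) := by
  induction n with
  | zero =>
    intro F hF
    refine subsingleton_of_forall_eq 0 fun x => ?_
    obtain ⟨a, rfl⟩ := ExtAdj.exists_comp_extClass (C := EtCoh.Ab c.pt) _ F 0 x
    have hS := Groth.CohFin.injSeq_shortExact F
    obtain ⟨j⟩ := ‹Nonempty ι›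
    have hT := EtCore.topIsTerminal c.pt
    let eT : (EtCoh.bc (proj Xs c j)).obj (EtCoh.top (Xs.obj (op j))) ⟶ EtCoh.top c.pt :=
      (EtCore.bcTopIso (proj Xs c j)).hom
    obtain ⟨t, ht⟩ := exists_section_lift hc hS hF (L := j) (EtCoh.top (Xs.obj (op j)))
      ⟨(inferInstance : CompactSpace ↥(Xs.obj (op j))), (inferInstance : QuasiSeparatedSpace ↥(Xs.obj (op j)))⟩
      ((Groth.CohFin.injSeq F).X₃.obj.map eT.op (Sheaf.H.equiv₀ _ hT a))
    let t' := (Groth.CohFin.injSeq F).X₂.obj.map (EtCore.bcTopIso (proj Xs c j)).inv.op t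
    have hg : (Groth.CohFin.injSeq F).g.hom.app (op (EtCoh.top c.pt)) t' =
        Sheaf.H.equiv₀ _ hT a := by
      refine (NatTrans.naturality_apply (Groth.CohFin.injSeq F).g.hom _ t).trans
        ((congrArg _ ht).trans ?_)
      refine (mapMap _ _ _ _).trans ?_
      exact (congrArg (fun m => (Groth.CohFin.injSeq F).X₃.obj.map (Quiver.Hom.op m) _)
        (EtCore.bcTopIso (proj Xs c j)).inv_hom_id).trans (map_one_apply _ _)
    have ha : a = ((Sheaf.H.equiv₀ _ hT).symm t').comp (Ext.mk₀ (Groth.CohFin.injSeq F).g)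
        (add_zero 0) := by
      refine (Sheaf.H.equiv₀ _ hT).injective ?_
      refine hg.symm.trans ((congrArg _ ((Sheaf.H.equiv₀ _ hT).apply_symm_apply t').symm).trans ?_)
      exact Sheaf.H.equiv₀_naturality (hT := hT) _ _
    rw [ha]
    refine (Ext.comp_assoc (a₁₂ := 0) _ _ _ (add_zero 0) (zero_add 1) (by omega)).trans ?_
    exact (congrArg (fun z => Ext.comp _ z rfl) hS.comp_extClass).trans (Ext.comp_zero _ _ _ _ _)
  | succ n ih =>
    intro F hF
    refine subsingleton_of_forall_eq 0 fun x => ?_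
    obtain ⟨a, rfl⟩ := ExtAdj.exists_comp_extClass (C := EtCoh.Ab c.pt) _ F (n + 1) x
    have hQ := acyc_quotient hc (Groth.CohFin.injSeq_shortExact F) hF
      (haveI : Injective (Groth.CohFin.injSeq F).X₂ := inferInstanceAs (Injective (Injective.under F))
       acyc_injective c _)
    rw [@Subsingleton.elim _ (ih _ hQ) a 0]
    exact Ext.zero_comp _ _ _ _ _

variable (M : AbSys Xs)

/-- The projection from the base change of an object of a stage. -/
noncomputable def st {L k : ι} (hk : L ≤ k) (Z : (Xs.obj (op L)).Etale) :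
    (incl Xs k).obj ((EtCoh.bc (trn Xs hk)).obj Z) ⟶ (incl Xs L).obj Z :=
  ext Xs ((incl Xs L).obj Z) hk

variable (c) in
/-- Its inverse on the limit. -/
noncomputable def stInv {L k : ι} (hk : L ≤ k) (Z : (Xs.obj (op L)).Etale) :
    (toPt Xs c).obj ((incl Xs L).obj Z) ⟶
      (toPt Xs c).obj ((incl Xs k).obj ((EtCoh.bc (trn Xs hk)).obj Z)) :=
  extInv Xs c ((incl Xs L).obj Z) hk

omit [Nonempty ι] [IsDirectedOrder ι] [∀ (p q : ιᵒᵖ) (h : p ⟶ q), IsAffineHom (Xs.map h)]
  [∀ p, CompactSpace ↥(Xs.obj p)] [∀ p, QuasiSeparatedSpace ↥(Xs.obj p)] in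
variable (c) in
lemma stInv_st {L k : ι} (hk : L ≤ k) (Z : (Xs.obj (op L)).Etale) :
    stInv c hk Z ≫ (toPt Xs c).map (st hk Z) = 𝟙 _ :=
  extInv_comp_map_ext Xs c _ hk

omit [Nonempty ι] [IsDirectedOrder ι] [∀ (p q : ιᵒᵖ) (h : p ⟶ q), IsAffineHom (Xs.map h)]
  [∀ p, CompactSpace ↥(Xs.obj p)] [∀ p, QuasiSeparatedSpace ↥(Xs.obj p)] in
variable (c) in
lemma st_stInv {L k : ι} (hk : L ≤ k) (Z : (Xs.obj (op L)).Etale) :
    (toPt Xs c).map (st hk Z) ≫ stInv c hk Z = 𝟙 _ :=
  map_ext_comp_extInv Xs c _ hk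

omit [Nonempty ι] [IsDirectedOrder ι] [∀ (p q : ιᵒᵖ) (h : p ⟶ q), IsAffineHom (Xs.map h)]
  [∀ p, CompactSpace ↥(Xs.obj p)] [∀ p, QuasiSeparatedSpace ↥(Xs.obj p)] in
lemma st_cancel {d : Obj Xs} {L k : ι} (hk : L ≤ k) (Z : (Xs.obj (op L)).Etale)
    (z₁ z₂ : d ⟶ (incl Xs k).obj ((EtCoh.bc (trn Xs hk)).obj Z))
    (e : z₁ ≫ st hk Z = z₂ ≫ st hk Z) : z₁ = z₂ :=
  Obj.hom_ext (pullback.hom_ext (congrArg Subtype.val e)
    ((Obj.w z₁ (Obj.idx_le z₁)).trans (Obj.w z₂ (Obj.idx_le z₁)).symm))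

omit [Nonempty ι] [IsDirectedOrder ι] [∀ (p q : ιᵒᵖ) (h : p ⟶ q), IsAffineHom (Xs.map h)]
  [∀ p, CompactSpace ↥(Xs.obj p)] [∀ p, QuasiSeparatedSpace ↥(Xs.obj p)] in
lemma st_natural {L k : ι} (hk : L ≤ k) {Z Z' : (Xs.obj (op L)).Etale} (δ : Z ⟶ Z') :
    (incl Xs k).map ((EtCoh.bc (trn Xs hk)).map δ) ≫ st hk Z' =
      st hk Z ≫ (incl Xs L).map δ :=
  Obj.hom_ext (EtCoh.isPullback_bc_map (trn Xs hk) δ).w

/-- The transition between two stages. -/
noncomputable def dn {L k k' : ι} (hk : L ≤ k) (hkk : k ≤ k') (Z : (Xs.obj (op L)).Etale) :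
    (incl Xs k').obj ((EtCoh.bc (trn Xs (hk.trans hkk))).obj Z) ⟶
      (incl Xs k).obj ((EtCoh.bc (trn Xs hk)).obj Z) :=
  (exists_factor_stage (ext Xs ((incl Xs L).obj Z) (hk.trans hkk)) hk hkk).choose

omit [Nonempty ι] [IsDirectedOrder ι] [∀ (p q : ιᵒᵖ) (h : p ⟶ q), IsAffineHom (Xs.map h)]
  [∀ p, CompactSpace ↥(Xs.obj p)] [∀ p, QuasiSeparatedSpace ↥(Xs.obj p)] in
lemma dn_st {L k k' : ι} (hk : L ≤ k) (hkk : k ≤ k') (Z : (Xs.obj (op L)).Etale) :
    dn hk hkk Z ≫ st hk Z = st (hk.trans hkk) Z :=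
  (exists_factor_stage (ext Xs ((incl Xs L).obj Z) (hk.trans hkk)) hk hkk).choose_spec

omit [Nonempty ι] [IsDirectedOrder ι] [∀ (p q : ιᵒᵖ) (h : p ⟶ q), IsAffineHom (Xs.map h)]
  [∀ p, CompactSpace ↥(Xs.obj p)] [∀ p, QuasiSeparatedSpace ↥(Xs.obj p)] in
lemma dn_natural {L k k' : ι} (hk : L ≤ k) (hkk : k ≤ k') {Z Z' : (Xs.obj (op L)).Etale}
    (δ : Z ⟶ Z') :
    (incl Xs k').map ((EtCoh.bc (trn Xs (hk.trans hkk))).map δ) ≫ dn hk hkk Z' =
      dn hk hkk Z ≫ (incl Xs k).map ((EtCoh.bc (trn Xs hk)).map δ) := by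
  refine st_cancel hk Z' _ _ ?_
  rw [Category.assoc, Category.assoc, dn_st, st_natural, st_natural, ← Category.assoc, dn_st]

omit [Nonempty ι] [IsDirectedOrder ι] [∀ (p q : ιᵒᵖ) (h : p ⟶ q), IsAffineHom (Xs.map h)]
  [∀ p, CompactSpace ↥(Xs.obj p)] [∀ p, QuasiSeparatedSpace ↥(Xs.obj p)] in
lemma dn_dn {L k k' k'' : ι} (hk : L ≤ k) (hkk : k ≤ k') (hkk' : k' ≤ k'')
    (Z : (Xs.obj (op L)).Etale) :
    dn (hk.trans hkk) hkk' Z ≫ dn hk hkk Z = dn hk (hkk.trans hkk') Z := by
  refine st_cancel hk Z _ _ ?_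
  rw [Category.assoc, dn_st, dn_st, dn_st]

/-- The sections at a later stage of the objects over a stage. -/
noncomputable abbrev stgPresheaf {L k : ι} (hk : L ≤ k) :
    ((Xs.obj (op L)).Etale)ᵒᵖ ⥤ AddCommGrpCat.{u + 1} :=
  (EtCoh.bc (trn Xs hk)).op ⋙ ((res Xs k).obj M).obj

/-- The comparison to the limit. -/
noncomputable def toLim {L k : ι} (hk : L ≤ k) :
    stgPresheaf M hk ⟶ atStage c L ((pullSys Xs c).obj M) where
  app Z := unitApp c M ((incl Xs k).obj ((EtCoh.bc (trn Xs hk)).obj Z.unop)) ≫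
    ((pullSys Xs c).obj M).obj.map (stInv c hk Z.unop).op
  naturality Z Z' f := by
    ext y
    show ((pullSys Xs c).obj M).obj.map (stInv c hk Z'.unop).op (unitApp c M _
        (M.obj.map ((incl Xs k).map ((EtCoh.bc (trn Xs hk)).map f.unop)).op y)) =
      ((pullSys Xs c).obj M).obj.map ((EtCoh.bc (proj Xs c L)).map f.unop).op
        (((pullSys Xs c).obj M).obj.map (stInv c hk Z.unop).op (unitApp c M _ y))
    refine (congrArg _ (unitApp_naturality c M _ y)).trans ?_
    refine (mapMap _ _ _ _).trans (Eq.trans ?_ (mapMap _ _ _ _).symm)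
    refine congrArg (fun m => ((pullSys Xs c).obj M).obj.map (Quiver.Hom.op m) (unitApp c M _ y)) ?_
    refine Eq.trans ?_ (congrArg (· ≫ stInv c hk Z.unop) (toPt_map_incl Xs c L f.unop))
    refine Eq.trans (Eq.trans (Category.comp_id _).symm
      (congrArg (_ ≫ ·) (st_stInv c hk Z.unop).symm)) ?_
    rw [← Category.assoc]
    refine congrArg (· ≫ stInv c hk Z.unop) ?_
    rw [Category.assoc, ← Functor.map_comp, st_natural, Functor.map_comp, ← Category.assoc, stInv_st,
      Category.id_comp]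

/-- The restriction to a later stage. -/
noncomputable def transStg {L k k' : ι} (hk : L ≤ k) (hkk : k ≤ k') :
    stgPresheaf M hk ⟶ stgPresheaf M (hk.trans hkk) where
  app Z := M.obj.map (dn hk hkk Z.unop).op
  naturality Z Z' f := by
    ext y
    refine (resM M _ _ y).trans (Eq.trans ?_ (resM M _ _ y).symm)
    exact congrArg (fun m => M.obj.map (Quiver.Hom.op m) y) (dn_natural hk hkk f.unop).symm

lemma toLim_trans {L k k' : ι} (hk : L ≤ k) (hkk : k ≤ k') (Z : (Xs.obj (op L)).Etale)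
    (y : (stgPresheaf M hk).obj (op Z)) :
    (toLim (c := c) M (hk.trans hkk)).app (op Z) ((transStg M hk hkk).app (op Z) y) =
      (toLim (c := c) M hk).app (op Z) y := by
  refine (congrArg (((pullSys Xs c).obj M).obj.map (stInv c (hk.trans hkk) Z).op)
    (unitApp_naturality c M (dn hk hkk Z) y)).trans ?_
  refine (mapMap _ _ _ _).trans ?_
  refine congrArg (fun m => ((pullSys Xs c).obj M).obj.map (Quiver.Hom.op m) (unitApp c M _ y)) ?_
  refine Eq.trans (Eq.trans (Category.comp_id _).symm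
    (congrArg (_ ≫ ·) (st_stInv c hk Z).symm)) ?_
  rw [← Category.assoc]
  refine (congrArg (· ≫ stInv c hk Z) ?_).trans (Category.id_comp _)
  rw [Category.assoc, ← Functor.map_comp, dn_st, stInv_st]

omit [Nonempty ι] [IsDirectedOrder ι] [∀ (p q : ιᵒᵖ) (h : p ⟶ q), IsAffineHom (Xs.map h)]
  [∀ p, CompactSpace ↥(Xs.obj p)] [∀ p, QuasiSeparatedSpace ↥(Xs.obj p)] in
lemma transStg_transStg {L k k' k'' : ι} (hk : L ≤ k) (hkk : k ≤ k') (hkk' : k' ≤ k'')
    (Z : (Xs.obj (op L)).Etale) (y : (stgPresheaf M hk).obj (op Z)) :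
    (transStg M (hk.trans hkk) hkk').app (op Z) ((transStg M hk hkk).app (op Z) y) =
      (transStg M hk (hkk.trans hkk')).app (op Z) y :=
  (resM M _ _ y).trans (congrArg (fun m => M.obj.map (Quiver.Hom.op m) y) (dn_dn hk hkk hkk' Z))

include hc in
lemma exists_toLim_eq {L : ι} {Z : (Xs.obj (op L)).Etale} (hZ : CechFiltered.QCQS Z)
    (s : (atStage c L ((pullSys Xs c).obj M)).obj (op Z)) :
    ∃ (k : ι) (hk : L ≤ k) (y : (stgPresheaf M hk).obj (op Z)),
      (toLim (c := c) M hk).app (op Z) y = s := by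
  obtain ⟨k, hk, y, hy⟩ := exists_lift M hc (a := (incl Xs L).obj Z) hZ s
  refine ⟨k, hk, y, (congrArg _ hy).trans ?_⟩
  refine (mapMap _ _ _ _).trans ?_
  exact (congrArg (fun m => ((pullSys Xs c).obj M).obj.map (Quiver.Hom.op m) s) (stInv_st c hk Z)).trans
    (map_one_apply ((pullSys Xs c).obj M).obj s)

include hc in
lemma exists_trans_eq_zero {L k : ι} (hk : L ≤ k) {Z : (Xs.obj (op L)).Etale}
    (hZ : CechFiltered.QCQS Z) (y : (stgPresheaf M hk).obj (op Z))
    (hy : (toLim (c := c) M hk).app (op Z) y = 0) :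
    ∃ (k' : ι) (hkk : k ≤ k'), (transStg M hk hkk).app (op Z) y = 0 := by
  have hy' : unitApp c M ((incl Xs k).obj ((EtCoh.bc (trn Xs hk)).obj Z)) y = 0 := by
    have := congrArg (((pullSys Xs c).obj M).obj.map ((toPt Xs c).map (st hk Z)).op) hy
    refine Eq.trans ?_ (this.trans (map_zero _))
    refine Eq.symm ((mapMap _ _ _ _).trans ?_)
    exact (congrArg (fun m => ((pullSys Xs c).obj M).obj.map (Quiver.Hom.op m) _) (st_stInv c hk Z)).trans
      (map_one_apply _ _)
  obtain ⟨k', hkk, h0⟩ := exists_zero M hc (a := (incl Xs k).obj ((EtCoh.bc (trn Xs hk)).obj Z))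
    (QC.ext (a := (incl Xs L).obj Z) hZ hk) y hy'
  refine ⟨k', hkk, ?_⟩
  obtain ⟨π, hπ⟩ := exists_factor_stage (dn hk hkk Z) hkk le_rfl
  exact (congrArg (fun m => M.obj.map (Quiver.Hom.op m) y) hπ.symm).trans
    ((resM M _ _ y).symm.trans ((congrArg (M.obj.map π.op) h0).trans (map_zero _)))

include hc in
/-- The inverse image of an injective sheaf on the system is acyclic. -/
theorem acyc_pullSys (I : AbSys Xs) [Injective I] : Acyc c ((pullSys Xs c).obj I) := by
  classical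
  intro L U κ _ Uf hU hUf n
  haveI := Fintype.ofFinite κ
  rw [CechInj.isZero_cechH_iff]
  intro cc hcc
  choose k hk y hy using fun σ : Fin (n + 2) → κ =>
    exists_toLim_eq hc I (CechFiltered.qcqs_W Uf hU hUf _ σ) (cc σ)
  obtain ⟨K, hK⟩ := (insert L (Finset.univ.image k)).exists_le
  have hLK : L ≤ K := hK _ (Finset.mem_insert_self _ _)
  have hkK : ∀ σ, k σ ≤ K := fun σ =>
    hK _ (Finset.mem_insert_of_mem (Finset.mem_image_of_mem _ (Finset.mem_univ σ)))
  let y' : CechInj.Coch (Uf := Uf) (stgPresheaf I hLK) (n + 1) := fun σ =>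
    (transStg I (hk σ) (hkK σ)).app _ (y σ)
  have hy' : ∀ σ, (toLim (c := c) I hLK).app _ (y' σ) = cc σ := fun σ =>
    (toLim_trans I (hk σ) (hkK σ) _ (y σ)).trans (hy σ)
  choose k' hk' hz using fun τ : Fin (n + 3) → κ => exists_trans_eq_zero hc I hLK
    (CechFiltered.qcqs_W Uf hU hUf _ τ) (CechInj.coboundary _ y' τ) (by
      rw [← CechInj.coboundary_map (toLim (c := c) I hLK) y' τ, funext hy', hcc]
      rfl)
  obtain ⟨K', hK'⟩ := (insert K (Finset.univ.image k')).exists_le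
  have hKK : K ≤ K' := hK' _ (Finset.mem_insert_self _ _)
  let y'' : CechInj.Coch (Uf := Uf) (stgPresheaf I (hLK.trans hKK)) (n + 1) := fun σ =>
    (transStg I hLK hKK).app _ (y' σ)
  have hcy : CechInj.coboundary _ y'' = 0 := funext fun τ => by
    have hkτ : k' τ ≤ K' :=
      hK' _ (Finset.mem_insert_of_mem (Finset.mem_image_of_mem _ (Finset.mem_univ τ)))
    refine (CechInj.coboundary_map (transStg I hLK hKK) y' τ).trans ?_
    exact (transStg_transStg I hLK (hk' τ) hkτ _ _).symm.trans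
      ((congrArg _ (hz τ)).trans (map_zero _))
  have hvan : IsZero (EtCech.cechH Uf (stgPresheaf I (hLK.trans hKK)) (n + 1)) := by
    haveI : Injective ((res Xs K').obj I) := (res Xs K').injective_obj I
    haveI := InjCoh.injective_presheaf ((res Xs K').obj I)
    exact CechInj.isZero_cechH_comp.{u + 1} (EtCoh.bc (trn Xs (hLK.trans hKK))) _ n
      (CechInj.isZero_cechH.{u + 1} _ n)
  obtain ⟨z, hz'⟩ := (CechInj.isZero_cechH_iff _ n).1 hvan y'' hcy
  refine ⟨fun σ => (toLim (c := c) I (hLK.trans hKK)).app _ (z σ), funext fun σ => ?_⟩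
  rw [CechInj.coboundary_map (toLim (c := c) I (hLK.trans hKK)) z σ, hz']
  exact (toLim_trans I hLK hKK _ (y' σ)).trans (hy' σ)

end Stages

end Groth.EtaleBase.EtLimit
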