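import Groth.Agent.EtaleBase.Limit.Main
import Groth.Agent.EtaleBase.InjCoh
import Mathlib.CategoryTheory.Adjunction.Unique

/-!
Inverse systems of étale schemes over a scheme `X`: the system of restrictions of a sheaf on `X`,
its inverse image to the limit, the cohomology of the limit with coefficients in an injective sheaf
and its global sections.
-/

set_option autoImplicit false

universe u

open CategoryTheory CategoryTheory.Limits CategoryTheory.Abelian AlgebraicGeometry Opposite

namespace Groth.EtaleBase.EtLimit

variable {X : Scheme.{u}} {ι : Type u} [Preorder ι] (W : ιᵒᵖ ⥤ X.Etale)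

/-- The underlying schemes of a system of étale schemes. -/
abbrev schemes : ιᵒᵖ ⥤ Scheme.{u} := W ⋙ Scheme.Etale.forget X ⋙ Over.forget X

/-- The structure morphism of a member. -/
abbrev struct (j : ι) : (schemes W).obj (op j) ⟶ X := (W.obj (op j)).hom

instance etale_struct (j : ι) : AlgebraicGeometry.Etale (struct W j) := (W.obj (op j)).prop

lemma trn_struct {i j : ι} (h : i ≤ j) : trn (schemes W) h ≫ struct W i = struct W j :=
  MorphismProperty.Over.w (W.map (homOfLE h).op)

/-- An étale scheme over a member, as an étale scheme over `X`. -/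
noncomputable def toBase : Obj (schemes W) ⥤ X.Etale where
  obj a := MorphismProperty.Over.mk ⊤ (a.obj.hom ≫ struct W a.idx)
    (MorphismProperty.comp_mem _ _ _ a.obj.prop (W.obj (op a.idx)).prop)
  map {a b} f := MorphismProperty.Over.homMk f.1 (by
    show f.1 ≫ b.obj.hom ≫ struct W b.idx = a.obj.hom ≫ struct W a.idx
    exact (Category.assoc _ _ _).symm.trans ((congrArg (· ≫ struct W b.idx) (Obj.w f (Obj.idx_le f))).trans
      ((Category.assoc _ _ _).trans (congrArg (a.obj.hom ≫ ·) (trn_struct W (Obj.idx_le f))))))
  map_id _ := MorphismProperty.Over.Hom.ext rfl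
  map_comp _ _ := MorphismProperty.Over.Hom.ext rfl

/-- The restriction of `toBase` to a fibre is composition with the structure morphism. -/
noncomputable def toBaseIncl (j : ι) :
    incl (schemes W) j ⋙ toBase W ≅ EtShriek.compEtale (struct W j) :=
  NatIso.ofComponents (fun V => MorphismProperty.Over.isoMk (Iso.refl _) (Category.id_comp _))
    (fun f => MorphismProperty.Over.Hom.ext
      ((Category.comp_id f.left).trans (Category.id_comp f.left).symm))

lemma isSheaf_restriction (F : EtCoh.Ab X) :
    Presheaf.IsSheaf (top' (schemes W)) ((toBase W).op ⋙ F.obj) := by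
  rw [Presheaf.isSheaf_iff_isSheaf_forget _ _ (forget AddCommGrpCat.{u + 1}), isSheaf_iff_isSheaf_of_type]
  refine isSheaf_of_fibres _ _ fun j => ?_
  haveI : EtShriek.JCont (struct W j) := InjCoh.jCont (struct W j)
  have h := ((EtShriek.restrAlong (struct W j)).obj F).property
  rw [Presheaf.isSheaf_iff_isSheaf_forget _ _ (forget AddCommGrpCat.{u + 1}), isSheaf_iff_isSheaf_of_type] at h
  refine Presieve.isSheaf_iso _ ?_ h
  exact Functor.isoWhiskerRight
    (Functor.isoWhiskerRight (NatIso.op (toBaseIncl W j)) F.obj) (forget AddCommGrpCat.{u + 1})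

/-- The system of restrictions of a sheaf. -/
noncomputable def restriction : EtCoh.Ab X ⥤ AbSys (schemes W) where
  obj F := ⟨(toBase W).op ⋙ F.obj, isSheaf_restriction W F⟩
  map φ := ⟨Functor.whiskerLeft (toBase W).op φ.hom⟩

/-- The members of the system of restrictions of an injective sheaf are injective. -/
lemma injective_res_restriction (I : EtCoh.Ab X) [Injective I] (j : ι) :
    Injective ((res (schemes W) j).obj ((restriction W).obj I)) := by
  haveI : EtShriek.JCont (struct W j) := InjCoh.jCont (struct W j)
  have := extZero_preservesMonomorphisms (struct W j)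
  have : (EtShriek.restrAlong (struct W j)).PreservesInjectiveObjects :=
    Functor.preservesInjectiveObjects_of_adjunction_of_preservesMonomorphisms
      (EtShriek.extZeroAdj (struct W j))
  exact Injective.of_iso ((fullyFaithfulSheafToPresheaf _ _).preimageIso
      (X := (EtShriek.restrAlong (struct W j)).obj I)
      (Y := (res (schemes W) j).obj ((restriction W).obj I))
      (Functor.isoWhiskerRight (NatIso.op (toBaseIncl W j)) I.obj))
    (inferInstanceAs (Injective ((EtShriek.restrAlong (struct W j)).obj I)))

/-- Morphisms to a base change are determined by the first projection. -/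
lemma bc_hom_ext {A B : Scheme.{u}} (v : A ⟶ B) {V : A.Etale} {U : B.Etale} (f f' : V ⟶ (EtCoh.bc v).obj U)
    (h : f.left ≫ pullback.fst U.hom v = f'.left ≫ pullback.fst U.hom v) : f = f' :=
  MorphismProperty.Over.Hom.ext
    (pullback.hom_ext h ((MorphismProperty.Over.w f).trans (MorphismProperty.Over.w f').symm))

/-- The base change of an étale scheme over `X` to a member. -/
noncomputable abbrev stageObj (j : ι) (U : X.Etale) : Obj (schemes W) :=
  (incl (schemes W) j).obj ((EtCoh.bc (struct W j)).obj U)

/-- The projection of a base change. -/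
noncomputable def stageProj (j : ι) (U : X.Etale) : (toBase W).obj (stageObj W j U) ⟶ U :=
  MorphismProperty.Over.homMk (pullback.fst U.hom (struct W j)) pullback.condition

lemma stageProj_natural (j : ι) {U V : X.Etale} (f : U ⟶ V) :
    (toBase W).map ((incl (schemes W) j).map ((EtCoh.bc (struct W j)).map f)) ≫ stageProj W j V =
      stageProj W j U ≫ f :=
  MorphismProperty.Over.Hom.ext (EtCoh.isPullback_bc_map (struct W j) f).w

/-- The isomorphism of the whole of a member with itself. -/
noncomputable def topBase (j : ι) :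
    (toBase W).obj ((incl (schemes W) j).obj (EtCoh.top ((schemes W).obj (op j)))) ≅ W.obj (op j) :=
  MorphismProperty.Over.isoMk (Iso.refl _) rfl

lemma topMap_topBase {j k : ι} (h : j ≤ k) :
    (toBase W).map (topMap (Xs := schemes W) h) ≫ (topBase W j).hom =
      (topBase W k).hom ≫ W.map (homOfLE h).op := by
  refine MorphismProperty.Over.Hom.ext ?_
  show (topMap (Xs := schemes W) h).1 ≫ 𝟙 _ = 𝟙 _ ≫ trn (schemes W) h
  exact (Obj.w (topMap (Xs := schemes W) h) h)

/-- Morphisms to the base change of a member are determined by the projection to the scheme over `X`. -/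
lemma stageObj_hom_ext (c : Cone (schemes W)) (j : ι) (U : X.Etale) {V : c.pt.Etale}
    (f f' : V ⟶ (toPt (schemes W) c).obj (stageObj W j U))
    (h : (f.left ≫ pullback.fst ((EtCoh.bc (struct W j)).obj U).hom (proj (schemes W) c j)) ≫
        pullback.fst U.hom (struct W j) =
      (f'.left ≫ pullback.fst ((EtCoh.bc (struct W j)).obj U).hom (proj (schemes W) c j)) ≫
        pullback.fst U.hom (struct W j)) : f = f' := by
  refine bc_hom_ext (proj (schemes W) c j) (U := (EtCoh.bc (struct W j)).obj U) f f' (pullback.hom_ext h ?_)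
  refine (Category.assoc _ _ _).trans ((congrArg (f.left ≫ ·) pullback.condition).trans ?_)
  refine Eq.trans ?_ ((Category.assoc _ _ _).trans (congrArg (f'.left ≫ ·) pullback.condition)).symm
  exact (Category.assoc _ _ _).symm.trans ((congrArg (· ≫ proj (schemes W) c j)
    ((MorphismProperty.Over.w f).trans (MorphismProperty.Over.w f').symm)).trans (Category.assoc _ _ _))

variable [Nonempty ι] [IsDirectedOrder ι] (c : Cone (schemes W)) (g : c.pt ⟶ X)
  (hg : ∀ j, proj (schemes W) c j ≫ struct W j = g)

/-- An object of the system over the base change of an étale scheme over `X`. -/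
noncomputable def graphHom (a : Obj (schemes W)) :
    (toPt (schemes W) c).obj a ⟶ (EtCoh.bc g).obj ((toBase W).obj a) :=
  MorphismProperty.Over.homMk
    (pullback.lift (pullback.fst a.obj.hom (proj (schemes W) c a.idx))
      (pullback.snd a.obj.hom (proj (schemes W) c a.idx))
      ((Category.assoc _ _ _).symm.trans ((congrArg (· ≫ struct W a.idx) pullback.condition).trans
        ((Category.assoc _ _ _).trans (congrArg (_ ≫ ·) (hg a.idx))))))
    (pullback.lift_snd _ _ _)

include hg

lemma graphHom_fst (a : Obj (schemes W)) :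
    (graphHom W c g hg a).left ≫ pullback.fst (a.obj.hom ≫ struct W a.idx) g =
      pullback.fst a.obj.hom (proj (schemes W) c a.idx) :=
  pullback.lift_fst _ _ _

lemma graphHom_snd (a : Obj (schemes W)) :
    (graphHom W c g hg a).left ≫ pullback.snd (a.obj.hom ≫ struct W a.idx) g =
      pullback.snd a.obj.hom (proj (schemes W) c a.idx) :=
  pullback.lift_snd _ _ _

lemma graphHom_natural {a b : Obj (schemes W)} (f : a ⟶ b) :
    graphHom W c g hg a ≫ (EtCoh.bc g).map ((toBase W).map f) =
      (toPt (schemes W) c).map f ≫ graphHom W c g hg b := by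
  refine bc_hom_ext g _ _ ?_
  exact ((Category.assoc _ _ _).trans ((congrArg (_ ≫ ·) (pullback.lift_fst _ _ _)).trans
      ((Category.assoc _ _ _).symm.trans (congrArg (· ≫ f.1) (graphHom_fst W c g hg a))))).trans
      ((Category.assoc _ _ _).trans ((congrArg (_ ≫ ·) (graphHom_fst W c g hg b)).trans
        (toPt_map_fst (schemes W) c f))).symm

/-- The base change to the limit through a member. -/
noncomputable def unstage (j : ι) (U : X.Etale) :
    (EtCoh.bc g).obj U ⟶ (toPt (schemes W) c).obj (stageObj W j U) :=
  MorphismProperty.Over.homMk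
    (pullback.lift (pullback.lift (pullback.fst U.hom g) (pullback.snd U.hom g ≫ proj (schemes W) c j)
        (pullback.condition.trans
          ((congrArg (_ ≫ ·) (hg j).symm).trans (Category.assoc _ _ _).symm)))
      (pullback.snd U.hom g) (pullback.lift_snd _ _ _) :
      pullback U.hom g ⟶ pullback ((EtCoh.bc (struct W j)).obj U).hom (proj (schemes W) c j))
    (pullback.lift_snd _ _ _)

lemma unstage_fst (j : ι) (U : X.Etale) :
    (unstage W c g hg j U).left ≫
        pullback.fst ((EtCoh.bc (struct W j)).obj U).hom (proj (schemes W) c j) ≫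
        pullback.fst U.hom (struct W j) = pullback.fst U.hom g :=
  (Category.assoc _ _ _).symm.trans ((congrArg (· ≫ _) (pullback.lift_fst _ _ _)).trans
    (pullback.lift_fst _ _ _))

lemma unstage_snd (j : ι) (U : X.Etale) :
    (unstage W c g hg j U).left ≫
        pullback.snd ((EtCoh.bc (struct W j)).obj U).hom (proj (schemes W) c j) = pullback.snd U.hom g :=
  pullback.lift_snd _ _ _

lemma unstage_natural (j : ι) {U V : X.Etale} (f : U ⟶ V) :
    (EtCoh.bc g).map f ≫ unstage W c g hg j V =
      unstage W c g hg j U ≫
        (toPt (schemes W) c).map ((incl (schemes W) j).map ((EtCoh.bc (struct W j)).map f)) := by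
  refine stageObj_hom_ext W c j V _ _ ?_
  refine ((Category.assoc _ _ _).trans ((Category.assoc _ _ _).trans
    ((congrArg (_ ≫ ·) (unstage_fst W c g hg j V)).trans (EtCoh.isPullback_bc_map g f).w))).trans ?_
  refine Eq.trans ?_ (congrArg (· ≫ _) ((Category.assoc _ _ _).trans
    ((congrArg ((unstage W c g hg j U).left ≫ ·) (toPt_map_fst _ _ _)).trans
      (Category.assoc _ _ _).symm))).symm
  refine Eq.trans ?_ ((Category.assoc _ _ _).trans (congrArg (_ ≫ ·)
    (EtCoh.isPullback_bc_map (struct W j) f).w)).symm
  exact (congrArg (· ≫ f.left) ((unstage_fst W c g hg j U).symm.trans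
    (Category.assoc _ _ _).symm)).trans (Category.assoc _ _ _)

lemma unstage_graphHom (j : ι) (U : X.Etale) :
    unstage W c g hg j U ≫ graphHom W c g hg (stageObj W j U) ≫
      (EtCoh.bc g).map (stageProj W j U) = 𝟙 _ := by
  refine bc_hom_ext g _ _ ?_
  refine Eq.trans ?_ (Category.id_comp _).symm
  refine (Category.assoc _ _ _).trans ((congrArg (_ ≫ ·) ((Category.assoc _ _ _).trans
    ((congrArg (_ ≫ ·) (pullback.lift_fst _ _ _)).trans ((Category.assoc _ _ _).symm.trans
      (congrArg (· ≫ _) (graphHom_fst W c g hg _)))))).trans ?_)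
  exact unstage_fst W c g hg j U

section bij

variable {F : EtCoh.Ab X} {N : EtCoh.Ab c.pt}

/-- From a morphism to the direct image to a morphism of systems. -/
noncomputable def toSystem (β : F ⟶ (EtCoh.push g).obj N) :
    (restriction W).obj F ⟶ (pushSys (schemes W) c).obj N :=
  ⟨{ app := fun a => β.hom.app (op ((toBase W).obj a.unop)) ≫ N.obj.map (graphHom W c g hg a.unop).op
     naturality := fun a b f => by
      show F.obj.map ((toBase W).map f.unop).op ≫ β.hom.app _ ≫ N.obj.map _ = (_ ≫ _) ≫ _
      refine (Category.assoc _ _ _).symm.trans ((congrArg (· ≫ _)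
        (β.hom.naturality ((toBase W).map f.unop).op)).trans ((Category.assoc _ _ _).trans
          (Eq.trans ?_ (Category.assoc _ _ _).symm)))
      refine congrArg (_ ≫ ·) ?_
      show N.obj.map ((EtCoh.bc g).map ((toBase W).map f.unop)).op ≫ N.obj.map _ =
        N.obj.map _ ≫ N.obj.map ((toPt (schemes W) c).map f.unop).op
      rw [← Functor.map_comp, ← Functor.map_comp, ← op_comp, ← op_comp, graphHom_natural] }⟩

lemma toSystem_app (β : F ⟶ (EtCoh.push g).obj N) (a : Obj (schemes W))
    (y : F.obj.obj (op ((toBase W).obj a))) :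
    (toSystem W c g hg β).hom.app (op a) y =
      N.obj.map (graphHom W c g hg a).op (β.hom.app (op ((toBase W).obj a)) y) :=
  rfl

/-- From a morphism of systems to a morphism to the direct image. -/
noncomputable def ofSystem (j : ι) (α : (restriction W).obj F ⟶ (pushSys (schemes W) c).obj N) :
    F ⟶ (EtCoh.push g).obj N :=
  ⟨{ app := fun U => F.obj.map (stageProj W j U.unop).op ≫ α.hom.app (op (stageObj W j U.unop)) ≫
        N.obj.map (unstage W c g hg j U.unop).op
     naturality := fun U V f => by
      ext y
      let z := (incl (schemes W) j).map ((EtCoh.bc (struct W j)).map f.unop)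
      show N.obj.map (unstage W c g hg j V.unop).op (α.hom.app (op (stageObj W j V.unop))
          (F.obj.map (stageProj W j V.unop).op (F.obj.map f y))) =
        N.obj.map ((EtCoh.bc g).map f.unop).op (N.obj.map (unstage W c g hg j U.unop).op
          (α.hom.app (op (stageObj W j U.unop)) (F.obj.map (stageProj W j U.unop).op y)))
      have h1 : F.obj.map (stageProj W j V.unop).op (F.obj.map f y) =
          F.obj.map ((toBase W).map z).op (F.obj.map (stageProj W j U.unop).op y) :=
        (mapMap F.obj _ f.unop y).trans (((congrArg (fun m => F.obj.map (Quiver.Hom.op m) y)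
          (stageProj_natural W j f.unop)).symm).trans (mapMap F.obj _ _ y).symm)
      refine (congrArg (fun x => N.obj.map (unstage W c g hg j V.unop).op (α.hom.app _ x)) h1).trans ?_
      refine (congrArg _ (NatTrans.naturality_apply α.hom z.op _)).trans ?_
      refine ((mapMap N.obj _ _ _).trans ?_).trans (mapMap N.obj _ _ _).symm
      exact congrArg (fun m => N.obj.map (Quiver.Hom.op m) _) (unstage_natural W c g hg j f.unop).symm }⟩

lemma ofSystem_app (j : ι) (α : (restriction W).obj F ⟶ (pushSys (schemes W) c).obj N) (U : X.Etale)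
    (y : F.obj.obj (op U)) :
    (ofSystem W c g hg j α).hom.app (op U) y =
      N.obj.map (unstage W c g hg j U).op
        (α.hom.app (op (stageObj W j U)) (F.obj.map (stageProj W j U).op y)) :=
  rfl

lemma ofSystem_toSystem (j : ι) (β : F ⟶ (EtCoh.push g).obj N) :
    ofSystem W c g hg j (toSystem W c g hg β) = β := by
  apply (sheafToPresheaf _ _).map_injective
  ext U y
  refine (ofSystem_app W c g hg j _ U.unop y).trans ?_
  rw [toSystem_app]
  refine (congrArg (fun z => N.obj.map _ (N.obj.map _ z))
    (NatTrans.naturality_apply β.hom (stageProj W j U.unop).op y)).trans ?_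
  refine (congrArg _ (mapMap N.obj _ _ _)).trans ((mapMap N.obj _ _ _).trans ?_)
  exact (congrArg (fun m => N.obj.map (Quiver.Hom.op m) _) (unstage_graphHom W c g hg j U.unop)).trans
    (map_one_apply _ _)

lemma toSystem_ofSystem (j : ι) (α : (restriction W).obj F ⟶ (pushSys (schemes W) c).obj N) :
    toSystem W c g hg (ofSystem W c g hg j α) = α := by
  apply (sheafToPresheaf _ _).map_injective
  ext a y
  obtain ⟨a⟩ := a
  obtain ⟨k, hik, hjk⟩ := exists_ge_ge a.idx j
  let U := (toBase W).obj a
  let e := ext (schemes W) a hik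
  let z : (incl (schemes W) k).obj ((EtCoh.bc (trn (schemes W) hik)).obj a.obj) ⟶ stageObj W j U :=
    ⟨(pullback.lift (pullback.fst a.obj.hom (trn (schemes W) hik))
        (pullback.snd a.obj.hom (trn (schemes W) hik) ≫ trn (schemes W) hjk) (by
          show pullback.fst a.obj.hom (trn (schemes W) hik) ≫ a.obj.hom ≫ struct W a.idx = _ ≫ struct W j
          rw [← Category.assoc, pullback.condition, Category.assoc, Category.assoc, trn_struct,
            trn_struct]) :
        pullback a.obj.hom (trn (schemes W) hik) ⟶ pullback U.hom (struct W j)),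
      hjk, pullback.lift_snd _ _ _⟩
  have hz : (toBase W).map z ≫ stageProj W j U = (toBase W).map e :=
    MorphismProperty.Over.Hom.ext (pullback.lift_fst _ _ _)
  have hpt : (toPt (schemes W) c).map e ≫ graphHom W c g hg a ≫ unstage W c g hg j U =
      (toPt (schemes W) c).map z := by
    refine stageObj_hom_ext W c j U _ _ ?_
    refine ((Category.assoc _ _ _).trans ((Category.assoc _ _ _).trans (congrArg (_ ≫ ·)
        ((Category.assoc _ _ _).trans ((congrArg (_ ≫ ·) (unstage_fst W c g hg j U)).trans
          (graphHom_fst W c g hg a)))))).trans ?_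
    refine (toPt_map_fst _ c e).trans ?_
    exact ((congrArg (· ≫ _) (toPt_map_fst _ c z)).trans ((Category.assoc _ _ _).trans
      (congrArg (_ ≫ ·) (pullback.lift_fst _ _ _)))).symm
  have hinj : Function.Injective (N.obj.map ((toPt (schemes W) c).map e).op) :=
    ((ConcreteCategory.isIso_iff_bijective _).1 inferInstance).1
  apply hinj
  show N.obj.map ((toPt (schemes W) c).map e).op ((toSystem W c g hg _).hom.app (op a) y) =
    N.obj.map ((toPt (schemes W) c).map e).op (α.hom.app (op a) y)
  rw [toSystem_app, ofSystem_app]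
  refine ((congrArg _ (mapMap N.obj _ _ _)).trans ((mapMap N.obj _ _ _).trans
    ((congrArg (fun m => N.obj.map (Quiver.Hom.op m) _) hpt).trans ?_))).trans
    (NatTrans.naturality_apply α.hom e.op y)
  refine (NatTrans.naturality_apply α.hom z.op _).symm.trans ?_
  refine congrArg (α.hom.app _) ?_
  show F.obj.map ((toBase W).map z).op (F.obj.map (stageProj W j U).op y) =
    F.obj.map ((toBase W).map e).op y
  exact (mapMap F.obj _ _ _).trans (congrArg (fun m => F.obj.map (Quiver.Hom.op m) y) hz)

end bij

/-- Morphisms of systems and morphisms to the direct image. -/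
noncomputable def systemEquiv (F : EtCoh.Ab X) (N : EtCoh.Ab c.pt) :
    ((restriction W).obj F ⟶ (pushSys (schemes W) c).obj N) ≃ (F ⟶ (EtCoh.push g).obj N) where
  toFun := ofSystem W c g hg (Classical.arbitrary ι)
  invFun := toSystem W c g hg
  left_inv := toSystem_ofSystem W c g hg _
  right_inv := ofSystem_toSystem W c g hg _

/-- The inverse image of the system of restrictions is left adjoint to the direct image. -/
noncomputable def restrictionAdj : restriction W ⋙ pullSys (schemes W) c ⊣ EtCoh.push g :=
  Adjunction.mkOfHomEquiv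
    { homEquiv := fun F N => ((sysAdj (schemes W) c).homEquiv _ _).trans (systemEquiv W c g hg F N)
      homEquiv_naturality_left_symm := fun {F F' N} f β => by
        show ((sysAdj (schemes W) c).homEquiv _ _).symm (toSystem W c g hg (f ≫ β)) =
          (pullSys (schemes W) c).map ((restriction W).map f) ≫
            ((sysAdj (schemes W) c).homEquiv _ _).symm (toSystem W c g hg β)
        rw [← Adjunction.homEquiv_naturality_left_symm]
        refine congrArg _ ?_
        apply (sheafToPresheaf _ _).map_injective
        ext a y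
        rfl
      homEquiv_naturality_right := fun {F N N'} α k => by
        show ofSystem W c g hg _ ((sysAdj (schemes W) c).homEquiv _ _ (α ≫ k)) =
          ofSystem W c g hg _ ((sysAdj (schemes W) c).homEquiv _ _ α) ≫ (EtCoh.push g).map k
        rw [Adjunction.homEquiv_naturality_right]
        apply (sheafToPresheaf _ _).map_injective
        ext U y
        exact (NatTrans.naturality_apply k.hom (unstage W c g hg _ U.unop).op _).symm }

/-- The inverse image to the limit is the inverse image of the system of restrictions. -/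
noncomputable def pullIso : EtCoh.pull g ≅ restriction W ⋙ pullSys (schemes W) c :=
  (EtCoh.pullPushAdj g).leftAdjointUniq (restrictionAdj W c g hg)

/-- The section of the base change of a member given by the projection. -/
noncomputable def projSec (j : ι) : EtCoh.top c.pt ⟶ (EtCoh.bc g).obj (W.obj (op j)) :=
  MorphismProperty.Over.homMk
    (pullback.lift (proj (schemes W) c j) (𝟙 c.pt) ((hg j).trans (Category.id_comp g).symm))
    (pullback.lift_snd _ _ _)

lemma graphHom_top (j : ι) :
    graphHom W c g hg ((incl (schemes W) j).obj (EtCoh.top ((schemes W).obj (op j)))) ≫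
        (EtCoh.bc g).map (topBase W j).hom =
      (EtCore.bcTopIso (proj (schemes W) c j)).hom ≫ projSec W c g hg j := by
  have hb : ((EtCore.bcTopIso (proj (schemes W) c j)).hom).left ≫ 𝟙 c.pt =
      pullback.snd (𝟙 ((schemes W).obj (op j))) (proj (schemes W) c j) :=
    MorphismProperty.Over.w _
  refine MorphismProperty.Over.Hom.ext (pullback.hom_ext ?_ ?_)
  · refine ((Category.assoc _ _ _).trans ((congrArg (_ ≫ ·) ((pullback.lift_fst _ _ _).trans
      (Category.comp_id _))).trans (graphHom_fst W c g hg _))).trans ?_
    refine Eq.trans ?_ ((Category.assoc _ _ _).trans (congrArg (_ ≫ ·) (pullback.lift_fst _ _ _))).symm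
    refine (Category.comp_id _).symm.trans (pullback.condition.trans ?_)
    exact congrArg (· ≫ proj (schemes W) c j) (hb.symm.trans (Category.comp_id _))
  · exact ((Category.assoc _ _ _).trans ((congrArg (_ ≫ ·) (pullback.lift_snd _ _ _)).trans
      (graphHom_snd W c g hg _))).trans
      ((Category.assoc _ _ _).trans ((congrArg (_ ≫ ·) (pullback.lift_snd _ _ _)).trans hb)).symm

lemma projSec_natural {j k : ι} (h : j ≤ k) :
    projSec W c g hg k ≫ (EtCoh.bc g).map (W.map (homOfLE h).op) = projSec W c g hg j := by
  refine bc_hom_ext g _ _ ?_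
  exact ((Category.assoc _ _ _).trans ((congrArg (_ ≫ ·) (pullback.lift_fst _ _ _)).trans
      ((Category.assoc _ _ _).symm.trans ((congrArg (· ≫ _) (pullback.lift_fst _ _ _)).trans
        (proj_trn (schemes W) c h))))).trans (pullback.lift_fst _ _ _).symm

/-- Sections on a member give sections of the inverse image on the limit. -/
noncomputable def sectTo (j : ι) (F : EtCoh.Ab X) :
    F.obj.obj (op (W.obj (op j))) ⟶ ((EtCoh.pull g).obj F).obj.obj (op (EtCoh.top c.pt)) :=
  ((EtCoh.pullPushAdj g).unit.app F).hom.app (op (W.obj (op j))) ≫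
    ((EtCoh.pull g).obj F).obj.map (projSec W c g hg j).op

lemma sectTo_res {j k : ι} (h : j ≤ k) (F : EtCoh.Ab X) (y : F.obj.obj (op (W.obj (op j)))) :
    sectTo W c g hg k F (F.obj.map (W.map (homOfLE h).op).op y) = sectTo W c g hg j F y :=
  (congrArg (((EtCoh.pull g).obj F).obj.map (projSec W c g hg k).op)
    (NatTrans.naturality_apply ((EtCoh.pullPushAdj g).unit.app F).hom (W.map (homOfLE h).op).op y)).trans
    ((mapMap _ _ _ _).trans (congrArg (fun m => ((EtCoh.pull g).obj F).obj.map (Quiver.Hom.op m) _)
      (projSec_natural W c g hg h)))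

lemma sectTo_map (j : ι) {F G : EtCoh.Ab X} (φ : F ⟶ G) (y : F.obj.obj (op (W.obj (op j)))) :
    sectTo W c g hg j G (φ.hom.app (op (W.obj (op j))) y) =
      ((EtCoh.pull g).map φ).hom.app (op (EtCoh.top c.pt)) (sectTo W c g hg j F y) := by
  have h := ConcreteCategory.congr_hom (congrArg (fun ψ => ψ.hom.app (op (W.obj (op j))))
    ((EtCoh.pullPushAdj g).unit.naturality φ)) y
  refine (congrArg (((EtCoh.pull g).obj G).obj.map (projSec W c g hg j).op) h).trans ?_
  exact (NatTrans.naturality_apply ((EtCoh.pull g).map φ).hom (projSec W c g hg j).op _).symm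

lemma unitApp_topBase (j : ι) (F : EtCoh.Ab X) (y : F.obj.obj (op (W.obj (op j)))) :
    unitApp c ((restriction W).obj F) ((incl (schemes W) j).obj (EtCoh.top ((schemes W).obj (op j))))
        (F.obj.map (topBase W j).hom.op y) =
      ((pullSys (schemes W) c).obj ((restriction W).obj F)).obj.map
        (EtCore.bcTopIso (proj (schemes W) c j)).hom.op
        (((pullIso W c g hg).hom.app F).hom.app (op (EtCoh.top c.pt)) (sectTo W c g hg j F y)) := by
  let Q := (pullSys (schemes W) c).obj ((restriction W).obj F)
  let a := (incl (schemes W) j).obj (EtCoh.top ((schemes W).obj (op j)))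
  let η := (EtCoh.pullPushAdj g).unit.app F
  let κ := (pullIso W c g hg).hom.app F
  have hu : η ≫ (EtCoh.push g).map κ = (restrictionAdj W c g hg).unit.app F :=
    Adjunction.unit_leftAdjointUniq_hom_app _ _ F
  have hu' : (restrictionAdj W c g hg).unit.app F =
      ofSystem W c g hg (Classical.arbitrary ι) ((sysAdj (schemes W) c).unit.app ((restriction W).obj F)) := by
    rw [← Adjunction.homEquiv_id]
    show ofSystem W c g hg _ ((sysAdj (schemes W) c).homEquiv _ _ (𝟙 _)) = _
    rw [Adjunction.homEquiv_id]
  have h1 : toSystem W c g hg (η ≫ (EtCoh.push g).map κ) =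
      (sysAdj (schemes W) c).unit.app ((restriction W).obj F) := by
    rw [hu, hu', toSystem_ofSystem]
  refine (ConcreteCategory.congr_hom (congrArg (fun ψ => ψ.hom.app (op a)) h1)
    (F.obj.map (topBase W j).hom.op y)).symm.trans ?_
  refine (toSystem_app W c g hg _ a _).trans ?_
  show Q.obj.map (graphHom W c g hg a).op
      (κ.hom.app _ (η.hom.app _ (F.obj.map (topBase W j).hom.op y))) =
    Q.obj.map (EtCore.bcTopIso (proj (schemes W) c j)).hom.op
      (κ.hom.app _ (((EtCoh.pull g).obj F).obj.map (projSec W c g hg j).op (η.hom.app _ y)))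
  refine (congrArg (fun z => Q.obj.map _ (κ.hom.app _ z))
    (NatTrans.naturality_apply η.hom (topBase W j).hom.op y)).trans ?_
  refine (congrArg (fun z => Q.obj.map _ z) (NatTrans.naturality_apply κ.hom _ _)).trans
    ((mapMap _ _ _ _).trans ?_)
  refine (congrArg (fun m => Q.obj.map (Quiver.Hom.op m) _) (graphHom_top W c g hg j)).trans ?_
  exact ((congrArg (fun z => Q.obj.map _ z) (NatTrans.naturality_apply κ.hom _ _)).trans
    (mapMap _ _ _ _)).symm

section Limit

variable [∀ (p q : ιᵒᵖ) (h : p ⟶ q), IsAffineHom ((schemes W).map h)]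
  [∀ p, CompactSpace ↥((schemes W).obj p)] [∀ p, QuasiSeparatedSpace ↥((schemes W).obj p)]
  (hc : IsLimit c)

include hc hg in
/-- A global section of the inverse image on the limit comes from a member. -/
theorem exists_sectTo_eq (F : EtCoh.Ab X)
    (s : ((EtCoh.pull g).obj F).obj.obj (op (EtCoh.top c.pt))) :
    ∃ (j : ι) (y : F.obj.obj (op (W.obj (op j)))), sectTo W c g hg j F y = s := by
  let M := (restriction W).obj F
  let κ := ((pullIso W c g hg).hom.app F).hom.app (op (EtCoh.top c.pt))
  obtain ⟨j, x, hx⟩ := exists_T_eq_zero hc M ((gs _).symm (κ s))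
  refine ⟨j, F.obj.map (topBase W j).inv.op (gs _ x), ?_⟩
  apply ((ConcreteCategory.isIso_iff_bijective κ).1 inferInstance).1
  have h1 := congrArg (gs _) hx
  rw [gs_T, AddEquiv.apply_symm_apply] at h1
  refine Eq.trans ?_ h1
  have h2 : F.obj.map (topBase W j).hom.op (F.obj.map (topBase W j).inv.op (gs _ x)) = gs _ x :=
    (mapMap _ _ _ _).trans ((congrArg (fun m => F.obj.map (Quiver.Hom.op m) _)
      (topBase W j).hom_inv_id).trans (map_one_apply _ _))
  have h3 := congrArg (((pullSys (schemes W) c).obj M).obj.map
      (EtCore.bcTopIso (proj (schemes W) c j)).inv.op)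
    (unitApp_topBase W c g hg j F (F.obj.map (topBase W j).inv.op (gs _ x)))
  rw [h2] at h3
  refine Eq.trans ?_ h3.symm
  refine Eq.symm ((mapMap _ _ _ _).trans ?_)
  exact (congrArg (fun m => ((pullSys (schemes W) c).obj M).obj.map (Quiver.Hom.op m) _)
    (EtCore.bcTopIso (proj (schemes W) c j)).inv_hom_id).trans (map_one_apply _ _)

include hc hg in
/-- A section on a member that vanishes on the limit vanishes on a later member. -/
theorem exists_sectTo_eq_zero (F : EtCoh.Ab X) (j : ι) (y : F.obj.obj (op (W.obj (op j))))
    (hy : sectTo W c g hg j F y = 0) :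
    ∃ (k : ι) (h : j ≤ k), F.obj.map (W.map (homOfLE h).op).op y = 0 := by
  let M := (restriction W).obj F
  let a := (incl (schemes W) j).obj (EtCoh.top ((schemes W).obj (op j)))
  have h0 : unitApp c M a (F.obj.map (topBase W j).hom.op y) = 0 := by
    rw [unitApp_topBase W c g hg, hy, map_zero, map_zero]
    rfl
  obtain ⟨k, h, hk⟩ := exists_zero M hc (a := a)
    ⟨(inferInstance : CompactSpace ↥((schemes W).obj (op j))),
      (inferInstance : QuasiSeparatedSpace ↥((schemes W).obj (op j)))⟩ _ h0
  refine ⟨k, h, ?_⟩
  have h1 : M.obj.map (topMap (Xs := schemes W) h).op (F.obj.map (topBase W j).hom.op y) = 0 :=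
    (resM M _ _ _).symm.trans ((congrArg _ hk).trans (map_zero _))
  have h2 : F.obj.map (topBase W k).hom.op (F.obj.map (W.map (homOfLE h).op).op y) = 0 := by
    refine Eq.trans ?_ h1
    exact (mapMap _ _ _ _).trans ((congrArg (fun m => F.obj.map (Quiver.Hom.op m) y)
      (topMap_topBase W h).symm).trans (mapMap _ _ _ _).symm)
  exact ((ConcreteCategory.isIso_iff_bijective (F.obj.map (topBase W k).hom.op)).1 inferInstance).1
    (h2.trans (map_zero _).symm)

variable [∀ a, PreservesFiniteLimits (EtCoh.pull (c.π.app a))]
  [∀ ⦃a b : ιᵒᵖ⦄ (h : a ⟶ b), PreservesFiniteLimits (EtCoh.pull ((schemes W).map h))]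

include hc hg in
/-- The inverse image to the limit of an injective sheaf is acyclic. -/
theorem H_pull_injective (I : EtCoh.Ab X) [Injective I] (q : ℕ) :
    Subsingleton (EtCoh.H c.pt ((EtCoh.pull g).obj I) (q + 1)) := by
  refine subsingleton_of_forall_eq 0 fun s => ?_
  let e := (pullIso W c g hg).app I
  obtain ⟨j, x, hx⟩ := (colimit_cohomology hc (q + 1) ((restriction W).obj I)).1
    (s.comp (Ext.mk₀ e.hom) (add_zero (q + 1)))
  haveI := injective_res_restriction W I j
  haveI : Subsingleton (EtCoh.H ((schemes W).obj (op j))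
      ((res (schemes W) j).obj ((restriction W).obj I)) (q + 1)) :=
    InjCoh.H_injective _ _ (Nat.succ_pos q)
  rw [Subsingleton.elim x 0, map_zero] at hx
  calc s = (s.comp (Ext.mk₀ e.hom) (add_zero (q + 1))).comp (Ext.mk₀ e.inv) (add_zero (q + 1)) := by
          rw [Ext.comp_assoc_of_third_deg_zero, Ext.mk₀_comp_mk₀, e.hom_inv_id, Ext.comp_mk₀_id]
    _ = 0 := by rw [← hx, Ext.zero_comp]

end Limit

end Groth.EtaleBase.EtLimit
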