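import Groth.Agent.EtaleBase.Limit.Counit
import Mathlib.CategoryTheory.Sites.CoverLifting

/-!
Systems of sheaves generated by a sheaf on one stage.
-/

set_option autoImplicit false

universe u

open CategoryTheory CategoryTheory.Limits CategoryTheory.Abelian AlgebraicGeometry Opposite

namespace Groth.EtaleBase.EtLimit

/-- A morphism with bijective precomposition is an isomorphism. -/
lemma isIso_of_bijective_precomp {C : Type*} [Category C] {A B : C} (b : A ⟶ B)
    (h : ∀ N, Function.Bijective fun f : B ⟶ N => b ≫ f) : IsIso b := by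
  obtain ⟨g, hg⟩ := (h A).2 (𝟙 A)
  refine ⟨⟨g, hg, (h B).1 ?_⟩⟩
  show b ≫ g ≫ b = b ≫ 𝟙 B
  rw [← Category.assoc, show b ≫ g = 𝟙 A from hg, Category.id_comp, Category.comp_id]

section Squares

variable {X Y Z : Scheme.{u}}

/-- The comparison morphism of base changes for a composite. -/
noncomputable def bcVia (f : X ⟶ Y) (t : Y ⟶ Z) {f₀ : X ⟶ Z} (w : f ≫ t = f₀) (V : Z.Etale) :
    (EtCoh.bc f).obj ((EtCoh.bc t).obj V) ⟶ (EtCoh.bc f₀).obj V :=
  (MorphismProperty.Over.pullbackComp (P := EtCoh.etaleMP) (Q := ⊤) f t).inv.app V ≫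
    (MorphismProperty.Over.pullbackCongr (P := EtCoh.etaleMP) (Q := ⊤) w.symm).inv.app V

set_option backward.isDefEq.respectTransparency.types false in
lemma bcVia_fst (f : X ⟶ Y) (t : Y ⟶ Z) {f₀ : X ⟶ Z} (w : f ≫ t = f₀) (V : Z.Etale) :
    (bcVia f t w V).left ≫ pullback.fst V.hom f₀ =
      pullback.fst (pullback.snd V.hom t) f ≫ pullback.fst V.hom t := by
  let c1 := (MorphismProperty.Over.pullbackComp (P := EtCoh.etaleMP) (Q := ⊤) f t).inv.app V
  let c2 := (MorphismProperty.Over.pullbackCongr (P := EtCoh.etaleMP) (Q := ⊤) w.symm).inv.app V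
  have k1 := MorphismProperty.Over.pullbackComp_left_fst_fst (P := EtCoh.etaleMP) (Q := ⊤) f t V
  have k2 := pullbackCongr_inv_app_left_fst w.symm V
  have k4 : c1.left ≫ ((MorphismProperty.Over.pullbackComp (P := EtCoh.etaleMP) (Q := ⊤) f t).hom.app V).left =
      𝟙 _ :=
    congrArg (fun m => m.left)
      ((MorphismProperty.Over.pullbackComp (P := EtCoh.etaleMP) (Q := ⊤) f t).inv_hom_id_app V)
  refine (Category.assoc c1.left c2.left _).trans ?_
  exact ((congrArg (c1.left ≫ ·) (k2.trans k1.symm)).trans (Category.assoc _ _ _).symm).trans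
    ((congrArg (· ≫ _) k4).trans (Category.id_comp _))

/-- The comparison of direct images for a composite. -/
noncomputable def pushVia (f : X ⟶ Y) (t : Y ⟶ Z) {f₀ : X ⟶ Z} (w : f ≫ t = f₀) (G : EtCoh.Ab X) :
    (EtCoh.push f₀).obj G ⟶ (EtCoh.push t).obj ((EtCoh.push f).obj G) :=
  (EtCoh.pushCongr w.symm).hom.app G ≫ (EtCoh.pushComp t f).inv.app G

lemma pushVia_app (f : X ⟶ Y) (t : Y ⟶ Z) {f₀ : X ⟶ Z} (w : f ≫ t = f₀) (G : EtCoh.Ab X) (V : Z.Etale)
    (y : G.obj.obj (op ((EtCoh.bc f₀).obj V))) :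
    (pushVia f t w G).hom.app (op V) y = G.obj.map (bcVia f t w V).op y := by
  show ((EtCoh.pushComp t f).inv.app G).hom.app (op V)
    (((EtCoh.pushCongr w.symm).hom.app G).hom.app (op V) y) = _
  rw [pushComp_inv_app, pushCongr_hom_app]
  exact mapMap G.obj _ _ _

set_option backward.isDefEq.respectTransparency.types false in
lemma bcVia_eq_of_rfl (f : X ⟶ Y) (t : Y ⟶ Z) (V : Z.Etale) :
    bcVia f t rfl V =
      (MorphismProperty.Over.pullbackComp (P := EtCoh.etaleMP) (Q := ⊤) f t).inv.app V := by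
  refine MorphismProperty.Over.Hom.ext (pullback.hom_ext ((bcVia_fst f t rfl V).trans ?_)
    ((MorphismProperty.Over.w (bcVia f t rfl V)).trans (MorphismProperty.Over.w
      ((MorphismProperty.Over.pullbackComp (P := EtCoh.etaleMP) (Q := ⊤) f t).inv.app V)).symm))
  have k1 := MorphismProperty.Over.pullbackComp_left_fst_fst (P := EtCoh.etaleMP) (Q := ⊤) f t V
  refine Eq.trans ?_ (congrArg (_ ≫ ·) k1)
  refine Eq.trans (Eq.trans (Category.id_comp _).symm (congrArg (· ≫ _)
    (congrArg (fun m => m.left)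
      ((MorphismProperty.Over.pullbackComp (P := EtCoh.etaleMP) (Q := ⊤) f t).inv_hom_id_app V)).symm)) ?_
  exact Category.assoc _ _ _

/-- The adjoint of the comparison of inverse images for a composite. -/
theorem homEquiv_pullVia (f : X ⟶ Y) (t : Y ⟶ Z) {f₀ : X ⟶ Z} (w : f ≫ t = f₀) (A : EtCoh.Ab Z) :
    (EtCoh.pullPushAdj t).homEquiv _ _ ((EtCoh.pullPushAdj f).homEquiv _ _
        ((((EtCore.pullComp f t).symm ≪≫ EtCore.pullCongr w).app A).hom)) =
      (EtCoh.pullPushAdj f₀).unit.app A ≫ pushVia f t w _ := by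
  subst w
  let comp' := ((EtCoh.pullPushAdj t).comp (EtCoh.pullPushAdj f)).ofNatIsoRight (EtCoh.pushComp t f)
  have h1 : comp'.homEquiv A _ ((EtCore.pullComp f t).inv.app A) =
      (EtCoh.pullPushAdj (f ≫ t)).unit.app A :=
    Adjunction.homEquiv_leftAdjointUniq_hom_app comp' (EtCoh.pullPushAdj (f ≫ t)) A
  rw [show comp' = _ from rfl, Adjunction.homEquiv_ofNatIsoRight_apply,
    Adjunction.comp_homEquiv] at h1
  have h2 := (Iso.eq_comp_inv ((EtCoh.pushComp t f).app _)).2 h1
  have e1 : ((((EtCore.pullComp f t).symm ≪≫ EtCore.pullCongr (rfl : f ≫ t = f ≫ t)).app A).hom) =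
      (EtCore.pullComp f t).inv.app A := by
    simp [EtCore.pullCongr]
  refine (congrArg (fun z => (EtCoh.pullPushAdj t).homEquiv _ _
    ((EtCoh.pullPushAdj f).homEquiv _ _ z)) e1).trans (h2.trans (congrArg (_ ≫ ·) ?_))
  apply (sheafToPresheaf _ _).map_injective
  ext V y
  show ((EtCoh.pushComp t f).inv.app _).hom.app (op V.unop) y =
    (pushVia f t rfl _).hom.app (op V.unop) y
  rw [pushVia_app, bcVia_eq_of_rfl, pushComp_inv_app]
  rfl

lemma pushVia_natural (f : X ⟶ Y) (t : Y ⟶ Z) {f₀ : X ⟶ Z} (w : f ≫ t = f₀) {G G' : EtCoh.Ab X}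
    (φ : G ⟶ G') :
    (EtCoh.push f₀).map φ ≫ pushVia f t w G' =
      pushVia f t w G ≫ (EtCoh.push t).map ((EtCoh.push f).map φ) := by
  apply (sheafToPresheaf _ _).map_injective
  ext V y
  show (pushVia f t w G').hom.app (op V.unop) (φ.hom.app (op ((EtCoh.bc f₀).obj V.unop)) y) =
    φ.hom.app (op ((EtCoh.bc f).obj ((EtCoh.bc t).obj V.unop)))
      ((pushVia f t w G).hom.app (op V.unop) y)
  rw [pushVia_app, pushVia_app]
  exact (NatTrans.naturality_apply φ.hom _ y).symm

/-- The relative pullback as a pullback with changed coefficients. -/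
lemma hpullVia_eq (f : X ⟶ Y) (t : Y ⟶ Z) (f₀ : X ⟶ Z) (w : f ≫ t = f₀)
    [PreservesFiniteLimits (EtCoh.pull f)] (A : EtCoh.Ab Z) (n : ℕ)
    (x : EtCoh.H Y ((EtCoh.pull t).obj A) n) :
    EtCore.HpullVia f t f₀ w A n x =
      pullOn f ((EtCoh.pullPushAdj f).homEquiv _ _
        ((((EtCore.pullComp f t).symm ≪≫ EtCore.pullCongr w).app A).hom)) n x := by
  show _ = EtLim.HpullThen f _ _ n x
  rw [Equiv.symm_apply_apply]
  rfl

end Squares

variable {ι : Type u} [Preorder ι] {Xs : ιᵒᵖ ⥤ Scheme.{u}}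

set_option backward.isDefEq.respectTransparency.types false in
/-- Composing transition morphisms. -/
lemma transHom_transHom (M : AbSys Xs) {i j k : ι} (h : i ≤ j) (h' : j ≤ k) :
    transHom M h ≫ (EtCoh.push (trn Xs h)).map (transHom M h') =
      transHom M (h.trans h') ≫ pushVia (trn Xs h') (trn Xs h) (trn_trn Xs h h') _ := by
  apply (sheafToPresheaf _ _).map_injective
  ext V y
  show M.obj.map (st h' _).op (M.obj.map (st h V.unop).op y) =
    (pushVia (trn Xs h') (trn Xs h) (trn_trn Xs h h') ((res Xs k).obj M)).hom.app (op V.unop)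
      ((transHom M (h.trans h')).hom.app (op V.unop) y)
  refine Eq.trans ?_ (pushVia_app (trn Xs h') (trn Xs h) (trn_trn Xs h h') ((res Xs k).obj M)
    V.unop _).symm
  show _ = M.obj.map ((incl Xs k).map (bcVia (trn Xs h') (trn Xs h) (trn_trn Xs h h') V.unop)).op
    (M.obj.map (st (h.trans h') V.unop).op y)
  refine (resM M _ _ y).trans (Eq.trans ?_ (resM M _ _ y).symm)
  refine congrArg (fun m => M.obj.map (Quiver.Hom.op m) y) (Obj.hom_ext ?_)
  exact (bcVia_fst (trn Xs h') (trn Xs h) (trn_trn Xs h h') V.unop).symm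

variable [Nonempty ι] [IsDirectedOrder ι]

set_option backward.isDefEq.respectTransparency.types false in
/-- The comparison morphisms commute with the transition morphisms. -/
lemma transHom_coneHom (c : Cone Xs) (M : AbSys Xs) {i j : ι} (h : i ≤ j) :
    transHom M h ≫ (EtCoh.push (trn Xs h)).map (coneHom c M j) =
      coneHom c M i ≫ pushVia (proj Xs c j) (trn Xs h) (proj_trn Xs c h) _ := by
  apply (sheafToPresheaf _ _).map_injective
  ext V y
  show unitApp c M _ (M.obj.map (st h V.unop).op y) =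
    (pushVia (proj Xs c j) (trn Xs h) (proj_trn Xs c h) ((pullSys Xs c).obj M)).hom.app (op V.unop)
      (unitApp c M ((incl Xs i).obj V.unop) y)
  refine Eq.trans ?_ (pushVia_app (proj Xs c j) (trn Xs h) (proj_trn Xs c h) ((pullSys Xs c).obj M)
    V.unop _).symm
  refine (unitApp_naturality c M (st h V.unop) y).trans ?_
  refine congrArg (fun m => ((pullSys Xs c).obj M).obj.map (Quiver.Hom.op m) _) ?_
  refine MorphismProperty.Over.Hom.ext (pullback.hom_ext ?_
    ((MorphismProperty.Over.w ((toPt Xs c).map (st h V.unop))).trans (MorphismProperty.Over.w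
      (bcVia (proj Xs c j) (trn Xs h) (proj_trn Xs c h) V.unop)).symm))
  exact (toPt_map_fst Xs c (st h V.unop)).trans
    (bcVia_fst (proj Xs c j) (trn Xs h) (proj_trn Xs c h) V.unop).symm

section Stage

variable (i₀ : ι) (F₀ : EtCoh.Ab (Xs.obj (op i₀)))

/-- The system generated by a sheaf on one stage. -/
noncomputable def fromStage : AbSys Xs :=
  ((incl Xs i₀).sheafPullback AddCommGrpCat.{u + 1} (Xs.obj (op i₀)).smallEtaleTopology (top' Xs)).obj F₀

/-- Its unit. -/
noncomputable def fromStageUnit : F₀ ⟶ (res Xs i₀).obj (fromStage i₀ F₀) :=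
  ((incl Xs i₀).sheafAdjunctionContinuous AddCommGrpCat.{u + 1} (Xs.obj (op i₀)).smallEtaleTopology
    (top' Xs)).unit.app F₀

/-- The morphism to a later stage. -/
noncomputable def fromStageHom {j : ι} (h : i₀ ≤ j) :
    (EtCoh.pull (trn Xs h)).obj F₀ ⟶ (res Xs j).obj (fromStage i₀ F₀) :=
  ((EtCoh.pullPushAdj (trn Xs h)).homEquiv _ _).symm
    (fromStageUnit i₀ F₀ ≫ transHom (fromStage i₀ F₀) h)

/-- The morphism to the limit. -/
noncomputable def fromStageLim (c : Cone Xs) :
    (EtCoh.pull (proj Xs c i₀)).obj F₀ ⟶ (pullSys Xs c).obj (fromStage i₀ F₀) :=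
  ((EtCoh.pullPushAdj (proj Xs c i₀)).homEquiv _ _).symm
    (fromStageUnit i₀ F₀ ≫ coneHom c (fromStage i₀ F₀) i₀)

instance isIso_fromStageLim (c : Cone Xs) : IsIso (fromStageLim i₀ F₀ c) := by
  refine isIso_of_bijective_precomp _ fun N => ?_
  let adj₀ := (incl Xs i₀).sheafAdjunctionContinuous AddCommGrpCat.{u + 1}
    (Xs.obj (op i₀)).smallEtaleTopology (top' Xs)
  let E : ((pullSys Xs c).obj (fromStage i₀ F₀) ⟶ N) ≃
      ((EtCoh.pull (proj Xs c i₀)).obj F₀ ⟶ N) :=
    ((sysAdj Xs c).homEquiv _ _).trans ((adj₀.homEquiv _ _).trans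
      ((Iso.homCongr (Iso.refl F₀) ((resPushIso Xs c i₀).app N)).trans
        ((EtCoh.pullPushAdj (proj Xs c i₀)).homEquiv _ _).symm))
  have hE : ∀ f, E f = fromStageLim i₀ F₀ c ≫ f := fun f => by
    refine Eq.trans ?_ ((EtCoh.pullPushAdj (proj Xs c i₀)).homEquiv_naturality_right_symm _ f)
    refine congrArg ((EtCoh.pullPushAdj (proj Xs c i₀)).homEquiv _ _).symm ?_
    show 𝟙 F₀ ≫ adj₀.homEquiv _ _ ((sysAdj Xs c).homEquiv _ _ f) ≫ (resPushIso Xs c i₀).hom.app N = _
    refine (Category.id_comp _).trans ((congrArg (· ≫ (resPushIso Xs c i₀).hom.app N)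
      (adj₀.homEquiv_unit _ _ _)).trans ((Category.assoc _ _ _).trans
        (Eq.trans ?_ (Category.assoc _ _ _).symm)))
    refine congrArg (fromStageUnit i₀ F₀ ≫ ·) ?_
    show (res Xs i₀).map _ ≫ _ = _
    rw [Adjunction.homEquiv_unit, coneHom, Functor.map_comp, Category.assoc, Category.assoc]
    exact congrArg (_ ≫ ·) ((resPushIso Xs c i₀).hom.naturality f)
  rw [show (fun f => fromStageLim i₀ F₀ c ≫ f) = E from funext fun f => (hE f).symm]
  exact E.bijective

/-- Right Kan extension from a stage, compared with the direct image. -/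
noncomputable def ranComparison {j : ι} (h : i₀ ≤ j) (N : EtCoh.Ab (Xs.obj (op j))) :
    (res Xs i₀).obj (((incl Xs j).sheafPushforwardCocontinuous AddCommGrpCat.{u + 1}
      (Xs.obj (op j)).smallEtaleTopology (top' Xs)).obj N) ⟶ (EtCoh.push (trn Xs h)).obj N :=
  transHom _ h ≫ (EtCoh.push (trn Xs h)).map
    (((incl Xs j).sheafAdjunctionCocontinuous AddCommGrpCat.{u + 1}
      (Xs.obj (op j)).smallEtaleTopology (top' Xs)).counit.app N)

lemma incl_map_injective {j : ι} {V W : (Xs.obj (op j)).Etale} {a b : V ⟶ W}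
    (e : (incl Xs j).map a = (incl Xs j).map b) : a = b :=
  MorphismProperty.Over.Hom.ext (congrArg Subtype.val e)

/-- The base change to a later stage is the universal object over an object of a stage. -/
noncomputable def isInitial_st {j : ι} (h : i₀ ≤ j) (V : (Xs.obj (op i₀)).Etale) :
    IsInitial (StructuredArrow.mk (S := op ((incl Xs i₀).obj V)) (T := (incl Xs j).op)
      (Y := op ((EtCoh.bc (trn Xs h)).obj V)) (st h V).op) :=
  IsInitial.ofUniqueHom
    (fun g => StructuredArrow.homMk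
      (factor Xs (a := (incl Xs j).obj g.right.unop) (b := (incl Xs i₀).obj V) g.hom.unop h).op
      (congrArg Quiver.Hom.op
        (factor_ext Xs (a := (incl Xs j).obj g.right.unop) (b := (incl Xs i₀).obj V) g.hom.unop h)))
    (fun g m => StructuredArrow.ext _ _ (Quiver.Hom.unop_inj (incl_map_injective
      (st_cancel h V _ _ ((congrArg Quiver.Hom.unop (StructuredArrow.w m)).trans
        (factor_ext Xs (a := (incl Xs j).obj g.right.unop) (b := (incl Xs i₀).obj V) g.hom.unop h).symm)))))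

lemma isIso_ranComparison {j : ι} (h : i₀ ≤ j) (N : EtCoh.Ab (Xs.obj (op j))) :
    IsIso (ranComparison i₀ h N) := by
  haveI : ∀ V, IsIso ((ranComparison i₀ h N).hom.app V) := fun V => by
    have h1 := ((incl Xs j).op.isPointwiseRightKanExtensionRanCounit N.obj
      (op ((incl Xs i₀).obj V.unop))).isIso_π_app_of_isInitial _ (isInitial_st i₀ h V.unop)
    have e : (ranComparison i₀ h N).hom.app V =
        ((incl Xs j).op.ran.obj N.obj).map (st h V.unop).op ≫
          ((incl Xs j).op.ranCounit.app N.obj).app (op ((EtCoh.bc (trn Xs h)).obj V.unop)) := by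
      have e2 := congrArg (fun φ => φ.app (op ((EtCoh.bc (trn Xs h)).obj V.unop)))
        ((incl Xs j).sheafAdjunctionCocontinuous_counit_app_hom AddCommGrpCat.{u + 1}
          (Xs.obj (op j)).smallEtaleTopology (top' Xs) N)
      rw [Functor.ranAdjunction_counit] at e2
      exact congrArg (_ ≫ ·) e2
    rw [e]
    exact h1
  haveI : IsIso ((sheafToPresheaf _ _).map (ranComparison i₀ h N)) :=
    NatIso.isIso_of_isIso_app (ranComparison i₀ h N).hom
  exact isIso_of_reflects_iso _ (sheafToPresheaf _ _)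

instance isIso_fromStageHom {j : ι} (h : i₀ ≤ j) : IsIso (fromStageHom i₀ F₀ h) := by
  refine isIso_of_bijective_precomp _ fun N => ?_
  let adj₀ := (incl Xs i₀).sheafAdjunctionContinuous AddCommGrpCat.{u + 1}
    (Xs.obj (op i₀)).smallEtaleTopology (top' Xs)
  let adjR := (incl Xs j).sheafAdjunctionCocontinuous AddCommGrpCat.{u + 1}
    (Xs.obj (op j)).smallEtaleTopology (top' Xs)
  haveI := isIso_ranComparison i₀ h N
  let E : ((res Xs j).obj (fromStage i₀ F₀) ⟶ N) ≃ ((EtCoh.pull (trn Xs h)).obj F₀ ⟶ N) :=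
    (adjR.homEquiv _ _).trans ((adj₀.homEquiv _ _).trans
      ((Iso.homCongr (Iso.refl F₀) (asIso (ranComparison i₀ h N))).trans
        ((EtCoh.pullPushAdj (trn Xs h)).homEquiv _ _).symm))
  have hE : ∀ f, E f = fromStageHom i₀ F₀ h ≫ f := fun f => by
    refine Eq.trans ?_ ((EtCoh.pullPushAdj (trn Xs h)).homEquiv_naturality_right_symm _ f)
    refine congrArg ((EtCoh.pullPushAdj (trn Xs h)).homEquiv _ _).symm ?_
    show 𝟙 F₀ ≫ adj₀.homEquiv _ _ (adjR.homEquiv _ _ f) ≫ ranComparison i₀ h N = _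
    have hf : (res Xs j).map (adjR.homEquiv _ _ f) ≫ adjR.counit.app N = f :=
      (adjR.homEquiv_counit _ _ _).symm.trans (Equiv.symm_apply_apply _ _)
    refine (Category.id_comp _).trans ?_
    refine (congrArg (· ≫ ranComparison i₀ h N) (adj₀.homEquiv_unit _ _ _)).trans ?_
    refine (Category.assoc _ _ _).trans (Eq.trans ?_ (Category.assoc _ _ _).symm)
    refine congrArg (fromStageUnit i₀ F₀ ≫ ·) ?_
    refine (Category.assoc _ _ _).symm.trans
      ((congrArg (· ≫ _) (transHom_natural (adjR.homEquiv _ _ f) h)).trans ?_)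
    refine (Category.assoc _ _ _).trans (congrArg (transHom (fromStage i₀ F₀) h ≫ ·) ?_)
    exact ((EtCoh.push (trn Xs h)).map_comp _ _).symm.trans (congrArg _ hf)
  rw [show (fun f => fromStageHom i₀ F₀ h ≫ f) = E from funext fun f => (hE f).symm]
  exact E.bijective

end Stage

section Cohomology

variable (c : Cone Xs) (i₀ : ι) (F₀ : EtCoh.Ab (Xs.obj (op i₀)))

lemma hpull_eq {X Y : Scheme.{u}} (v : X ⟶ Y) [PreservesFiniteLimits (EtCoh.pull v)] (G : EtCoh.Ab Y)
    (n : ℕ) (x : EtCoh.H Y G n) :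
    EtCore.Hpull v G n x = pullOn v ((EtCoh.pullPushAdj v).unit.app G) n x := by
  have h : ((EtCoh.pullPushAdj v).homEquiv G _).symm ((EtCoh.pullPushAdj v).unit.app G) =
      𝟙 ((EtCoh.pull v).obj G) :=
    (Equiv.symm_apply_eq _).2 ((EtCoh.pullPushAdj v).homEquiv_id G).symm
  show _ = (EtCore.Hpull v G n x).comp (Ext.mk₀ _) (add_zero n)
  exact (Ext.comp_mk₀_id _).symm.trans
    (congrArg (fun z => (EtCore.Hpull v G n x).comp (Ext.mk₀ z) (add_zero n)) h.symm)

variable [∀ a, PreservesFiniteLimits (EtCoh.pull (c.π.app a))]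

lemma hpullVia_T {j : ι} (h : i₀ ≤ j) (n : ℕ)
    (x : EtCoh.H (Xs.obj (op j)) ((EtCoh.pull (trn Xs h)).obj F₀) n) :
    T c j (fromStage i₀ F₀) n (x.comp (Ext.mk₀ (fromStageHom i₀ F₀ h)) (add_zero n)) =
      (EtCore.HpullVia (proj Xs c j) (trn Xs h) (proj Xs c i₀) (proj_trn Xs c h) F₀ n x).comp
        (Ext.mk₀ (fromStageLim i₀ F₀ c)) (add_zero n) := by
  rw [hpullVia_eq]
  refine pullOn_map _ _ _ _ _ ?_ n x
  apply ((EtCoh.pullPushAdj (trn Xs h)).homEquiv _ _).injective
  rw [Adjunction.homEquiv_naturality_right, Adjunction.homEquiv_naturality_right, homEquiv_pullVia,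
    fromStageHom, Equiv.apply_symm_apply, Category.assoc, transHom_coneHom]
  have h1 : (EtCoh.pullPushAdj (proj Xs c i₀)).unit.app F₀ ≫
      (EtCoh.push (proj Xs c i₀)).map (fromStageLim i₀ F₀ c) =
        fromStageUnit i₀ F₀ ≫ coneHom c (fromStage i₀ F₀) i₀ :=
    ((EtCoh.pullPushAdj (proj Xs c i₀)).homEquiv_unit _ _ _).symm.trans (Equiv.apply_symm_apply _ _)
  rw [← Category.assoc, ← h1, Category.assoc, Category.assoc]
  refine congrArg (_ ≫ ·) ?_
  exact pushVia_natural _ _ _ (fromStageLim i₀ F₀ c)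

variable [∀ ⦃a b : ιᵒᵖ⦄ (h : a ⟶ b), PreservesFiniteLimits (EtCoh.pull (Xs.map h))]

omit [∀ a, PreservesFiniteLimits (EtCoh.pull (c.π.app a))] in
lemma hpull_R {j k : ι} (h : i₀ ≤ j) (hk : j ≤ k) (n : ℕ)
    (x : EtCoh.H (Xs.obj (op j)) ((EtCoh.pull (trn Xs h)).obj F₀) n)
    (hx : R hk (fromStage i₀ F₀) n (x.comp (Ext.mk₀ (fromStageHom i₀ F₀ h)) (add_zero n)) = 0) :
    EtCore.Hpull (trn Xs hk) _ n x = 0 := by
  let iso := ((EtCore.pullComp (trn Xs hk) (trn Xs h)).symm ≪≫
    EtCore.pullCongr (trn_trn Xs h hk)).app F₀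
  have hR : R hk (fromStage i₀ F₀) n (x.comp (Ext.mk₀ (fromStageHom i₀ F₀ h)) (add_zero n)) =
      (EtCore.Hpull (trn Xs hk) _ n x).comp
        (Ext.mk₀ (iso.hom ≫ fromStageHom i₀ F₀ (h.trans hk))) (add_zero n) := by
    rw [hpull_eq]
    refine pullOn_map _ _ _ _ _ (Eq.trans ?_
      ((EtCoh.pullPushAdj (trn Xs hk)).homEquiv_unit _ _ _)) n x
    apply ((EtCoh.pullPushAdj (trn Xs h)).homEquiv _ _).injective
    rw [Adjunction.homEquiv_naturality_right, fromStageHom, Equiv.apply_symm_apply, Category.assoc,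
      transHom_transHom, Adjunction.homEquiv_naturality_right, Adjunction.homEquiv_naturality_right,
      homEquiv_pullVia]
    have h1 : (EtCoh.pullPushAdj (trn Xs (h.trans hk))).unit.app F₀ ≫
        (EtCoh.push (trn Xs (h.trans hk))).map (fromStageHom i₀ F₀ (h.trans hk)) =
          fromStageUnit i₀ F₀ ≫ transHom (fromStage i₀ F₀) (h.trans hk) :=
      ((EtCoh.pullPushAdj (trn Xs (h.trans hk))).homEquiv_unit _ _ _).symm.trans
        (Equiv.apply_symm_apply _ _)
    rw [← Category.assoc, ← h1, Category.assoc, Category.assoc]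
    refine congrArg (_ ≫ ·) ?_
    exact pushVia_natural _ _ _ (fromStageHom i₀ F₀ (h.trans hk))
  have h2 := congrArg (fun z => Ext.comp z
    (Ext.mk₀ (inv (iso.hom ≫ fromStageHom i₀ F₀ (h.trans hk)))) (add_zero n)) (hR.symm.trans hx)
  rw [Ext.comp_assoc_of_third_deg_zero, Ext.mk₀_comp_mk₀, IsIso.hom_inv_id] at h2
  exact (Ext.comp_mk₀_id _).symm.trans (h2.trans (Ext.zero_comp _ _ _ _ _))

end Cohomology

end Groth.EtaleBase.EtLimit
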