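import Groth.Agent.EtaleBase.Limit.ResClass
import Groth.Agent.EtaleBase.Limit.FromStage
import Groth.Agent.EtaleBase.Limit.EtaleSystem
import Groth.Agent.EtaleBase.InjCoh

/-!
Cohomology classes, on a scheme over an étale scheme, of cycles of sections in a resolution.
-/

set_option autoImplicit false

universe u

open CategoryTheory CategoryTheory.Limits CategoryTheory.Abelian AlgebraicGeometry Opposite

namespace Groth.EtaleBase.EtLimit

section Sec

variable {P T : Scheme.{u}} (p : P ⟶ T) (W : T.Etale) (m : P ⟶ W.left) (hm : m ≫ W.hom = p)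

/-- The section of the base change given by a point. -/
noncomputable def secTop : EtCoh.top P ⟶ (EtCoh.bc p).obj W :=
  MorphismProperty.Over.homMk (pullback.lift m (𝟙 P) (hm.trans (Category.id_comp p).symm))
    (pullback.lift_snd _ _ _)

lemma secTop_fst : (secTop p W m hm).left ≫ pullback.fst W.hom p = m :=
  pullback.lift_fst _ _ _

/-- Sections over an étale scheme give global sections of the inverse image. -/
noncomputable def sec (A : EtCoh.Ab T) :
    A.obj.obj (op W) ⟶ ((EtCoh.pull p).obj A).obj.obj (op (EtCoh.top P)) :=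
  ((EtCoh.pullPushAdj p).unit.app A).hom.app (op W) ≫
    ((EtCoh.pull p).obj A).obj.map (secTop p W m hm).op

lemma sec_map {A B : EtCoh.Ab T} (φ : A ⟶ B) (y : A.obj.obj (op W)) :
    sec p W m hm B (φ.hom.app (op W) y) =
      ((EtCoh.pull p).map φ).hom.app (op (EtCoh.top P)) (sec p W m hm A y) := by
  have h := ConcreteCategory.congr_hom (congrArg (fun ψ => ψ.hom.app (op W))
    ((EtCoh.pullPushAdj p).unit.naturality φ)) y
  refine (congrArg (((EtCoh.pull p).obj B).obj.map (secTop p W m hm).op) h).trans ?_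
  exact (NatTrans.naturality_apply ((EtCoh.pull p).map φ).hom (secTop p W m hm).op _).symm

lemma sec_res {W' : T.Etale} (φ : W' ⟶ W) (m' : P ⟶ W'.left) (hm' : m' ≫ W'.hom = p)
    (h : m' ≫ φ.left = m) (A : EtCoh.Ab T) (y : A.obj.obj (op W)) :
    sec p W' m' hm' A (A.obj.map φ.op y) = sec p W m hm A y := by
  refine (congrArg (((EtCoh.pull p).obj A).obj.map (secTop p W' m' hm').op)
    (NatTrans.naturality_apply ((EtCoh.pullPushAdj p).unit.app A).hom φ.op y)).trans
    ((mapMap _ _ _ _).trans ?_)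
  refine congrArg (fun ψ => ((EtCoh.pull p).obj A).obj.map (Quiver.Hom.op ψ) _) (bc_hom_ext p _ _ ?_)
  refine ((Category.assoc _ _ _).trans ((congrArg (_ ≫ ·) (EtCoh.isPullback_bc_map p φ).w).trans
    ((Category.assoc _ _ _).symm.trans (congrArg (· ≫ φ.left) (secTop_fst p W' m' hm'))))).trans
      (h.trans (secTop_fst p W m hm).symm)

set_option backward.isDefEq.respectTransparency.types false in
/-- For an étale scheme, sections are global sections of the inverse image. -/
theorem sec_bijective (W : T.Etale) (A : EtCoh.Ab T) :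
    Function.Bijective (sec W.hom W (𝟙 W.left) (Category.id_comp _) A) := by
  haveI : AlgebraicGeometry.Etale W.hom := W.prop
  haveI : EtShriek.JCont W.hom := InjCoh.jCont W.hom
  let σ := secTop W.hom W (𝟙 W.left) (Category.id_comp _)
  let κ := (pullRestrIso W.hom).hom.app A
  have hu : (EtCoh.pullPushAdj W.hom).unit.app A ≫ (EtCoh.push W.hom).map κ =
      (restrPushAdj W.hom).unit.app A :=
    Adjunction.unit_leftAdjointUniq_hom_app _ _ A
  let cu := (MorphismProperty.Over.mapPullbackAdj EtCoh.etaleMP.{u} ⊤ W.hom W.prop trivial).counit.app W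
  let e : (EtShriek.compEtale W.hom).obj (EtCoh.top W.left) ⟶ W :=
    (EtShriek.compEtale W.hom).map σ ≫ cu
  let ι : (EtShriek.compEtale W.hom).obj (EtCoh.top W.left) ≅ W :=
    MorphismProperty.Over.isoMk (Iso.refl W.left) rfl
  have he : e = ι.hom := MorphismProperty.Over.Hom.ext
    (secTop_fst W.hom W (𝟙 W.left) (Category.id_comp _))
  haveI : IsIso e := by rw [he]; infer_instance
  have hκ : Function.Bijective (κ.hom.app (op (EtCoh.top W.left))) :=
    (ConcreteCategory.isIso_iff_bijective _).1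
      (inferInstanceAs (IsIso (((sheafToPresheaf _ _).map κ).app (op (EtCoh.top W.left)))))
  have key : ∀ y, κ.hom.app (op (EtCoh.top W.left)) (sec W.hom W (𝟙 W.left) (Category.id_comp _) A y) =
      A.obj.map e.op y := fun y => by
    refine (NatTrans.naturality_apply κ.hom σ.op _).trans ?_
    refine (congrArg _ (ConcreteCategory.congr_hom
      (congrArg (fun ψ => ψ.hom.app (op W)) hu) y)).trans ?_
    exact mapMap A.obj _ _ y
  refine (Function.Bijective.of_comp_iff' hκ _).1 ?_
  have hf : (κ.hom.app (op (EtCoh.top W.left))).hom ∘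
      (sec W.hom W (𝟙 W.left) (Category.id_comp _) A).hom = fun y => A.obj.map e.op y := funext key
  exact (congrArg Function.Bijective hf).mpr ((ConcreteCategory.isIso_iff_bijective (A.obj.map e.op)).1 inferInstance)

end Sec

section Via

variable {P T X : Scheme.{u}}

/-- Sections along a composite. -/
lemma via_sec (p : P ⟶ T) (g : T ⟶ X) {p₀ : P ⟶ X} (w : p ≫ g = p₀) (A : EtCoh.Ab X) (W : X.Etale)
    (m : P ⟶ ((EtCoh.bc g).obj W).left) (hm : m ≫ ((EtCoh.bc g).obj W).hom = p)
    (m₀ : P ⟶ W.left) (hm₀ : m₀ ≫ W.hom = p₀) (h : m ≫ pullback.fst W.hom g = m₀)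
    (y : A.obj.obj (op W)) :
    ((((EtCore.pullComp p g).symm ≪≫ EtCore.pullCongr w).app A).hom).hom.app (op (EtCoh.top P))
        (sec p ((EtCoh.bc g).obj W) m hm ((EtCoh.pull g).obj A)
          (((EtCoh.pullPushAdj g).unit.app A).hom.app (op W) y)) =
      sec p₀ W m₀ hm₀ A y := by
  let ν := (((EtCore.pullComp p g).symm ≪≫ EtCore.pullCongr w).app A).hom
  let N := (EtCoh.pull p₀).obj A
  have h1 := homEquiv_pullVia p g w A
  rw [Adjunction.homEquiv_unit, Adjunction.homEquiv_unit] at h1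
  let σ := secTop p ((EtCoh.bc g).obj W) m hm
  let η₀ := ((EtCoh.pullPushAdj p₀).unit.app A).hom.app (op W) y
  let x := ((EtCoh.pullPushAdj p).unit.app ((EtCoh.pull g).obj A)).hom.app (op ((EtCoh.bc g).obj W))
    (((EtCoh.pullPushAdj g).unit.app A).hom.app (op W) y)
  have e1 : ν.hom.app (op (EtCoh.top P)) (((EtCoh.pull p).obj ((EtCoh.pull g).obj A)).obj.map σ.op x) =
      N.obj.map σ.op (ν.hom.app (op ((EtCoh.bc p).obj ((EtCoh.bc g).obj W))) x) :=
    NatTrans.naturality_apply ν.hom σ.op x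
  have e2 : ν.hom.app (op ((EtCoh.bc p).obj ((EtCoh.bc g).obj W))) x =
      (pushVia p g w N).hom.app (op W) η₀ :=
    ConcreteCategory.congr_hom (congrArg (fun ψ => ψ.hom.app (op W)) h1) y
  refine e1.trans ((congrArg (fun z => N.obj.map σ.op z)
    (e2.trans (pushVia_app p g w N W η₀))).trans ?_)
  refine (mapMap N.obj _ _ η₀).trans ?_
  refine congrArg (fun ψ => ((EtCoh.pull p₀).obj A).obj.map (Quiver.Hom.op ψ) _) (bc_hom_ext p₀ _ _ ?_)
  refine ((Category.assoc _ _ _).trans ((congrArg (_ ≫ ·) (bcVia_fst p g w W)).trans ?_)).trans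
    (h.trans (secTop_fst p₀ W m₀ hm₀).symm)
  exact (Category.assoc _ _ _).symm.trans (congrArg (· ≫ _) (secTop_fst p _ m hm))

/-- Sections and inverse images. -/
lemma pull_sec (k : P ⟶ T) (t : T ⟶ X) {p₀ : P ⟶ X} (w : k ≫ t = p₀) (A : EtCoh.Ab X) (W : X.Etale)
    (m : T ⟶ W.left) (hm : m ≫ W.hom = t) (m₀ : P ⟶ W.left) (hm₀ : m₀ ≫ W.hom = p₀)
    (h : k ≫ m = m₀) (y : A.obj.obj (op W)) :
    ((EtCoh.pull p₀).obj A).obj.map (EtCore.bcTopIso k).inv.op
      (((EtCoh.pullPushAdj k).homEquiv _ _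
          (((EtCore.pullComp k t).symm ≪≫ EtCore.pullCongr w).app A).hom).hom.app (op (EtCoh.top T))
        (sec t W m hm A y)) =
      sec p₀ W m₀ hm₀ A y := by
  let ν := (EtCoh.pullPushAdj k).homEquiv _ _
    (((EtCore.pullComp k t).symm ≪≫ EtCore.pullCongr w).app A).hom
  let N := (EtCoh.pull p₀).obj A
  have h1 := homEquiv_pullVia k t w A
  rw [Adjunction.homEquiv_unit] at h1
  let σ := secTop t W m hm
  let η₀ := ((EtCoh.pullPushAdj p₀).unit.app A).hom.app (op W) y
  let x := ((EtCoh.pullPushAdj t).unit.app A).hom.app (op W) y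
  have e1 : ν.hom.app (op (EtCoh.top T)) (((EtCoh.pull t).obj A).obj.map σ.op x) =
      N.obj.map ((EtCoh.bc k).map σ).op (ν.hom.app (op ((EtCoh.bc t).obj W)) x) :=
    NatTrans.naturality_apply ν.hom σ.op x
  have e2 : ν.hom.app (op ((EtCoh.bc t).obj W)) x = (pushVia k t w N).hom.app (op W) η₀ :=
    ConcreteCategory.congr_hom (congrArg (fun ψ => ψ.hom.app (op W)) h1) y
  refine (congrArg (fun z => N.obj.map (EtCore.bcTopIso k).inv.op z)
    (e1.trans (congrArg (fun z => N.obj.map ((EtCoh.bc k).map σ).op z)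
      (e2.trans (pushVia_app k t w N W η₀))))).trans ?_
  refine ((congrArg (fun z => N.obj.map (EtCore.bcTopIso k).inv.op z) (mapMap N.obj _ _ η₀)).trans
    (mapMap N.obj _ _ η₀)).trans ?_
  refine congrArg (fun ψ => ((EtCoh.pull p₀).obj A).obj.map (Quiver.Hom.op ψ) _) (bc_hom_ext p₀ _ _ ?_)
  refine Eq.trans ?_ (h.trans (secTop_fst p₀ W m₀ hm₀).symm)
  have hk : (EtCore.bcTopIso k).inv.left ≫ pullback.fst (𝟙 T) k = k :=
    ((congrArg (_ ≫ ·) ((Category.comp_id _).symm.trans pullback.condition)).trans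
      ((Category.assoc _ _ _).symm.trans ((congrArg (· ≫ k)
        (MorphismProperty.Over.w (EtCore.bcTopIso k).inv)).trans (Category.id_comp k))))
  refine (Category.assoc _ _ _).trans ((congrArg (_ ≫ ·) ((Category.assoc _ _ _).trans
    ((congrArg (_ ≫ ·) (bcVia_fst k t w W)).trans ((Category.assoc _ _ _).symm.trans
      ((congrArg (· ≫ _) (EtCoh.isPullback_bc_map k (secTop t W m hm)).w).trans
        ((Category.assoc _ _ _).trans (congrArg (_ ≫ ·) (secTop_fst t W m hm)))))))).trans ?_)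
  exact (Category.assoc _ _ _).symm.trans (congrArg (· ≫ m) hk)

end Via

namespace Resn

variable {Y : Scheme.{u}}

lemma ext_sub_comp {C : Type*} [Category C] [Abelian C] [HasExt.{u + 1} C] {X₁ X₂ X₃ : C} {a b c : ℕ}
    (x x' : Ext X₁ X₂ a) (y : Ext X₂ X₃ b) (h : a + b = c) :
    (x - x').comp y h = x.comp y h - x'.comp y h := by
  rw [sub_eq_add_neg, Ext.add_comp, Ext.neg_comp, ← sub_eq_add_neg]

theorem cls_sub : ∀ (q : ℕ) {G : EtCoh.Ab Y} (R : Resn G) (z z' : EtCoh.const Y ℤ ⟶ R.X q)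
    (h : z ≫ R.d q = 0) (h' : z' ≫ R.d q = 0) (h'' : (z - z') ≫ R.d q = 0),
    cls q R (z - z') h'' = cls q R z h - cls q R z' h'
  | 0, G, R, z, z', h, h', h'' => by
    haveI := R.mono
    have e : R.lift0 (z - z') h'' = R.lift0 z h - R.lift0 z' h' :=
      (cancel_mono R.ε).1 (by rw [Preadditive.sub_comp, lift0_ε, lift0_ε, lift0_ε])
    show Ext.mk₀ _ = Ext.mk₀ _ - Ext.mk₀ _
    rw [e]
    exact map_sub (Ext.addEquiv₀ (X := EtCoh.const Y ℤ) (Y := G)).symm _ _
  | q + 1, G, R, z, z', h, h', h'' => by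
    show (cls q R.shift (z - z') h'').comp _ rfl = _
    refine (congrArg (fun e => Ext.comp e R.seq_shortExact.extClass rfl)
      (cls_sub q R.shift z z' h h' h'')).trans ?_
    exact ext_sub_comp _ _ _ _

lemma scls_sub {G : EtCoh.Ab Y} (R : Resn G) {q : ℕ} (z z' : (R.X q).obj.obj (op (EtCoh.top Y)))
    (h : (R.d q).hom.app (op (EtCoh.top Y)) z = 0) (h' : (R.d q).hom.app (op (EtCoh.top Y)) z' = 0)
    (h'' : (R.d q).hom.app (op (EtCoh.top Y)) (z - z') = 0) :
    R.scls q (z - z') h'' = R.scls q z h - R.scls q z' h' := by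
  refine Eq.trans ?_ (cls_sub q R _ _ (ev_symm_cycle h) (ev_symm_cycle h')
    (by rw [← map_sub]; exact ev_symm_cycle h''))
  exact R.cls_congr (map_sub (ev (R.X q)).symm z z') _ _

variable {P T : Scheme.{u}} {G : EtCoh.Ab T} (R : Resn G) {q : ℕ} {W : T.Etale}

lemma sec_cycle (p : P ⟶ T) (m : P ⟶ W.left) (hm : m ≫ W.hom = p) {z : (R.X q).obj.obj (op W)}
    (h : (R.d q).hom.app (op W) z = 0) :
    ((R.pullback p).d q).hom.app (op (EtCoh.top P)) (sec p W m hm (R.X q) z) = 0 :=
  (sec_map p W m hm (R.d q) z).symm.trans ((congrArg _ h).trans (map_zero _))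

/-- The class, on a scheme over an étale scheme, of a cycle of sections. -/
noncomputable def clsAt (z : (R.X q).obj.obj (op W)) (h : (R.d q).hom.app (op W) z = 0)
    (p : P ⟶ T) (m : P ⟶ W.left) (hm : m ≫ W.hom = p) : EtCoh.H P ((EtCoh.pull p).obj G) q :=
  (R.pullback p).scls q (sec p W m hm (R.X q) z) (R.sec_cycle p m hm h)

variable {p : P ⟶ T} {m : P ⟶ W.left} {hm : m ≫ W.hom = p}

lemma clsAt_congr {z z' : (R.X q).obj.obj (op W)} (e : z = z') (h : (R.d q).hom.app (op W) z = 0)
    (h' : (R.d q).hom.app (op W) z' = 0) : R.clsAt z h p m hm = R.clsAt z' h' p m hm := by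
  subst e; rfl

lemma clsAt_sub {z z' : (R.X q).obj.obj (op W)} (h : (R.d q).hom.app (op W) z = 0)
    (h' : (R.d q).hom.app (op W) z' = 0) (h'' : (R.d q).hom.app (op W) (z - z') = 0) :
    R.clsAt (z - z') h'' p m hm = R.clsAt z h p m hm - R.clsAt z' h' p m hm := by
  refine ((R.pullback p).scls_congr (map_sub (sec p W m hm (R.X q)).hom z z') _ ?_).trans
    ((R.pullback p).scls_sub _ _ _ _ _)
  rw [← map_sub]
  exact R.sec_cycle p m hm h''

lemma clsAt_zero (h : (R.d q).hom.app (op W) 0 = 0) : R.clsAt 0 h p m hm = 0 := by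
  have e := R.clsAt_sub (p := p) (m := m) (hm := hm) h h (by rw [sub_self, map_zero])
  exact (R.clsAt_congr (sub_self _).symm h _).trans (e.trans (sub_self _))

/-- A coboundary has class zero. -/
theorem clsAt_boundary (b : (R.X q).obj.obj (op W))
    (h : (R.d (q + 1)).hom.app (op W) ((R.d q).hom.app (op W) b) = 0) :
    R.clsAt ((R.d q).hom.app (op W) b) h p m hm = 0 := by
  have e := sec_map p W m hm (R.d q) b
  refine ((R.pullback p).scls_congr e _ ?_).trans ((R.pullback p).scls_sboundary q _ ?_)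
  all_goals exact (congrArg (((R.pullback p).d (q + 1)).hom.app _) e).symm.trans (R.sec_cycle p m hm h)

/-- Classes are natural for morphisms of étale schemes. -/
theorem clsAt_res {z : (R.X q).obj.obj (op W)} (h : (R.d q).hom.app (op W) z = 0) {W' : T.Etale}
    (φ : W' ⟶ W) (m' : P ⟶ W'.left) (hm' : m' ≫ W'.hom = p) (e : m' ≫ φ.left = m)
    (h' : (R.d q).hom.app (op W') ((R.X q).obj.map φ.op z) = 0) :
    R.clsAt ((R.X q).obj.map φ.op z) h' p m' hm' = R.clsAt z h p m hm :=
  (R.pullback p).scls_congr (sec_res p W m hm φ m' hm' e _ z) _ _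

/-- Classes and inverse images. -/
theorem clsAt_pull {P' : Scheme.{u}} (k : P' ⟶ P) [PreservesFiniteLimits (EtCoh.pull k)] {p₀ : P' ⟶ T}
    (w : k ≫ p = p₀) (m₀ : P' ⟶ W.left) (hm₀ : m₀ ≫ W.hom = p₀) (e : k ≫ m = m₀)
    {z : (R.X q).obj.obj (op W)} (h : (R.d q).hom.app (op W) z = 0) :
    R.clsAt z h p₀ m₀ hm₀ = EtCore.HpullVia k p p₀ w G q (R.clsAt z h p m hm) := by
  let via := (EtCore.pullComp k p).symm ≪≫ EtCore.pullCongr w
  let φ : Hom k (R.pullback p) (R.pullback p₀) (via.app G).hom :=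
    { f := fun n => (via.app (R.X n)).hom
      comm := fun n => via.hom.naturality (R.d n)
      comm_ε := via.hom.naturality R.ε }
  obtain ⟨h', hh⟩ := scls_pull φ (sec p W m hm (R.X q) z) (R.sec_cycle p m hm h)
  exact ((R.pullback p₀).scls_congr (pull_sec k p w _ W m hm m₀ hm₀ e z).symm _ h').trans hh

/-- Classes and morphisms of resolutions along a morphism of the base. -/
theorem clsAt_hom {X : Scheme.{u}} {A : EtCoh.Ab X} {S : Resn A} {g : T ⟶ X}
    {α : (EtCoh.pull g).obj A ⟶ G} (φ : Hom g S R α) {W₀ : X.Etale}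
    (r : W ⟶ (EtCoh.bc g).obj W₀) {p₀ : P ⟶ X} (w : p ≫ g = p₀) (m₀ : P ⟶ W₀.left)
    (hm₀ : m₀ ≫ W₀.hom = p₀) (e : (m ≫ r.left) ≫ pullback.fst W₀.hom g = m₀)
    {z : (S.X q).obj.obj (op W₀)} (h : (S.d q).hom.app (op W₀) z = 0)
    (h' : (R.d q).hom.app (op W) ((R.X q).obj.map r.op
      (((EtCoh.pullPushAdj g).homEquiv _ _ (φ.f q)).hom.app (op W₀) z)) = 0) :
    R.clsAt ((R.X q).obj.map r.op (((EtCoh.pullPushAdj g).homEquiv _ _ (φ.f q)).hom.app (op W₀) z))
        h' p m hm =
      (S.clsAt z h p₀ m₀ hm₀).comp (Ext.mk₀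
        (((((EtCore.pullComp p g).symm ≪≫ EtCore.pullCongr w)).app A).inv ≫ (EtCoh.pull p).map α))
        (add_zero q) := by
  let via := (EtCore.pullComp p g).symm ≪≫ EtCore.pullCongr w
  let Ψ : Map (S.pullback p₀) (R.pullback p) ((via.app A).inv ≫ (EtCoh.pull p).map α) :=
    { f := fun n => (via.app (S.X n)).inv ≫ (EtCoh.pull p).map (φ.f n)
      comm := fun n => by
        refine ((Category.assoc _ _ _).symm.trans (congrArg (· ≫ _) (via.inv.naturality (S.d n)))).trans
          ((Category.assoc _ _ _).trans (Eq.trans ?_ (Category.assoc _ _ _).symm))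
        refine congrArg (_ ≫ ·) ?_
        exact (((EtCoh.pull p).map_comp _ _).symm.trans (congrArg _ (φ.comm n))).trans
          ((EtCoh.pull p).map_comp _ _)
      comm_ε := by
        refine ((Category.assoc _ _ _).symm.trans (congrArg (· ≫ _) (via.inv.naturality S.ε))).trans
          ((Category.assoc _ _ _).trans (Eq.trans ?_ (Category.assoc _ _ _).symm))
        refine congrArg (_ ≫ ·) ?_
        exact (((EtCoh.pull p).map_comp _ _).symm.trans (congrArg _ φ.comm_ε)).trans
          ((EtCoh.pull p).map_comp _ _) }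
  have hm1 : (m ≫ r.left) ≫ ((EtCoh.bc g).obj W₀).hom = p :=
    (Category.assoc _ _ _).trans ((congrArg (m ≫ ·) (MorphismProperty.Over.w r)).trans hm)
  obtain ⟨h₁, hh⟩ := scls_map Ψ (sec p₀ W₀ m₀ hm₀ (S.X q) z) (S.sec_cycle p₀ m₀ hm₀ h)
  refine ((R.pullback p).scls_congr ?_ _ h₁).trans hh
  refine (sec_res p _ (m ≫ r.left) hm1 r m hm rfl _ _).trans ?_
  let η := ((EtCoh.pullPushAdj g).unit.app (S.X q)).hom.app (op W₀) z
  have h2 : ((EtCoh.pullPushAdj g).homEquiv _ _ (φ.f q)).hom.app (op W₀) z =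
      (φ.f q).hom.app (op ((EtCoh.bc g).obj W₀)) η :=
    ConcreteCategory.congr_hom (congrArg (fun ψ => ψ.hom.app (op W₀))
      ((EtCoh.pullPushAdj g).homEquiv_unit _ _ (φ.f q))) z
  refine (congrArg _ h2).trans ((sec_map p _ (m ≫ r.left) hm1 (φ.f q) η).trans ?_)
  refine congrArg (((EtCoh.pull p).map (φ.f q)).hom.app (op (EtCoh.top P))) ?_
  refine Eq.trans ?_ (congrArg ((via.app (S.X q)).inv.hom.app (op (EtCoh.top P)))
    (via_sec p g w (S.X q) W₀ (m ≫ r.left) hm1 m₀ hm₀ e z))
  exact (ConcreteCategory.congr_hom (congrArg (fun ψ => ψ.hom.app (op (EtCoh.top P)))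
    (via.app (S.X q)).hom_inv_id) _).symm

end Resn

section Injective

variable {T : Scheme.{u}} {G : EtCoh.Ab T} (I : InjectiveResolution G) (W : T.Etale)

lemma pullback_acyclic (n k : ℕ) :
    Subsingleton (EtCoh.H W.left (((injResn I).pullback W.hom).X n) (k + 1)) := by
  haveI : AlgebraicGeometry.Etale W.hom := W.prop
  haveI : Injective (((injResn I).pullback W.hom).X n) :=
    haveI := I.injective n
    InjCoh.pull_injective W.hom (I.cocomplex.X n)
  exact InjCoh.H_injective _ _ (Nat.succ_pos k)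

/-- Every class on an étale scheme is the class of a cycle. -/
theorem exists_clsAt_eq {q : ℕ} (x : EtCoh.H W.left ((EtCoh.pull W.hom).obj G) q) :
    ∃ (z : ((injResn I).X q).obj.obj (op W)) (h : ((injResn I).d q).hom.app (op W) z = 0),
      (injResn I).clsAt z h W.hom (𝟙 _) (Category.id_comp _) = x := by
  obtain ⟨s, hs, rfl⟩ := ((injResn I).pullback W.hom).exists_scls_eq q (pullback_acyclic I W) x
  obtain ⟨z, rfl⟩ := (sec_bijective W ((injResn I).X q)).2 s
  refine ⟨z, (sec_bijective W ((injResn I).X (q + 1))).1 ?_, rfl⟩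
  exact ((sec_map W.hom W (𝟙 _) (Category.id_comp _) ((injResn I).d q) z).trans hs).trans (map_zero _).symm

/-- In degree zero a cycle of class zero is zero. -/
theorem clsAt_zero_eq_zero {z : ((injResn I).X 0).obj.obj (op W)}
    (h : ((injResn I).d 0).hom.app (op W) z = 0)
    (hz : (injResn I).clsAt z h W.hom (𝟙 _) (Category.id_comp _) = 0) : z = 0 :=
  (sec_bijective W ((injResn I).X 0)).1
    ((((injResn I).pullback W.hom).scls_zero_eq_zero _ _ hz).trans (map_zero _).symm)

/-- A cycle of class zero is a coboundary. -/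
theorem exists_boundary_of_clsAt {q : ℕ} {z : ((injResn I).X (q + 1)).obj.obj (op W)}
    (h : ((injResn I).d (q + 1)).hom.app (op W) z = 0)
    (hz : (injResn I).clsAt z h W.hom (𝟙 _) (Category.id_comp _) = 0) :
    ∃ b, ((injResn I).d q).hom.app (op W) b = z := by
  obtain ⟨c, hc⟩ := ((injResn I).pullback W.hom).exists_sboundary q (pullback_acyclic I W) _ _ hz
  obtain ⟨b, rfl⟩ := (sec_bijective W ((injResn I).X q)).2 c
  exact ⟨b, (sec_bijective W ((injResn I).X (q + 1))).1
    ((sec_map W.hom W (𝟙 _) (Category.id_comp _) ((injResn I).d q) b).trans hc)⟩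

end Injective

end Groth.EtaleBase.EtLimit
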