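import Groth.Agent.AlgSpEt.StrictHens
import Mathlib.CategoryTheory.Presentable.Directed
import Mathlib.CategoryTheory.Filtered.FinallySmall
import Mathlib.AlgebraicGeometry.AffineScheme
import Groth.Prelude.Def_Hens2

/-!
The spectrum of the étale local ring at a geometric point is the limit of a directed system of affine
étale neighbourhoods; comparison with the spectrum of a strict henselization.
-/

set_option autoImplicit false

universe u

open CategoryTheory CategoryTheory.Limits AlgebraicGeometry Opposite IsLocalRing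
open Groth.EtaleBase Groth.EtaleBase.EtLocalRing Groth.AlgSpEt.StrictLocal

namespace Groth.EtaleBase.EtLimit

variable {S : Scheme.{u}} {Ω : Type u} [Field Ω] [IsSepClosed Ω] (ξ : Spec (CommRingCat.of Ω) ⟶ S)

/-- The category of neighbourhoods of a geometric point. -/
abbrev Nbhd : Type (u + 1) := (Scheme.pointSmallEtale ξ).fiber.Elements

/-- Every neighbourhood contains an affine one. -/
lemma exists_affine_nbhd_le (e : Nbhd ξ) :
    ∃ e' : Nbhd ξ, IsAffine e'.1.left ∧ Nonempty (e' ⟶ e) := by
  obtain ⟨U, t⟩ := e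
  obtain ⟨_, ⟨W, hW, rfl⟩, hmem, -⟩ := U.left.isBasis_affineOpens.exists_subset_of_mem_open
    (Set.mem_univ (fiberPoint ξ t)) isOpen_univ
  obtain ⟨s, hs⟩ := exists_openLift ξ t W hmem
  exact ⟨⟨openObj U W, s⟩, hW, ⟨⟨openHom U W, hs⟩⟩⟩

/-- There is a directed final system of affine neighbourhoods. -/
theorem exists_affine_system :
    ∃ (ι : Type u) (_ : PartialOrder ι) (_ : IsDirectedOrder ι) (_ : Nonempty ι)
      (K : ι ⥤ (Nbhd ξ)ᵒᵖ), K.Final ∧ ∀ i, IsAffine (K.obj i).unop.1.left := by
  let P : ObjectProperty (Nbhd ξ) := fun e => IsAffine e.1.left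
  have hP : ∀ e : Nbhd ξ, ∃ d : P.FullSubcategory, Nonempty (P.ι.obj d ⟶ e) := fun e =>
    let ⟨e', h, hh⟩ := exists_affine_nbhd_le ξ e
    ⟨⟨e', h⟩, hh⟩
  have : IsCofiltered P.FullSubcategory :=
    IsCofiltered.of_exists_of_isCofiltered_of_fullyFaithful P.ι hP
  have : P.ι.Initial := Functor.initial_of_exists_of_isCofiltered_of_fullyFaithful P.ι hP
  have : InitiallySmall.{u} P.FullSubcategory := by
    obtain ⟨s, _, hs⟩ := InitiallySmall.exists_small_weakly_initial_set.{u} (Nbhd ξ)
    choose d hd using hP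
    refine initiallySmall_of_small_weakly_initial_set (Set.range fun i : s => d i.1) fun x => ?_
    obtain ⟨i, hi, ⟨m⟩⟩ := hs x.obj
    obtain ⟨m'⟩ := hd i
    exact ⟨_, ⟨⟨i, hi⟩, rfl⟩, ⟨ObjectProperty.homMk (m' ≫ m)⟩⟩
  obtain ⟨D, _, _, F, _⟩ := InitiallySmall.exists_of_isCofiltered.{u} P.FullSubcategory
  obtain ⟨ι, _, h, _, G, _⟩ := IsFiltered.exists_directed.{u} Dᵒᵖ
  refine ⟨ι, inferInstance, ⟨fun a b => h.directed a b⟩, inferInstance, G ⋙ F.op ⋙ P.ι.op,
    inferInstance, fun i => ((F.obj (G.obj i).unop)).property⟩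

variable {ι : Type u} [Preorder ι] (K : ι ⥤ (Nbhd ξ)ᵒᵖ)

/-- The étale schemes of a system of neighbourhoods. -/
noncomputable abbrev nbhdSystem : ιᵒᵖ ⥤ S.Etale := K.leftOp ⋙ CategoryOfElements.π _

/-- The rings of functions. -/
noncomputable abbrev nbhdRings : ι ⥤ CommRingCat.{u} :=
  K ⋙ (CategoryOfElements.π (Scheme.pointSmallEtale ξ).fiber).op ⋙ EtBase.OO S

/-- The germs form a cocone. -/
noncomputable abbrev nbhdCocone : Cocone (nbhdRings ξ K) :=
  ((Scheme.pointSmallEtale ξ).presheafFiberCocone (EtBase.OO S)).whisker K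

variable [hK : ∀ i, IsAffine (K.obj i).unop.1.left]

/-- An affine neighbourhood is the spectrum of its ring of functions. -/
noncomputable def nbhdSpecIso :
    (nbhdRings ξ K).op ⋙ Scheme.Spec ≅ nbhdSystem ξ K ⋙ Scheme.Etale.forget S ⋙ Over.forget S :=
  NatIso.ofComponents (fun p => (K.obj p.unop).unop.1.left.isoSpec.symm) (fun {p q} f => by
    show Spec.map ((K.map f.unop).unop.1.left.appTop) ≫ _ = _ ≫ (K.map f.unop).unop.1.left
    rw [Iso.symm_hom, Iso.symm_hom, Iso.comp_inv_eq, Category.assoc, Iso.eq_inv_comp]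
    exact (Scheme.toSpecΓ_naturality _).symm)

/-- The cone with vertex the spectrum of the étale local ring. -/
noncomputable def localCone : Cone (nbhdSystem ξ K ⋙ Scheme.Etale.forget S ⋙ Over.forget S) :=
  (Cone.postcompose (nbhdSpecIso ξ K).hom).obj (Scheme.Spec.mapCone (nbhdCocone ξ K).op)

/-- It is a limit cone. -/
noncomputable def isLimitLocalCone [K.Final] : IsLimit (localCone ξ K) :=
  (IsLimit.postcomposeHomEquiv _ _).symm (isLimitOfPreserves Scheme.Spec
    (((Functor.Final.isColimitWhiskerEquiv K _).symm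
      ((Scheme.pointSmallEtale ξ).isColimitPresheafFiberCocone (EtBase.OO S))).op))

/-- The vertex maps to `S` through the local ring. -/
lemma localCone_hom (i : ι) :
    (localCone ξ K).π.app (op i) ≫ ((nbhdSystem ξ K).obj (op i)).hom =
      Spec.map (toEtale ξ) ≫ S.fromSpecStalk (ξ default) := by
  let U := (K.obj i).unop.1
  let t := (K.obj i).unop.2
  have hproj : (localCone ξ K).π.app (op i) =
      Spec.map (gm ξ U t) ≫ U.left.isoSpec.inv := rfl
  have h1 : Spec.map (gm ξ U t) ≫ U.left.isoSpec.inv =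
      Spec.map (stalkTo ξ t) ≫ U.left.fromSpecStalk (fiberPoint ξ t) := by
    rw [← germ_top_stalkTo ξ t, Spec.map_comp, Category.assoc]
    refine congrArg (_ ≫ ·) ?_
    rw [Iso.comp_inv_eq]
    exact (Scheme.fromSpecStalk_toSpecΓ _ _).symm
  refine (congrArg (· ≫ U.hom) (hproj.trans h1)).trans ((Category.assoc _ _ _).trans ?_)
  rw [← toNbhd_stalkTo ξ t, Spec.map_comp, Category.assoc]
  refine congrArg (_ ≫ ·) ?_
  refine (Scheme.SpecMap_stalkMap_fromSpecStalk U.hom).symm.trans ?_
  rw [toNbhd, Spec.map_comp, Category.assoc]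
  exact congrArg (_ ≫ ·)
    (Scheme.SpecMap_stalkSpecializes_fromSpecStalk (specializes_of_eq (hom_fiberPoint ξ t))).symm

omit hK

/-- Two strict henselizations are isomorphic. -/
lemma exists_ringEquiv_of_isStrictHenselization (A : Type u) [CommRing A] [IsLocalRing A]
    (R R' : Type u) [CommRing R] [IsLocalRing R] [Algebra A R] [IsLocalHom (algebraMap A R)]
    [hR : Hensel.IsStrictHenselization A R] [CommRing R'] [IsLocalRing R'] [Algebra A R']
    [IsLocalHom (algebraMap A R')] [hR' : Hensel.IsStrictHenselization A R'] :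
    ∃ e : R ≃+* R', e.toRingHom.comp (algebraMap A R) = algebraMap A R' := by
  have := hR.henselian
  have := hR'.henselian
  have := hR.isSepClosure
  have := hR'.isSepClosure
  let τ := IsSepClosure.equiv (ResidueField A) (ResidueField R) (ResidueField R')
  obtain ⟨g, ⟨hg, hgr⟩, -⟩ := hR.universal R' (algebraMap A R') τ.toRingEquiv.toRingHom
    (RingHom.ext fun x => τ.commutes x)
  obtain ⟨h, ⟨hh, hhr⟩, -⟩ := hR'.universal R (algebraMap A R) τ.symm.toRingEquiv.toRingHom
    (RingHom.ext fun x => τ.symm.commutes x)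
  obtain ⟨i, -, hi⟩ := hR.universal R (algebraMap A R) (RingHom.id _) (RingHom.ext fun _ => rfl)
  obtain ⟨i', -, hi'⟩ := hR'.universal R' (algebraMap A R') (RingHom.id _) (RingHom.ext fun _ => rfl)
  have e1 : h.comp g = RingHom.id R :=
    (hi _ ⟨by rw [RingHom.comp_assoc, hg, hh], fun x => by
      rw [RingHom.comp_apply, hhr, hgr]; exact τ.symm_apply_apply _⟩).trans
      (hi _ ⟨RingHom.id_comp _, fun _ => rfl⟩).symm
  have e2 : g.comp h = RingHom.id R' :=
    (hi' _ ⟨by rw [RingHom.comp_assoc, hh, hg], fun x => by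
      rw [RingHom.comp_apply, hgr, hhr]; exact τ.apply_symm_apply _⟩).trans
      (hi' _ ⟨RingHom.id_comp _, fun _ => rfl⟩).symm
  exact ⟨RingEquiv.ofRingHom g h e2 e1, hg⟩

lemma exists_iso_of_eq {y s : S} (hy : y = s) (R : Type u) [CommRing R] [IsLocalRing R]
    [Algebra (S.presheaf.stalk s) R] [IsLocalHom (algebraMap (S.presheaf.stalk s) R)]
    [Hensel.IsStrictHenselization (S.presheaf.stalk s) R] (R' : Type u) [CommRing R'] [IsLocalRing R']
    [Algebra (S.presheaf.stalk y) R'] [IsLocalHom (algebraMap (S.presheaf.stalk y) R')]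
    [Hensel.IsStrictHenselization (S.presheaf.stalk y) R'] :
    ∃ e : Spec (CommRingCat.of R) ⟶ Spec (CommRingCat.of R'), IsIso e ∧
      e ≫ Spec.map (CommRingCat.ofHom (algebraMap (S.presheaf.stalk y) R')) ≫ S.fromSpecStalk y =
        Hens2.specOf S s R := by
  subst hy
  obtain ⟨e, he⟩ := exists_ringEquiv_of_isStrictHenselization (S.presheaf.stalk y) R' R
  refine ⟨Spec.map e.toCommRingCatIso.hom, inferInstance, ?_⟩
  rw [← Category.assoc, ← Spec.map_comp]
  refine congrArg (fun m => Spec.map m ≫ S.fromSpecStalk y) ?_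
  exact CommRingCat.hom_ext he

variable (s : S) (R : Type u) [CommRing R] [IsLocalRing R]
  [Algebra (S.presheaf.stalk s) R] [IsLocalHom (algebraMap (S.presheaf.stalk s) R)]
  [Hensel.IsStrictHenselization (S.presheaf.stalk s) R] [IsSepClosed (ResidueField R)]

/-- The strict localization is the spectrum of the étale local ring. -/
theorem exists_iso_etaleLocalRing :
    ∃ e : Spec (CommRingCat.of R) ⟶ Spec (EtBase.etaleLocalRing (Hens2.geomPt S s R)), IsIso e ∧
      e ≫ Spec.map (toEtale (Hens2.geomPt S s R)) ≫ S.fromSpecStalk (Hens2.geomPt S s R default) =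
        Hens2.specOf S s R := by
  have hy : Hens2.geomPt S s R default = s := by
    rw [Scheme.Hom.comp_apply, Scheme.Hom.comp_apply]
    have h1 : (Spec.map (CommRingCat.ofHom (residue R))).base default = closedPoint R := by
      rw [show (default : Spec (CommRingCat.of (ResidueField R))) = closedPoint (ResidueField R) from
        Subsingleton.elim _ _]
      exact comap_closedPoint (residue R)
    rw [h1]
    show S.fromSpecStalk s ((Spec.map (CommRingCat.ofHom (algebraMap (S.presheaf.stalk s) R))).base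
      (closedPoint R)) = s
    rw [show (Spec.map (CommRingCat.ofHom (algebraMap (S.presheaf.stalk s) R))).base (closedPoint R) =
      closedPoint (S.presheaf.stalk s) from comap_closedPoint (algebraMap (S.presheaf.stalk s) R)]
    exact Scheme.fromSpecStalk_closedPoint
  letI := (toEtale (Hens2.geomPt S s R)).hom.toAlgebra
  obtain ⟨_, _⟩ := Groth.AlgSpEt.StrictHens.isStrictHenselization (Hens2.geomPt S s R)
  exact exists_iso_of_eq hy R (EtBase.etaleLocalRing (Hens2.geomPt S s R))

end Groth.EtaleBase.EtLimit
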