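import Groth.Agent.EtaleBase.Limit.EtaleSystem
import Groth.Agent.EtaleBase.Limit.StrictLocalization
import Groth.Agent.EtaleBase.PullStalk
import Groth.Agent.LocCohZBase.ExtDerived
import Groth.Agent.SiteCohomology.CohomologyPresheafNat
import Groth.Agent.SitesTopoi.Mod.AcyclicComp
import Mathlib.CategoryTheory.Limits.Final
import Mathlib.AlgebraicGeometry.Morphisms.QuasiSeparated

/-!
The stalk of a higher direct image is the cohomology of the base change to the strict localization,
naturally in the sheaf.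
-/

set_option autoImplicit false

universe u

open CategoryTheory CategoryTheory.Limits CategoryTheory.Abelian AlgebraicGeometry Opposite

namespace Groth.EtaleBase.EtLimit

section BaseChange

variable {X S : Scheme.{u}} (f : X ⟶ S) {ι : Type u} [Preorder ι] (V : ιᵒᵖ ⥤ S.Etale)

instance isAffineHom_bc [∀ p, IsAffine (V.obj p).left] (p q : ιᵒᵖ) (h : p ⟶ q) :
    IsAffineHom ((schemes (V ⋙ EtCoh.bc f)).map h) := by
  haveI : IsAffineHom (V.map h).left := isAffineHom_of_isAffine _
  exact MorphismProperty.of_isPullback (P := @IsAffineHom) (EtCoh.isPullback_bc_map f (V.map h)).flip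
    inferInstance

omit [Preorder ι] in
lemma compactSpace_pullback' {A : Scheme.{u}} (h : A ⟶ S) [IsAffine A] [QuasiCompact f] :
    CompactSpace ↥(pullback h f) :=
  QuasiCompact.compactSpace_of_compactSpace (pullback.fst h f)

omit [Preorder ι] in
lemma quasiSeparatedSpace_pullback' {A : Scheme.{u}} (h : A ⟶ S) [IsAffine A] [QuasiSeparated f] :
    QuasiSeparatedSpace ↥(pullback h f) :=
  quasiSeparatedSpace_of_quasiSeparated (pullback.fst h f)

instance compactSpace_bc' [QuasiCompact f] [∀ p, IsAffine (V.obj p).left] (p : ιᵒᵖ) :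
    CompactSpace ↥((schemes (V ⋙ EtCoh.bc f)).obj p) :=
  @compactSpace_pullback' X S f (V.obj p).left (V.obj p).hom inferInstance inferInstance

instance quasiSeparatedSpace_bc' [QuasiSeparated f] [∀ p, IsAffine (V.obj p).left] (p : ιᵒᵖ) :
    QuasiSeparatedSpace ↥((schemes (V ⋙ EtCoh.bc f)).obj p) :=
  @quasiSeparatedSpace_pullback' X S f (V.obj p).left (V.obj p).hom inferInstance inferInstance

variable (cV : Cone (schemes V)) (σ : cV.pt ⟶ S) (hσ : ∀ j, cV.π.app (op j) ≫ struct V j = σ)

/-- The base change of a cone. -/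
noncomputable def bcCone : Cone (schemes (V ⋙ EtCoh.bc f)) where
  pt := pullback f σ
  π :=
    { app := fun p => pullback.lift (pullback.snd f σ ≫ cV.π.app p) (pullback.fst f σ)
        ((Category.assoc _ _ _).trans ((congrArg (_ ≫ ·) (hσ p.unop)).trans pullback.condition.symm))
      naturality := fun p q h => by
        refine (Category.id_comp _).trans (pullback.hom_ext ?_ ?_)
        · refine (pullback.lift_fst _ _ _).trans ?_
          refine Eq.trans ?_ (((Category.assoc _ _ _).trans (congrArg (_ ≫ ·)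
            (EtCoh.isPullback_bc_map f (V.map h)).w)).trans
            ((Category.assoc _ _ _).symm.trans (congrArg (· ≫ (V.map h).left) (pullback.lift_fst _ _ _)))).symm
          exact (congrArg (_ ≫ ·) (cV.w h).symm).trans (Category.assoc _ _ _).symm
        · exact (pullback.lift_snd _ _ _).trans (((Category.assoc _ _ _).trans
            ((congrArg (_ ≫ ·) (MorphismProperty.Over.w ((EtCoh.bc f).map (V.map h)))).trans
              (pullback.lift_snd _ _ _)))).symm }

lemma bcCone_struct (j : ι) :
    (bcCone f V cV σ hσ).π.app (op j) ≫ struct (V ⋙ EtCoh.bc f) j = pullback.fst f σ :=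
  pullback.lift_snd _ _ _

/-- The base change of a limit cone is a limit cone. -/
noncomputable def isLimitBcCone [Nonempty ι] [IsDirectedOrder ι] (hc : IsLimit cV) :
    IsLimit (bcCone f V cV σ hσ) := by
  let tV : ∀ s : Cone (schemes (V ⋙ EtCoh.bc f)), Cone (schemes V) := fun s =>
    { pt := s.pt
      π :=
        { app := fun p => s.π.app p ≫ pullback.fst (V.obj p).hom f
          naturality := fun p q h => by
            refine (Category.id_comp _).trans ((congrArg (· ≫ _) (s.w h).symm).trans ?_)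
            exact (Category.assoc _ _ _).trans ((congrArg (_ ≫ ·)
              (EtCoh.isPullback_bc_map f (V.map h)).w).trans (Category.assoc _ _ _).symm) } }
  have htop : ∀ (s : Cone (schemes (V ⋙ EtCoh.bc f))) (i j : ι),
      s.π.app (op i) ≫ pullback.snd (V.obj (op i)).hom f =
        s.π.app (op j) ≫ pullback.snd (V.obj (op j)).hom f := by
    intro s i j
    obtain ⟨k, hi, hj⟩ := exists_ge_ge i j
    have key : ∀ (l : ι) (h : l ≤ k), s.π.app (op l) ≫ pullback.snd (V.obj (op l)).hom f =
        s.π.app (op k) ≫ pullback.snd (V.obj (op k)).hom f := fun l h =>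
      (congrArg (· ≫ _) (s.w (homOfLE h).op).symm).trans ((Category.assoc _ _ _).trans
        (congrArg (_ ≫ ·) (trn_struct (V ⋙ EtCoh.bc f) h)))
    exact (key i hi).trans (key j hj).symm
  let i₀ : ι := Classical.arbitrary ι
  refine
    { lift := fun s => pullback.lift (s.π.app (op i₀) ≫ pullback.snd (V.obj (op i₀)).hom f)
        (hc.lift (tV s)) ?_
      fac := fun s p => ?_
      uniq := fun s m hm => ?_ }
  · calc (s.π.app (op i₀) ≫ pullback.snd (V.obj (op i₀)).hom f) ≫ f
        = (s.π.app (op i₀) ≫ pullback.fst (V.obj (op i₀)).hom f) ≫ (V.obj (op i₀)).hom :=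
          (Category.assoc _ _ _).trans ((congrArg (_ ≫ ·) pullback.condition.symm).trans
            (Category.assoc _ _ _).symm)
      _ = hc.lift (tV s) ≫ σ :=
          ((congrArg (· ≫ _) (hc.fac (tV s) (op i₀))).symm.trans (Category.assoc _ _ _)).trans
            (congrArg (_ ≫ ·) (hσ i₀))
  · obtain ⟨i⟩ := p
    refine pullback.hom_ext ?_ ?_
    · refine (Category.assoc _ _ _).trans ((congrArg (_ ≫ ·) (pullback.lift_fst _ _ _)).trans ?_)
      exact (Category.assoc _ _ _).symm.trans ((congrArg (· ≫ _) (pullback.lift_snd _ _ _)).trans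
        (hc.fac (tV s) (op i)))
    · exact ((Category.assoc _ _ _).trans ((congrArg (_ ≫ ·) (pullback.lift_snd _ _ _)).trans
        (pullback.lift_fst _ _ _))).trans (htop s i₀ i)
  · refine pullback.hom_ext ?_ ?_
    · refine Eq.trans ?_ (pullback.lift_fst _ _ _).symm
      exact ((congrArg (· ≫ _) (hm (op i₀))).symm.trans ((Category.assoc _ _ _).trans
        (congrArg (m ≫ ·) (pullback.lift_snd _ _ _)))).symm
    · refine Eq.trans ?_ (pullback.lift_snd _ _ _).symm
      refine hc.hom_ext fun p => ?_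
      refine Eq.trans ?_ (hc.fac (tV s) p).symm
      exact ((congrArg (· ≫ _) (hm p)).symm.trans ((Category.assoc _ _ _).trans
        ((congrArg (m ≫ ·) (pullback.lift_fst _ _ _)).trans (Category.assoc _ _ _).symm))).symm

end BaseChange

section Degree0

variable {X : Scheme.{u}} {ι : Type u} [Preorder ι] [Nonempty ι] [IsDirectedOrder ι]
  (W : ιᵒᵖ ⥤ X.Etale)

/-- The sections on the members. -/
noncomputable abbrev evalSys : EtCoh.Ab X ⥤ (ι ⥤ AddCommGrpCat.{u + 1}) :=
  sheafToPresheaf _ _ ⋙ (Functor.whiskeringLeft _ _ _).obj W.rightOp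

/-- Global sections as morphisms from the constant sheaf. -/
noncomputable abbrev homConst (Y : Scheme.{u}) : EtCoh.Ab Y ⥤ AddCommGrpCat.{u + 1} :=
  Groth.LocCohZBase.ExtDerived.homF (EtCoh.const Y ℤ)

/-- Global sections. -/
noncomputable def homConstIso (Y : Scheme.{u}) (F : EtCoh.Ab Y) :
    (homConst Y).obj F ≅ F.obj.obj (op (EtCoh.top Y)) :=
  AddEquiv.toAddCommGrpIso ((Ext.addEquiv₀ (X := EtCoh.const Y ℤ) (Y := F)).symm.trans (gs F))

lemma homConstIso_natural {Y : Scheme.{u}} {F G : EtCoh.Ab Y} (φ : F ⟶ G) :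
    (homConst Y).map φ ≫ (homConstIso Y G).hom = (homConstIso Y F).hom ≫ φ.hom.app (op (EtCoh.top Y)) := by
  ext x
  show gs G (Ext.mk₀ (x ≫ φ)) = φ.hom.app _ (gs F (Ext.mk₀ x))
  rw [← gs_map, Ext.mk₀_comp_mk₀]

variable (c : Cone (schemes W)) (g : c.pt ⟶ X)
  (hg : ∀ j, proj (schemes W) c j ≫ struct W j = g)

/-- The comparison of the colimit of sections with global sections on the limit. -/
noncomputable def toLimit :
    evalSys W ⋙ colim ⟶ EtCoh.pull g ⋙ homConst c.pt where
  app F := colimit.desc _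
    { pt := (homConst c.pt).obj ((EtCoh.pull g).obj F)
      ι :=
        { app := fun j => sectTo W c g hg j F ≫ (homConstIso c.pt _).inv
          naturality := fun j k h => by
            refine Eq.trans ?_ (Category.comp_id _).symm
            refine (Category.assoc _ _ _).symm.trans (congrArg (· ≫ _) ?_)
            ext y
            exact sectTo_res W c g hg h.le F y } }
  naturality F G φ := by
    refine colimit.hom_ext fun j => ?_
    refine ((Category.assoc _ _ _).symm.trans ((congrArg (· ≫ _) (ι_colimMap _ _)).trans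
      ((Category.assoc _ _ _).trans (congrArg (_ ≫ ·) (colimit.ι_desc _ _))))).trans ?_
    refine Eq.trans ?_ (((Category.assoc _ _ _).symm.trans
      (congrArg (· ≫ _) (colimit.ι_desc _ _))).trans (Category.assoc _ _ _)).symm
    show φ.hom.app (op (W.obj (op j))) ≫ sectTo W c g hg j G ≫ _ =
      sectTo W c g hg j F ≫ (homConstIso c.pt _).inv ≫ (homConst c.pt).map ((EtCoh.pull g).map φ)
    have h1 : (homConstIso c.pt _).inv ≫ (homConst c.pt).map ((EtCoh.pull g).map φ) =
        ((EtCoh.pull g).map φ).hom.app (op (EtCoh.top c.pt)) ≫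
          (homConstIso c.pt ((EtCoh.pull g).obj G)).inv := by
      rw [Iso.eq_comp_inv, Category.assoc, homConstIso_natural, Iso.inv_hom_id_assoc]
    rw [h1, ← Category.assoc, ← Category.assoc]
    refine congrArg (· ≫ _) ?_
    ext y
    exact sectTo_map W c g hg j φ y

variable [∀ (p q : ιᵒᵖ) (h : p ⟶ q), IsAffineHom ((schemes W).map h)]
  [∀ p, CompactSpace ↥((schemes W).obj p)] [∀ p, QuasiSeparatedSpace ↥((schemes W).obj p)]
  (hc : IsLimit c)

include hc in
lemma isIso_toLimit : IsIso (toLimit W c g hg) := by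
  haveI : ∀ F, IsIso ((toLimit W c g hg).app F) := fun F => by
    rw [ConcreteCategory.isIso_iff_bijective]
    have hι : ∀ (j : ι) (y : F.obj.obj (op (W.obj (op j)))),
        (toLimit W c g hg).app F (colimit.ι ((evalSys W).obj F) j y) =
          (homConstIso c.pt _).inv (sectTo W c g hg j F y) := fun j y =>
      (ConcreteCategory.comp_apply _ _ _).symm.trans
        ((ConcreteCategory.congr_hom (colimit.ι_desc (F := (evalSys W).obj F) _ j) y).trans rfl)
    have hinj : Function.Injective (homConstIso c.pt ((EtCoh.pull g).obj F)).inv :=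
      ((ConcreteCategory.isIso_iff_bijective _).1 inferInstance).1
    refine ⟨(injective_iff_map_eq_zero _).2 fun x hx => ?_, fun s => ?_⟩
    · obtain ⟨j, y, rfl⟩ := Concrete.colimit_exists_rep ((evalSys W).obj F) x
      have h0 : sectTo W c g hg j F y = 0 :=
        hinj ((hι j y).symm.trans (hx.trans (map_zero _).symm))
      obtain ⟨k, h, hk⟩ := exists_sectTo_eq_zero W c g hg hc F j y h0
      rw [← colimit.w ((evalSys W).obj F) (homOfLE h), ConcreteCategory.comp_apply]
      exact (congrArg _ hk).trans (map_zero _)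
    · obtain ⟨j, y, hy⟩ := exists_sectTo_eq W c g hg hc F ((homConstIso c.pt _).hom s)
      refine ⟨colimit.ι ((evalSys W).obj F) j y, ?_⟩
      rw [hι, hy]
      exact (ConcreteCategory.congr_hom (homConstIso c.pt _).hom_inv_id s)
  exact NatIso.isIso_of_isIso_app _

end Degree0

section Final

variable {X S : Scheme.{u}} (f : X ⟶ S) {Ω : Type u} [Field Ω] [IsSepClosed Ω]
  (ξ : Spec (CommRingCat.of Ω) ⟶ S) {ι : Type u} [Preorder ι] (K : ι ⥤ (Nbhd ξ)ᵒᵖ) [K.Final]

/-- The stalk of a direct image as a colimit over a final system. -/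
noncomputable def stalkPushIso :
    EtCoh.push f ⋙ EtCoh.stalk ξ ≅ evalSys (nbhdSystem ξ K ⋙ EtCoh.bc f) ⋙ colim :=
  Functor.isoWhiskerLeft (EtCoh.push f ⋙ sheafToPresheaf _ _ ⋙
      (Functor.whiskeringLeft _ _ _).obj (CategoryOfElements.π (Scheme.pointSmallEtale ξ).fiber).op)
    (Functor.Final.colimIso K).symm ≪≫
  Functor.isoWhiskerRight (NatIso.ofComponents (fun _ => NatIso.ofComponents (fun _ => Iso.refl _)
    (fun _ => (Category.comp_id _).trans (Category.id_comp _).symm))
    (fun φ => by ext i : 2; exact (Category.comp_id _).trans (Category.id_comp _).symm) :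
      (EtCoh.push f ⋙ sheafToPresheaf _ _ ⋙
        (Functor.whiskeringLeft _ _ _).obj (CategoryOfElements.π (Scheme.pointSmallEtale ξ).fiber).op) ⋙
        (Functor.whiskeringLeft _ _ AddCommGrpCat.{u + 1}).obj K ≅
      evalSys (nbhdSystem ξ K ⋙ EtCoh.bc f)) colim

end Final

/-- A functor isomorphism induces one of derived functors. -/
noncomputable def rightDerivedIso {C : Type*} [Category C] [Abelian C] [HasInjectiveResolutions C]
    {D : Type*} [Category D] [Abelian D] {F G : C ⥤ D} [F.Additive] [G.Additive] (e : F ≅ G) (n : ℕ) :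
    F.rightDerived n ≅ G.rightDerived n where
  hom := NatTrans.rightDerived e.hom n
  inv := NatTrans.rightDerived e.inv n
  hom_inv_id := by rw [← NatTrans.rightDerived_comp, e.hom_inv_id, NatTrans.rightDerived_id]
  inv_hom_id := by rw [← NatTrans.rightDerived_comp, e.inv_hom_id, NatTrans.rightDerived_id]

/-- Ext groups out of the constant sheaf are cohomology. -/
noncomputable def extConstIso (Y : Scheme.{u}) (n : ℕ) :
    (extFunctor n).obj (op (EtCoh.const Y ℤ)) ≅ EtCoh.HF Y n :=
  NatIso.ofComponents (fun _ => Iso.refl _) fun _ => (Category.comp_id _).trans (Category.id_comp _).symm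

set_option synthInstance.maxHeartbeats 400000 in
/-- The stalk of the higher direct image, as a functor of the sheaf, is the cohomology of the base
change to the strict localization. -/
theorem nonempty_stalk_Rpush_iso {X S : Scheme.{u}} (f : X ⟶ S) [QuasiCompact f] [QuasiSeparated f]
    {Ω : Type u} [Field Ω] [IsSepClosed Ω] (ξ : Spec (CommRingCat.of Ω) ⟶ S)
    {T : Scheme.{u}} (σ : T ⟶ S) (e : T ⟶ Spec (EtBase.etaleLocalRing ξ)) [IsIso e]
    (he : e ≫ Spec.map (Groth.AlgSpEt.StrictLocal.toEtale ξ) ≫ S.fromSpecStalk (ξ default) = σ)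
    (n : ℕ) :
    Nonempty (EtCoh.Rpush f n ⋙ EtCoh.stalk ξ ≅
      EtCoh.pull (pullback.fst f σ) ⋙ EtCoh.HF (pullback f σ) n) := by
  obtain ⟨ι, _, _, _, K, _, hK⟩ := exists_affine_system ξ
  let V := nbhdSystem ξ K
  haveI : ∀ p, IsAffine (V.obj p).left := fun p => hK p.unop
  let cV : Cone (schemes V) := (localCone ξ K).extend e
  let hcV : IsLimit cV := @IsLimit.extendIso _ _ _ _ _ _ _ e ‹IsIso e› (isLimitLocalCone ξ K)
  have hσ : ∀ j, cV.π.app (op j) ≫ struct V j = σ := fun j =>
    (Category.assoc _ _ _).trans ((congrArg (e ≫ ·) (localCone_hom ξ K j)).trans he)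
  let c := bcCone f V cV σ hσ
  let hc : IsLimit c := isLimitBcCone f V cV σ hσ hcV
  let g : c.pt ⟶ X := pullback.fst f σ
  have hg : ∀ j, proj (schemes (V ⋙ EtCoh.bc f)) c j ≫ struct (V ⋙ EtCoh.bc f) j = g :=
    bcCone_struct f V cV σ hσ
  haveI := isIso_toLimit (V ⋙ EtCoh.bc f) c g hg hc
  let α : EtCoh.push f ⋙ EtCoh.stalk ξ ≅ EtCoh.pull g ⋙ homConst c.pt :=
    stalkPushIso f ξ K ≪≫ asIso (toLimit (V ⋙ EtCoh.bc f) c g hg)
  haveI : (EtCoh.pull g).Additive := (EtCoh.pullPushAdj g).left_adjoint_additive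
  haveI : PreservesFiniteColimits (EtCoh.pull g) :=
    (EtCoh.pullPushAdj g).leftAdjoint_preservesColimits.{0, 0}.preservesFiniteColimits
  have hA : ∀ I : EtCoh.Ab X, Injective I →
      Groth.CohFin.RightAcyclic (homConst c.pt) ((EtCoh.pull g).obj I) := fun I hI j => by
    haveI := hI
    haveI := H_pull_injective (V ⋙ EtCoh.bc f) c g hg hc I j
    exact IsZero.of_iso
      (AddCommGrpCat.isZero_of_subsingleton (AddCommGrpCat.of (EtCoh.H c.pt ((EtCoh.pull g).obj I) (j + 1))))
      ((Groth.LocCohZBase.ExtDerived.derivedIso (EtCoh.const c.pt ℤ) (j + 1)).app _)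
  obtain ⟨β⟩ := Groth.SitesTopoi.AcyclicComp.nonempty_rightDerived_comp (homConst c.pt) (EtCoh.pull g)
    hA n
  exact ⟨(Groth.SiteCohomology.rightDerivedCompExactIso (EtCoh.push f) (EtCoh.stalk ξ) n).symm ≪≫
    rightDerivedIso α n ≪≫ β ≪≫ Functor.isoWhiskerLeft (EtCoh.pull g)
      (Groth.LocCohZBase.ExtDerived.derivedIso (EtCoh.const c.pt ℤ) n ≪≫ extConstIso c.pt n)⟩

end Groth.EtaleBase.EtLimit
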