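import Groth.Agent.S3884
import Groth.Agent.EtaleBase.PullStalk
import Groth.Agent.EtaleBase.DisjointGlue
import Mathlib.CategoryTheory.Presentable.Directed
import Mathlib.CategoryTheory.Limits.Final
import Mathlib.GroupTheory.OrderOfElement

/-!
Direct images of torsion sheaves under affine morphisms are torsion; cohomological dimension of limits.
-/

set_option autoImplicit false

universe u

open CategoryTheory CategoryTheory.Limits AlgebraicGeometry Opposite

namespace Groth.EtaleBase.EtLimit

/-- A section of a torsion sheaf over a quasi-compact étale scheme has finite order. -/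
lemma isOfFinAddOrder_of_isTorsion {X : Scheme.{u}} {F : EtCoh.Ab X} (hF : EtCoh.IsTorsion F) (U : X.Etale)
    [CompactSpace ↥U.left] (s : EtCoh.sect F U) : IsOfFinAddOrder s := by
  classical
  choose V g hg hfin using hF U s
  obtain ⟨t, ht⟩ := isCompact_univ.elim_finite_subcover
    (fun x => Set.range (g x).left.base)
    (fun x => by
      haveI : AlgebraicGeometry.Etale (g x).left :=
        MorphismProperty.of_postcomp @AlgebraicGeometry.Etale _ U.hom U.prop
          (by rw [MorphismProperty.Over.w]; exact (V x).prop)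
      exact (g x).left.isOpenMap.isOpen_range)
    (fun x _ => Set.mem_iUnion.2 ⟨x, hg x⟩)
  let m : ↥U.left → ℕ := fun x => addOrderOf (F.obj.map (g x).op s)
  refine isOfFinAddOrder_iff_nsmul_eq_zero.2 ⟨∏ x ∈ t, m x,
    Finset.prod_pos fun x _ => (hfin x).addOrderOf_pos, ?_⟩
  refine section_eq_zero_of_germs F U _ fun u => ?_
  obtain ⟨x, hx, hu⟩ := Set.mem_iUnion₂.1 (ht (Set.mem_univ u))
  refine ⟨V x, g x, hu, ?_⟩
  rw [map_nsmul, ← addOrderOf_dvd_iff_nsmul_eq_zero]
  exact Finset.dvd_prod_of_mem _ hx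

lemma compactSpace_pullback_affineHom {X Y Z : Scheme.{u}} (p : X ⟶ Y) [IsAffineHom p] {W : Z.Opens}
    (h : W.toScheme ⟶ Y) (hW : IsAffineOpen W) : CompactSpace ↥(pullback h p) :=
  haveI : IsAffine W.toScheme := hW
  haveI : IsAffineHom (pullback.fst h p) := MorphismProperty.pullback_fst _ _ inferInstance
  QuasiCompact.compactSpace_of_compactSpace (pullback.fst h p)

/-- The direct image of a torsion sheaf under an affine morphism is torsion. -/
theorem isTorsion_push {X Y : Scheme.{u}} (p : X ⟶ Y) [IsAffineHom p] {F : EtCoh.Ab X}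
    (hF : EtCoh.IsTorsion F) : EtCoh.IsTorsion ((EtCoh.push p).obj F) := by
  intro U s x
  obtain ⟨_, ⟨W, hW, rfl⟩, hx, -⟩ := U.left.isBasis_affineOpens.exists_subset_of_mem_open
    (Set.mem_univ x) isOpen_univ
  haveI : CompactSpace ↥((EtCoh.bc p).obj (openObj U W)).left :=
    compactSpace_pullback_affineHom p _ hW
  exact ⟨openObj U W, openHom U W, ⟨⟨x, hx⟩, rfl⟩, isOfFinAddOrder_of_isTorsion hF _ _⟩

/-- Cohomological dimension passes to limits with affine transition morphisms. -/
theorem cohDimLE_limit {I : Type u} [SmallCategory I] [IsCofiltered I] (D : I ⥤ Scheme.{u})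
    [∀ {i j : I} (a : i ⟶ j), IsAffineHom (D.map a)]
    [∀ i, CompactSpace (D.obj i)] [∀ i, QuasiSeparatedSpace (D.obj i)]
    (c : Cone D) (hc : IsLimit c) (d : ℕ) (h : ∀ i, EtCoh.CohDimLE (D.obj i) d) :
    EtCoh.CohDimLE c.pt d := by
  obtain ⟨α, _, hd, _, G, _⟩ := IsFiltered.exists_directed.{u} Iᵒᵖ
  haveI : G.leftOp.Initial := inferInstance
  let c' := c.whisker G.leftOp
  have hc' : IsLimit c' := (Functor.Initial.isLimitWhiskerEquiv G.leftOp c).symm hc
  intro F hF q hq
  refine subsingleton_of_forall_eq 0 fun ξ => ?_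
  obtain ⟨j, ξj, hj⟩ := (Groth.Agent.S3884.result (G.leftOp ⋙ D) (fun _ _ _ => inferInstanceAs (IsAffineHom (D.map _)))
    (fun a => inferInstanceAs (CompactSpace ↥(D.obj _))) (fun a => inferInstanceAs (QuasiSeparatedSpace ↥(D.obj _)))
    c' hc' F q).1 ξ
  haveI : IsAffineHom (c'.π.app (op j)) :=
    haveI : ∀ {a b : αᵒᵖ} (m : a ⟶ b), IsAffineHom ((G.leftOp ⋙ D).map m) := fun m =>
      inferInstanceAs (IsAffineHom (D.map _))
    haveI : IsDirectedOrder α := ⟨fun a b => hd.directed a b⟩
    isAffineHom_π_app _ c' hc' (op j)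
  have hs := h _ ((EtCoh.push (c'.π.app (op j))).obj F) (isTorsion_push _ hF) q hq
  rw [← hj, @Subsingleton.elim _ hs ξj 0]
  exact map_zero _

end Groth.EtaleBase.EtLimit
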