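import Groth.Agent.EtaleBase.Limit.StalkMor
import Groth.Agent.DescentBase.HpullViaComp

/-!
The action on cohomology of morphisms of sheaves along morphisms of schemes is functorial.
-/

set_option autoImplicit false

universe u

open CategoryTheory CategoryTheory.Limits CategoryTheory.Abelian AlgebraicGeometry Opposite

namespace Groth.EtaleBase.EtLimit

attribute [local instance] pull_preservesFiniteLimits

variable {A B C : Scheme.{u}}

/-- Iterated pullback of classes. -/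
theorem Hpull_comp_inv (a : A ⟶ B) (b : B ⟶ C) (G : EtCoh.Ab C) (q : ℕ) (x : EtCoh.H C G q) :
    (EtCore.Hpull a _ q (EtCore.Hpull b G q x)).comp (Ext.mk₀ ((EtCore.pullComp a b).inv.app G))
      (add_zero q) = EtCore.Hpull (a ≫ b) G q x := by
  show ((Ext.mk₀ (EtCore.pullConst a ℤ).inv).comp
      (((Ext.mk₀ (EtCore.pullConst b ℤ).inv).comp (x.mapExactFunctor (EtCoh.pull b))
        (zero_add q)).mapExactFunctor (EtCoh.pull a)) (zero_add q)).comp
        (Ext.mk₀ ((EtCore.pullComp a b).inv.app G)) (add_zero q) =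
    (Ext.mk₀ (EtCore.pullConst (a ≫ b) ℤ).inv).comp (x.mapExactFunctor (EtCoh.pull (a ≫ b))) (zero_add q)
  rw [Ext.mapExactFunctor_comp, Ext.mapExactFunctor_mk₀]
  simp only [Ext.comp_assoc_of_third_deg_zero]
  refine (congrArg (fun z => (Ext.mk₀ (EtCore.pullConst a ℤ).inv).comp
    ((Ext.mk₀ ((EtCoh.pull a).map (EtCore.pullConst b ℤ).inv)).comp z (zero_add q)) (zero_add q))
    (EtaleBase.ExtAdj.mapExt_natTrans₂ (EtCoh.pull b) (EtCoh.pull a) (EtCoh.pull (a ≫ b))
      (EtCore.pullComp a b).inv (EtCoh.const C ℤ) q G x)).trans ?_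
  rw [Ext.mk₀_comp_mk₀_assoc]
  refine (Ext.mk₀_comp_mk₀_assoc _ _ _).trans ?_
  refine congrArg (fun z => (Ext.mk₀ z).comp (x.mapExactFunctor (EtCoh.pull (a ≫ b))) (zero_add q)) ?_
  exact (Category.assoc _ _ _).trans
    (EtaleBase.pullConstIso_comp a b (AddCommGrpCat.of (ULift.{u + 1} ℤ)))

/-- Iterated pullback of classes. -/
theorem Hpull_comp (a : A ⟶ B) (b : B ⟶ C) (G : EtCoh.Ab C) (q : ℕ) (x : EtCoh.H C G q) :
    EtCore.Hpull a _ q (EtCore.Hpull b G q x) =
      (EtCore.Hpull (a ≫ b) G q x).comp (Ext.mk₀ ((EtCore.pullComp a b).hom.app G)) (add_zero q) := by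
  rw [← Hpull_comp_inv a b G q x]
  exact (ext_cancel _ _ _ ((EtCore.pullComp a b).inv_hom_id_app G)).symm

lemma Hpull_map (a : A ⟶ B) {G G' : EtCoh.Ab B} (α : G ⟶ G') (q : ℕ) (y : EtCoh.H B G q) :
    EtCore.Hpull a G' q (y.comp (Ext.mk₀ α) (add_zero q)) =
      (EtCore.Hpull a G q y).comp (Ext.mk₀ ((EtCoh.pull a).map α)) (add_zero q) := by
  show (Ext.mk₀ (EtCore.pullConst a ℤ).inv).comp
      ((y.comp (Ext.mk₀ α) (add_zero q)).mapExactFunctor (EtCoh.pull a)) (zero_add q) =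
    ((Ext.mk₀ (EtCore.pullConst a ℤ).inv).comp (y.mapExactFunctor (EtCoh.pull a)) (zero_add q)).comp
      (Ext.mk₀ ((EtCoh.pull a).map α)) (add_zero q)
  rw [Ext.mapExactFunctor_comp, Ext.mapExactFunctor_mk₀, Ext.comp_assoc_of_third_deg_zero]

namespace CHom

variable {GA : EtCoh.Ab A} {GB : EtCoh.Ab B} {GC : EtCoh.Ab C}

/-- The action of a composite. -/
theorem H_comp (f : CHom GC GB) (f' : CHom GB GA) (q : ℕ) (x : EtCoh.H C GC q) :
    (f.comp f').H q x = f'.H q (f.H q x) := by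
  show (EtCore.Hpull (f'.m ≫ f.m) GC q x).comp (Ext.mk₀ (coeffComp f.m f'.m f.α f'.α)) (add_zero q) =
    (EtCore.Hpull f'.m GB q ((EtCore.Hpull f.m GC q x).comp (Ext.mk₀ f.α) (add_zero q))).comp
      (Ext.mk₀ f'.α) (add_zero q)
  rw [Hpull_map, Hpull_comp]
  simp only [Ext.comp_assoc_of_third_deg_zero, Ext.mk₀_comp_mk₀]
  exact congrArg (fun z => Ext.comp _ (Ext.mk₀ z) (add_zero q)) (Category.assoc _ _ _).symm

end CHom

end Groth.EtaleBase.EtLimit
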