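import Groth.Agent.EtaleBase.Limit.StrictEval

/-!
The base change morphism on stalks is the pullback on cohomology of the base changes to the strict
localizations.
-/

set_option autoImplicit false

universe u

open CategoryTheory CategoryTheory.Limits CategoryTheory.Abelian AlgebraicGeometry Opposite IsLocalRing
open Groth.EtaleBase Groth.EtaleBase.EtLocalRing Groth.AlgSpEt.StrictLocal

namespace Groth.EtaleBase.EtLimit

lemma locLift_bc {X S : Scheme.{u}} (f : X ⟶ S) (R : Type u) [CommRing R] [HenselianLocalRing R]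
    [IsSepClosed (ResidueField R)] (R' : Type u) [CommRing R'] [HenselianLocalRing R']
    [IsSepClosed (ResidueField R')] {Ω : Type u} [Field Ω] [IsSepClosed Ω] (ρ : R →+* Ω) [IsLocalHom ρ]
    (ρ' : R' →+* Ω) [IsLocalHom ρ'] (σ : Spec (CommRingCat.of R) ⟶ S)
    (σ' : Spec (CommRingCat.of R') ⟶ X) (ξ : Spec (CommRingCat.of Ω) ⟶ X)
    (hξ : locPt R' ρ' ≫ σ' = ξ) (hη : locPt R ρ ≫ σ = ξ ≫ f)
    (ν : Spec (CommRingCat.of R') ⟶ Spec (CommRingCat.of R)) (hν : ν ≫ σ = σ' ≫ f)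
    (hpt : locPt R' ρ' ≫ ν = locPt R ρ) (V : S.Etale)
    (t : (Scheme.pointSmallEtale (ξ ≫ f)).fiber.obj V) :
    locLift R' ρ' σ' ξ hξ ((EtCoh.bc f).obj V) (liftPt f ξ V t) ≫ pullback.fst V.hom f =
      ν ≫ locLift R ρ σ (ξ ≫ f) hη V t := by
  haveI : Etale V.hom := V.prop
  refine lift_ext R' ρ' (σ' ≫ f) V.hom ?_ ?_ ?_
  · refine (Category.assoc _ _ _).trans ((congrArg (_ ≫ ·) pullback.condition).trans ?_)
    exact (Category.assoc _ _ _).symm.trans
      (congrArg (· ≫ f) (locLift_hom R' ρ' σ' ξ hξ _ (liftPt f ξ V t)))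
  · exact (Category.assoc _ _ _).trans ((congrArg (ν ≫ ·) (locLift_hom R ρ σ (ξ ≫ f) hη V t)).trans hν)
  · refine ((Category.assoc _ _ _).symm.trans ((congrArg (· ≫ pullback.fst V.hom f)
      (locPt_locLift R' ρ' σ' ξ hξ _ (liftPt f ξ V t))).trans (pullback.lift_fst _ _ _))).trans ?_
    exact ((Category.assoc _ _ _).symm.trans ((congrArg (· ≫ locLift R ρ σ (ξ ≫ f) hη V t) hpt).trans
      (locPt_locLift R ρ σ (ξ ≫ f) hη V t))).symm

variable {X S Y T : Scheme.{u}} (f : X ⟶ S) (g : T ⟶ S) (h : Y ⟶ X) (e : Y ⟶ T) (w : e ≫ g = h ≫ f)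
  [PreservesFiniteLimits (EtCoh.pull e)] (F : EtCoh.Ab T)

/-- Evaluation commutes with base change. -/
theorem eval_stalkBC (R : Type u) [CommRing R] [HenselianLocalRing R] [IsSepClosed (ResidueField R)]
    (R' : Type u) [CommRing R'] [HenselianLocalRing R'] [IsSepClosed (ResidueField R')]
    {Ω : Type u} [Field Ω] [IsSepClosed Ω] (ρ : R →+* Ω) [IsLocalHom ρ] (ρ' : R' →+* Ω) [IsLocalHom ρ']
    (σ : Spec (CommRingCat.of R) ⟶ S) (σ' : Spec (CommRingCat.of R') ⟶ X)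
    (ξ : Spec (CommRingCat.of Ω) ⟶ X) (hξ : locPt R' ρ' ≫ σ' = ξ) (hη : locPt R ρ ≫ σ = ξ ≫ f)
    (ν : Spec (CommRingCat.of R') ⟶ Spec (CommRingCat.of R)) (hν : ν ≫ σ = σ' ≫ f)
    (hpt : locPt R' ρ' ≫ ν = locPt R ρ)
    {P P' : Scheme.{u}} (aS : P ⟶ T) (bS : P ⟶ Spec (CommRingCat.of R)) (hwS : aS ≫ g = bS ≫ σ)
    (aY : P' ⟶ Y) (bX : P' ⟶ Spec (CommRingCat.of R')) (hwY : aY ≫ h = bX ≫ σ') (aX : P' ⟶ T)
    (haY : aY ≫ e = aX) (m : P' ⟶ P) (hm : m ≫ aS = aX) (hmb : m ≫ bS = bX ≫ ν)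
    [PreservesFiniteLimits (EtCoh.pull m)] (q : ℕ)
    (x : (EtCoh.stalk (ξ ≫ f)).obj ((EtCoh.Rpush g q).obj F)) :
    eval h R' ρ' σ' ξ hξ aY bX hwY q
        (stalkBC g f h e w (𝟙 ((EtCoh.pull e).obj F)) ξ q x) =
      (EtCore.HpullVia m aS aX hm F q (eval g R ρ σ (ξ ≫ f) hη aS bS hwS q x)).comp
        (Ext.mk₀ ((((EtCore.pullComp aY e).symm ≪≫ EtCore.pullCongr haY).app F).inv ≫
          (EtCoh.pull aY).map (𝟙 ((EtCoh.pull e).obj F)))) (add_zero q) := by
  obtain ⟨V, t, z, hz⟩ := exists_rep g (injectiveResolution F) (ξ ≫ f) q x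
  let φ := bcHom e (𝟙 ((EtCoh.pull e).obj F))
  have r := rep_stalkBC g f h e w (𝟙 ((EtCoh.pull e).obj F)) ξ hz φ
  rw [eval_rep h R' ρ' σ' ξ hξ aY bX hwY r, eval_rep g R ρ σ (ξ ≫ f) hη aS bS hwS hz]
  let mS := evPt g R ρ σ (ξ ≫ f) hη aS bS hwS V t
  let mX := evPt h R' ρ' σ' ξ hξ aY bX hwY ((EtCoh.bc f).obj V) (liftPt f ξ V t)
  let r' := bcSq g f h e w V
  have hm₀ : (m ≫ mS) ≫ ((EtCoh.bc g).obj V).hom = aX :=
    (Category.assoc _ _ _).trans ((congrArg (m ≫ ·) (evPt_hom g R ρ σ (ξ ≫ f) hη aS bS hwS V t)).trans hm)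
  have he : (mX ≫ r'.left) ≫ pullback.fst ((EtCoh.bc g).obj V).hom e = m ≫ mS := by
    refine pullback.hom_ext ?_ (Eq.trans ?_ hm₀.symm)
    · refine ((Category.assoc _ _ _).trans ((Category.assoc _ _ _).trans ((congrArg (mX ≫ ·)
        (bcSq_fst g f h e w V)).trans ((Category.assoc _ _ _).symm.trans ((congrArg (· ≫ pullback.fst V.hom f)
          (evPt_fst h R' ρ' σ' ξ hξ aY bX hwY _ (liftPt f ξ V t))).trans ((Category.assoc _ _ _).trans
            (congrArg (bX ≫ ·) (locLift_bc f R R' ρ ρ' σ σ' ξ hξ hη ν hν hpt V t)))))))).trans ?_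
      refine Eq.trans ?_ ((Category.assoc _ _ _).trans
        (congrArg (m ≫ ·) (evPt_fst g R ρ σ (ξ ≫ f) hη aS bS hwS V t))).symm
      exact (Category.assoc _ _ _).symm.trans ((congrArg (· ≫ _) hmb.symm).trans (Category.assoc _ _ _))
    · refine (Category.assoc _ _ _).trans ((congrArg (_ ≫ ·) pullback.condition).trans ?_)
      refine (Category.assoc _ _ _).symm.trans (Eq.trans (congrArg (· ≫ e) ?_) haY)
      exact lift_w r' (evPt_hom h R' ρ' σ' ξ hξ aY bX hwY _ (liftPt f ξ V t))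
  refine ((injResn (injectiveResolution ((EtCoh.pull e).obj F))).clsAt_hom φ r' haY (m ≫ mS) hm₀ he hz.cycle
    r.cycle).trans ?_
  exact congrArg (fun y => Ext.comp y _ (add_zero q))
    ((injResn (injectiveResolution F)).clsAt_pull m hm (m ≫ mS) hm₀ rfl hz.cycle)

/-- Bijectivity on stalks is bijectivity of the pullback on the strict localizations. -/
theorem bijective_stalkBC_iff_HpullVia [QuasiCompact g] [QuasiSeparated g] (c : IsPullback e h g f)
    {s : S} {x : X} (R : Type u) [CommRing R] [HenselianLocalRing R] [IsSepClosed (ResidueField R)]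
    [Algebra (S.presheaf.stalk s) R] [IsLocalHom (algebraMap (S.presheaf.stalk s) R)]
    [Hensel.IsStrictHenselization (S.presheaf.stalk s) R]
    (R' : Type u) [CommRing R'] [HenselianLocalRing R'] [IsSepClosed (ResidueField R')]
    [Algebra (X.presheaf.stalk x) R'] [IsLocalHom (algebraMap (X.presheaf.stalk x) R')]
    [Hensel.IsStrictHenselization (X.presheaf.stalk x) R']
    {Ω : Type u} [Field Ω] [IsSepClosed Ω] (ρ : R →+* Ω) [IsLocalHom ρ] (ρ' : R' →+* Ω) [IsLocalHom ρ']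
    (ξ : Spec (CommRingCat.of Ω) ⟶ X) (hξ : locPt R' ρ' ≫ Hens2.specOf X x R' = ξ)
    (hη : locPt R ρ ≫ Hens2.specOf S s R = ξ ≫ f)
    (ν : Spec (CommRingCat.of R') ⟶ Spec (CommRingCat.of R))
    (hν : ν ≫ Hens2.specOf S s R = Hens2.specOf X x R' ≫ f) (hpt : locPt R' ρ' ≫ ν = locPt R ρ)
    {P P' : Scheme.{u}} {aS : P ⟶ T} {bS : P ⟶ Spec (CommRingCat.of R)}
    (hS : IsPullback aS bS g (Hens2.specOf S s R))
    {aX : P' ⟶ T} {bX : P' ⟶ Spec (CommRingCat.of R')}
    (hX : IsPullback aX bX g (Hens2.specOf X x R' ≫ f)) (m : P' ⟶ P) (hm : m ≫ aS = aX)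
    (hmb : m ≫ bS = bX ≫ ν) [PreservesFiniteLimits (EtCoh.pull m)] (q : ℕ) :
    Function.Bijective (stalkBC g f h e c.w (𝟙 ((EtCoh.pull e).obj F)) ξ q) ↔
      Function.Bijective (EtCore.HpullVia m aS aX hm F q) := by
  haveI : QuasiCompact h := MorphismProperty.of_isPullback (P := @QuasiCompact) c inferInstance
  haveI : QuasiSeparated h := MorphismProperty.of_isPullback (P := @QuasiSeparated) c inferInstance
  let σ' := Hens2.specOf X x R'
  let aY : P' ⟶ Y := c.lift aX (bX ≫ σ') (hX.w.trans (Category.assoc _ _ _).symm)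
  have haY : aY ≫ e = aX := c.lift_fst _ _ _
  have hwY : aY ≫ h = bX ≫ σ' := c.lift_snd _ _ _
  have hY : IsPullback aY bX h σ' := IsPullback.of_right (haY.symm ▸ hX) hwY c
  have bS' := bijective_eval (F := F) g R ρ (ξ ≫ f) aS bS hη hS q
  have bX' := bijective_eval (F := (EtCoh.pull e).obj F) h R' ρ' ξ aY bX hξ hY q
  let A := (((EtCore.pullComp aY e).symm ≪≫ EtCore.pullCongr haY).app F).inv ≫
    (EtCoh.pull aY).map (𝟙 ((EtCoh.pull e).obj F))
  haveI : IsIso A := inferInstance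
  let C : EtCoh.H P' ((EtCoh.pull aX).obj F) q → EtCoh.H P' ((EtCoh.pull aY).obj ((EtCoh.pull e).obj F)) q :=
    fun y => Ext.comp y (Ext.mk₀ A) (add_zero q)
  have hC : Function.Bijective C := Function.bijective_iff_has_inverse.2
    ⟨fun y => Ext.comp y (Ext.mk₀ (inv A)) (add_zero q), fun y => ext_cancel y A (inv A) (IsIso.hom_inv_id A),
      fun y => ext_cancel y (inv A) A (IsIso.inv_hom_id A)⟩
  have key : (eval h R' ρ' σ' ξ hξ aY bX hY.w q) ∘
      (stalkBC g f h e c.w (𝟙 ((EtCoh.pull e).obj F)) ξ q).hom =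
      (C ∘ (EtCore.HpullVia m aS aX hm F q)) ∘
        (eval g R ρ (Hens2.specOf S s R) (ξ ≫ f) hη aS bS hS.w q) :=
    funext fun y => eval_stalkBC f g h e c.w F R R' ρ ρ' _ σ' ξ hξ hη ν hν hpt aS bS hS.w aY bX hwY aX haY
      m hm hmb q y
  constructor
  · intro hb
    have h1 := bX'.comp hb
    rw [show (eval h R' ρ' σ' ξ hξ aY bX hY.w q) ∘ _ = _ from key] at h1
    exact (Function.Bijective.of_comp_iff' hC _).1 ((Function.Bijective.of_comp_iff _ bS').1 h1)
  · intro hb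
    refine (Function.Bijective.of_comp_iff' bX' _).1 ?_
    rw [show (eval h R' ρ' σ' ξ hξ aY bX hY.w q) ∘ _ = _ from key]
    exact (hC.comp hb).comp bS'

set_option backward.isDefEq.respectTransparency.types false in
/-- The geometric point is recovered from the étale local ring. -/
theorem specMap_ev_toEtale {Z : Scheme.{u}} {Ω : Type u} [Field Ω] [IsSepClosed Ω]
    (ξ : Spec (CommRingCat.of Ω) ⟶ Z) :
    Spec.map (ev ξ) ≫ Spec.map (toEtale ξ) ≫ Z.fromSpecStalk (ξ default) = ξ := by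
  obtain ⟨ι, _, _, ⟨i⟩, K, _, hK⟩ := exists_affine_system ξ
  haveI := hK
  let U := (K.obj i).unop.1
  let t := (K.obj i).unop.2
  refine (congrArg (Spec.map (ev ξ) ≫ ·) (localCone_hom ξ K i).symm).trans ?_
  refine (Category.assoc _ _ _).symm.trans ?_
  have h1 : (localCone ξ K).π.app (op i) = Spec.map (gm ξ U t) ≫ U.left.isoSpec.inv := rfl
  have h2 : Spec.map (ev ξ) ≫ Spec.map (gm ξ U t) ≫ U.left.isoSpec.inv = t.left :=
    (Category.assoc _ _ _).symm.trans ((congrArg (· ≫ U.left.isoSpec.inv)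
      ((Spec.map_comp (gm ξ U t) (ev ξ)).symm.trans (congrArg Spec.map
        (ConcreteCategory.hom_ext _ _ (ev_gm ξ U t) : gm ξ U t ≫ ev ξ = evAt ξ U t)))).trans
          (@eq_SpecMap_appTop_isoSpec_inv _ U.left (hK i) t.left).symm)
  exact (congrArg (· ≫ U.hom) ((congrArg (Spec.map (ev ξ) ≫ ·) h1).trans h2)).trans (Over.w t)

lemma isLocalHom_ev {Z : Scheme.{u}} {Ω : Type u} [Field Ω] [IsSepClosed Ω]
    (ξ : Spec (CommRingCat.of Ω) ⟶ Z) : IsLocalHom (ev ξ).hom :=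
  ⟨fun _ ha => (isUnit_iff_ev_ne_zero ξ _).2 ha.ne_zero⟩

/-- A local homomorphism of strict henselizations over a local homomorphism exists. -/
theorem exists_strictHenselization_map (A B : Type u) [CommRing A] [IsLocalRing A] [CommRing B]
    [IsLocalRing B] (u : A →+* B) [IsLocalHom u] (R R' : Type u) [CommRing R] [IsLocalRing R]
    [Algebra A R] [IsLocalHom (algebraMap A R)] [hR : Hensel.IsStrictHenselization A R] [CommRing R']
    [IsLocalRing R'] [Algebra B R'] [IsLocalHom (algebraMap B R')]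
    [hR' : Hensel.IsStrictHenselization B R'] :
    ∃ ψ : R →+* R', IsLocalHom ψ ∧ ψ.comp (algebraMap A R) = (algebraMap B R').comp u := by
  haveI := hR'.henselian
  haveI := hR.isSepClosure
  haveI := hR'.isSepClosure
  haveI : IsSepClosed (ResidueField R') := IsSepClosure.sep_closed (ResidueField B)
  haveI : IsLocalHom ((algebraMap B R').comp u) := inferInstance
  letI := (ResidueField.map ((algebraMap B R').comp u)).toAlgebra
  haveI := (hR.isSepClosure).separable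
  let τ : ResidueField R →ₐ[ResidueField A] ResidueField R' := IsSepClosed.lift
  obtain ⟨ψ, ⟨hψ, hψr⟩, -⟩ := hR.universal R' ((algebraMap B R').comp u) τ.toRingHom
    (RingHom.ext fun x => τ.commutes x)
  refine ⟨ψ, ⟨fun a ha => ?_⟩, hψ⟩
  by_contra hna
  have h0 : residue R a = 0 := (residue_eq_zero_iff a).2 hna
  have h1 := hψr a
  rw [h0, map_zero, residue_eq_zero_iff] at h1
  exact h1 ha

end Groth.EtaleBase.EtLimit
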