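import Groth.Agent.EtaleBase.Limit.SysStalk

/-!
The inverse image of systems of sheaves along a morphism of inverse systems of schemes.
-/

set_option autoImplicit false

universe u

open CategoryTheory CategoryTheory.Limits AlgebraicGeometry Opposite

namespace Groth.EtaleBase.EtLimit

attribute [local instance] pull_preservesFiniteLimits

variable {ι : Type u} [Preorder ι] [Nonempty ι] [IsDirectedOrder ι] {Ts Ys : ιᵒᵖ ⥤ Scheme.{u}}
  (eN : Ys ⟶ Ts)

omit [Nonempty ι] [IsDirectedOrder ι] in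
lemma pullPhi_comp (M : AbSys Ts) ⦃i j k : ι⦄ (h : i ≤ j) (h' : j ≤ k) :
    bcPhi eN (fun i => (res Ts i).obj M) (resPhi M) (h.trans h') =
      (EtLim.pullTrans Ys h h').hom.app (bcF eN (fun i => (res Ts i).obj M) i) ≫
        (EtCoh.pull (Ys.map (homOfLE h').op)).map (bcPhi eN (fun i => (res Ts i).obj M) (resPhi M) h) ≫
          bcPhi eN (fun i => (res Ts i).obj M) (resPhi M) h' :=
  bcPhi_comp eN (fun i => (res Ts i).obj M) (resPhi M) (resPhi_comp M) h h'

/-- The inverse image of a system. -/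
noncomputable def ssObj (M : AbSys Ts) : AbSys Ys :=
  sysSheaf (bcF eN (fun i => (res Ts i).obj M)) (bcPhi eN (fun i => (res Ts i).obj M) (resPhi M))
    (pullPhi_comp eN M)

/-- The identification of its restrictions. -/
noncomputable def ssProj (M : AbSys Ts) (i : ι) :
    (EtCoh.pull (eN.app (op i))).obj ((res Ts i).obj M) ⟶ (res Ys i).obj (ssObj eN M) :=
  sysProj (bcF eN (fun i => (res Ts i).obj M)) (bcPhi eN (fun i => (res Ts i).obj M) (resPhi M))
    (pullPhi_comp eN M) i

/-- The inverse identification. -/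
noncomputable def ssIncl (M : AbSys Ts) (i : ι) :
    (res Ys i).obj (ssObj eN M) ⟶ (EtCoh.pull (eN.app (op i))).obj ((res Ts i).obj M) :=
  sysIncl (bcF eN (fun i => (res Ts i).obj M)) (bcPhi eN (fun i => (res Ts i).obj M) (resPhi M))
    (pullPhi_comp eN M) i

omit [Nonempty ι] [IsDirectedOrder ι] in
lemma ssIncl_ssProj (M : AbSys Ts) (i : ι) : ssIncl eN M i ≫ ssProj eN M i = 𝟙 _ :=
  sysIncl_sysProj _ _ _ i

omit [Nonempty ι] [IsDirectedOrder ι] in
lemma ssProj_ssIncl (M : AbSys Ts) (i : ι) : ssProj eN M i ≫ ssIncl eN M i = 𝟙 _ := by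
  let φ' := bcPhi eN (fun i => (res Ts i).obj M) (resPhi M) (le_refl i)
  haveI : IsIso (transC (fun i => (res Ts i).obj M) (resPhi M) (le_refl i)).α := isIso_trC_refl M i
  haveI : IsIso φ' :=
    CHom.isIso_lift (transC (fun i => (res Ts i).obj M) (resPhi M) (le_refl i)) _ _ _ (trn_gN eN (le_refl i))
  have h : sysHom (bcF eN (fun i => (res Ts i).obj M)) (bcPhi eN (fun i => (res Ts i).obj M) (resPhi M)) (le_refl i) ≫
      (EtCoh.push (trn Ys (le_refl i))).map (ssProj eN M i ≫ ssIncl eN M i) =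
      sysHom (bcF eN (fun i => (res Ts i).obj M)) (bcPhi eN (fun i => (res Ts i).obj M) (resPhi M)) (le_refl i) :=
    sysHom_proj_incl _ _ (pullPhi_comp eN M) (le_refl i)
  have h2 : φ' ≫ (ssProj eN M i ≫ ssIncl eN M i) = φ' :=
    ((EtCoh.pullPushAdj (trn Ys (le_refl i))).homEquiv _ _).injective
      (((EtCoh.pullPushAdj (trn Ys (le_refl i))).homEquiv_naturality_right _ _).trans h)
  exact (cancel_epi φ').1 (h2.trans (Category.comp_id φ').symm)

omit [Nonempty ι] [IsDirectedOrder ι] in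
instance isIso_ssProj (M : AbSys Ts) (i : ι) : IsIso (ssProj eN M i) :=
  ⟨⟨ssIncl eN M i, ssProj_ssIncl eN M i, ssIncl_ssProj eN M i⟩⟩

/-- The cartesian morphism to the inverse image. -/
noncomputable def eta (M : AbSys Ts) (i : ι) : CHom ((res Ts i).obj M) ((res Ys i).obj (ssObj eN M)) :=
  (CHom.cart (eN.app (op i)) ((res Ts i).obj M)).post (ssProj eN M i)

omit [Nonempty ι] [IsDirectedOrder ι] in
lemma bcTrans_proj (M : AbSys Ts) {i j : ι} (h : i ≤ j) :
    (bcTrans eN (fun i => (res Ts i).obj M) (resPhi M) h).post (ssProj eN M j) =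
      (trC (ssObj eN M) h).pre (ssProj eN M i) := by
  refine CHom.ext_T ((CHom.T_post (bcTrans eN (fun i => (res Ts i).obj M) (resPhi M) h) _).trans ?_)
  refine Eq.trans ?_ ((congrArg (ssProj eN M i ≫ ·) (CHom.T_ofT _ _).symm).trans
    ((trC (ssObj eN M) h).T_pre _).symm)
  exact (sysProj_transHom _ _ (pullPhi_comp eN M) h).symm

omit [Nonempty ι] [IsDirectedOrder ι] in
theorem trC_eta (M : AbSys Ts) {i j : ι} (h : i ≤ j) :
    (trC M h).comp (eta eN M j) = (eta eN M i).comp (trC (ssObj eN M) h) := by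
  have sq : (CHom.cart (eN.app (op i)) ((res Ts i).obj M)).comp
      (bcTrans eN (fun i => (res Ts i).obj M) (resPhi M) h) =
      (trC M h).comp (CHom.cart (eN.app (op j)) ((res Ts j).obj M)) :=
    CHom.cart_comp_factor _ _ _ _
  rw [eta, ← CHom.comp_post, ← sq, CHom.comp_post, bcTrans_proj, eta, CHom.post_comp]

/-- The map on restrictions induced by a map of systems. -/
noncomputable def ssδ {M N : AbSys Ts} (f : M ⟶ N) (i : ι) :
    (res Ys i).obj (ssObj eN M) ⟶ (res Ys i).obj (ssObj eN N) :=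
  ssIncl eN M i ≫ (EtCoh.pull (eN.app (op i))).map ((res Ts i).map f) ≫ ssProj eN N i

omit [Nonempty ι] [IsDirectedOrder ι] in
lemma eta_ssδ {M N : AbSys Ts} (f : M ⟶ N) (i : ι) :
    (eta eN M i).post (ssδ eN f i) = (eta eN N i).pre ((res Ts i).map f) := by
  refine congrArg (CHom.mk (eN.app (op i))) ?_
  show (𝟙 _ ≫ ssProj eN M i) ≫ ssIncl eN M i ≫ (EtCoh.pull (eN.app (op i))).map ((res Ts i).map f) ≫
      ssProj eN N i = (EtCoh.pull (eN.app (op i))).map ((res Ts i).map f) ≫ 𝟙 _ ≫ ssProj eN N i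
  rw [Category.id_comp, Category.id_comp, ← Category.assoc, ssProj_ssIncl, Category.id_comp]

omit [Nonempty ι] [IsDirectedOrder ι] in
lemma eta_cancel (M : AbSys Ts) {i : ι} {P : Scheme.{u}} {H : EtCoh.Ab P}
    {x y : CHom ((res Ys i).obj (ssObj eN M)) H} (hm : x.m = y.m)
    (h : (eta eN M i).comp x = (eta eN M i).comp y) : x = y := by
  rw [eta, CHom.post_comp, CHom.post_comp] at h
  have h' := CHom.cart_cancel (x := x.pre (ssProj eN M i)) (y := y.pre (ssProj eN M i)) hm h
  obtain ⟨m, a⟩ := x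
  obtain ⟨m', b⟩ := y
  dsimp at hm
  subst hm
  exact congrArg (CHom.mk m) ((cancel_epi ((EtCoh.pull m).map (ssProj eN M i))).1
    (eq_of_heq (CHom.mk.inj h').2))

omit [Nonempty ι] [IsDirectedOrder ι] in
lemma ssδ_trans {M N : AbSys Ts} (f : M ⟶ N) ⦃i j : ι⦄ (h : i ≤ j) :
    transHom (ssObj eN M) h ≫ (EtCoh.push (trn Ys h)).map (ssδ eN f j) =
      ssδ eN f i ≫ transHom (ssObj eN N) h := by
  have e : (trC (ssObj eN M) h).post (ssδ eN f j) = (trC (ssObj eN N) h).pre (ssδ eN f i) := by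
    refine eta_cancel eN M (i := i) rfl ?_
    rw [← CHom.comp_post, ← trC_eta, CHom.comp_post, eta_ssδ, ← CHom.post_comp, trC_natural,
      CHom.pre_comp, trC_eta, ← CHom.pre_comp, ← eta_ssδ, CHom.post_comp]
  have e1 := congrArg (β := (res Ys i).obj (ssObj eN M) ⟶
      (EtCoh.push (trn Ys h)).obj ((res Ys j).obj (ssObj eN N)))
    (fun z => (CHom.mk (trn Ys h) z).T) (eq_of_heq (CHom.mk.inj e).2)
  refine ((congrArg (· ≫ _) (CHom.T_ofT _ _).symm).trans ((trC (ssObj eN M) h).T_post _).symm).trans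
    (e1.trans (((trC (ssObj eN N) h).T_pre _).trans (congrArg (_ ≫ ·) (CHom.T_ofT _ _))))

/-- Inverse image of systems. -/
noncomputable def ssF : AbSys Ts ⥤ AbSys Ys where
  obj M := ssObj eN M
  map f := abSysHomMk (ssδ eN f) (ssδ_trans eN f)
  map_id M := abSys_hom_ext fun i => by
    rw [res_abSysHomMk, CategoryTheory.Functor.map_id]
    simp [ssδ, ssIncl_ssProj]
  map_comp {M N L} f g := abSys_hom_ext fun i => by
    rw [res_abSysHomMk, Functor.map_comp, res_abSysHomMk, res_abSysHomMk]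
    simp only [ssδ, Functor.map_comp, Category.assoc]
    rw [← Category.assoc (ssProj eN N i), ssProj_ssIncl, Category.id_comp]

omit [Nonempty ι] [IsDirectedOrder ι] in
lemma res_ssF_map {M N : AbSys Ts} (f : M ⟶ N) (i : ι) :
    (res Ys i).map ((ssF eN).map f) = ssδ eN f i :=
  res_abSysHomMk (ssδ eN f) (ssδ_trans eN f) i

omit [Nonempty ι] [IsDirectedOrder ι] in
lemma ssδ_zero (M N : AbSys Ts) (i : ι) : ssδ eN (0 : M ⟶ N) i = 0 := by
  simp [ssδ]

omit [Nonempty ι] [IsDirectedOrder ι] in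
instance ssF_preservesZeroMorphisms : (ssF eN).PreservesZeroMorphisms where
  map_zero M N := abSys_hom_ext fun i =>
    ((res_ssF_map eN (0 : M ⟶ N) i).trans (ssδ_zero eN M N i)).trans
      ((res Ys i).map_zero _ _).symm

omit [Nonempty ι] [IsDirectedOrder ι] in
theorem eta_natural {M N : AbSys Ts} (f : M ⟶ N) (i : ι) :
    (eta eN M i).post ((res Ys i).map ((ssF eN).map f)) = (eta eN N i).pre ((res Ts i).map f) := by
  exact (congrArg (eta eN M i).post (res_abSysHomMk (ssδ eN f) (ssδ_trans eN f) i)).trans (eta_ssδ eN f i)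

section Lim

variable (cT : Cone Ts) (cY : Cone Ys) (e : cY.pt ⟶ cT.pt)
  (he : ∀ j, e ≫ proj Ts cT j = proj Ys cY j ≫ eN.app (op j))

include he in
lemma exists_descN (M : AbSys Ts) : ∃ α : (EtCoh.pull e).obj ((pullSys Ts cT).obj M) ⟶
      (pullSys Ys cY).obj (ssObj eN M),
    ∀ j, (coneC cT M j).comp ⟨e, α⟩ = (eta eN M j).comp (coneC cY (ssObj eN M) j) :=
  exists_descE cT M e (fun j => (eta eN M j).comp (coneC cY (ssObj eN M) j)) (fun j => he j) fun i j h => by
    rw [← CHom.assoc, trC_eta, CHom.assoc, trC_coneC]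

/-- The comparison at the cone point. -/
noncomputable def descN : pullSys Ts cT ⋙ EtCoh.pull e ⟶ ssF eN ⋙ pullSys Ys cY where
  app M := (exists_descN eN cT cY e he M).choose
  naturality M N f := by
    refine descE_ext cT M e fun j => ?_
    have hM := (exists_descN eN cT cY e he M).choose_spec j
    have hN := (exists_descN eN cT cY e he N).choose_spec j
    let aM := (exists_descN eN cT cY e he M).choose
    let aN := (exists_descN eN cT cY e he N).choose
    exact (CHom.post_comp (coneC cT M j) ((pullSys Ts cT).map f) (CHom.mk e aN)).symm.trans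
      ((congrArg (CHom.comp · (CHom.mk e aN)) (coneC_natural cT f j)).trans
      ((CHom.pre_comp (coneC cT N j) ((res Ts j).map f) (CHom.mk e aN)).trans
      ((congrArg (CHom.pre · ((res Ts j).map f)) hN).trans
      ((CHom.pre_comp (eta eN N j) ((res Ts j).map f) (coneC cY (ssObj eN N) j)).symm.trans
      ((congrArg (CHom.comp · (coneC cY (ssObj eN N) j)) (eta_natural eN f j).symm).trans
      ((CHom.post_comp (eta eN M j) ((res Ys j).map ((ssF eN).map f)) (coneC cY (ssObj eN N) j)).trans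
      ((congrArg (CHom.comp (eta eN M j)) (coneC_natural cY ((ssF eN).map f) j).symm).trans
      ((CHom.comp_post (eta eN M j) (coneC cY (ssObj eN M) j) _).symm.trans
      ((congrArg (CHom.post · ((pullSys Ys cY).map ((ssF eN).map f))) hM.symm).trans
      (CHom.comp_post (coneC cT M j) (CHom.mk e aM) _))))))))))

theorem coneC_descN (M : AbSys Ts) (j : ι) :
    (coneC cT M j).comp ⟨e, (descN eN cT cY e he).app M⟩ = (eta eN M j).comp (coneC cY (ssObj eN M) j) :=
  (exists_descN eN cT cY e he M).choose_spec j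

end Lim

end Groth.EtaleBase.EtLimit
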