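import Groth.Agent.EtaleBase.Limit.Descent
import Groth.Agent.S19569
import Mathlib.AlgebraicGeometry.Pullbacks

/-!
Every étale scheme over the limit is locally the base change of an affine étale scheme over a member
of the system.
-/

set_option autoImplicit false

universe u

open CategoryTheory CategoryTheory.Limits AlgebraicGeometry Opposite TensorProduct

namespace Groth.EtaleBase.EtLimit

/-- Affine base change of a scheme over an affine open. -/
lemma isPullback_fromSpec {X Y : Scheme.{u}} (f : X ⟶ Y) {R : Y.Opens} (hR : IsAffineOpen R)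
    {P : X.Opens} (hP : IsAffineOpen P) (e : P = f ⁻¹ᵁ R) :
    IsPullback (Spec.map (f.appLE R P e.le)) hP.fromSpec hR.fromSpec f :=
  IsOpenImmersion.isPullback _ _ _ _ (IsAffineOpen.SpecMap_appLE_fromSpec f hR hP e.le).symm
    (by rw [IsAffineOpen.opensRange_fromSpec, IsAffineOpen.opensRange_fromSpec, e])

/-- Global sections of a restriction. -/
lemma resLE_appTop_topIso {X Y : Scheme.{u}} (f : X ⟶ Y) (U : Y.Opens) (V : X.Opens) (e : V ≤ f ⁻¹ᵁ U) :
    (f.resLE U V e).appTop ≫ V.topIso.hom = U.topIso.hom ≫ f.appLE U V e := by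
  simp [Scheme.Hom.resLE_appLE, Scheme.Hom.app_eq_appLE]
  erw [Scheme.Hom.appLE_map, Scheme.Hom.map_appLE]

variable {ι : Type u} [Preorder ι] [Nonempty ι] [IsDirectedOrder ι] {Xs : ιᵒᵖ ⥤ Scheme.{u}}
  [∀ (p q : ιᵒᵖ) (h : p ⟶ q), IsAffineHom (Xs.map h)] {c : Cone Xs} (hc : IsLimit c)

include hc in
lemma isAffineOpen_proj_preimage {j : ι} {R : (Xs.obj (op j)).Opens} (hR : IsAffineOpen R) :
    IsAffineOpen (proj Xs c j ⁻¹ᵁ R) := by
  have : IsAffineHom (proj Xs c j) := isAffineHom_π_app Xs c hc (op j)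
  exact hR.preimage _

lemma proj_preimage_trn {j k : ι} (h : j ≤ k) (R : (Xs.obj (op j)).Opens) :
    proj Xs c j ⁻¹ᵁ R = proj Xs c k ⁻¹ᵁ (trn Xs h ⁻¹ᵁ R) := by
  rw [← Scheme.Hom.comp_preimage, proj_trn]

include hc in
lemma exists_stage_section {j : ι} {R : (Xs.obj (op j)).Opens} (hR : IsAffineOpen R)
    (s : Γ(c.pt, proj Xs c j ⁻¹ᵁ R)) :
    ∃ (k : ι) (h : j ≤ k) (t : Γ(Xs.obj (op k), trn Xs h ⁻¹ᵁ R)),
      (proj Xs c k).appLE (trn Xs h ⁻¹ᵁ R) (proj Xs c j ⁻¹ᵁ R) (proj_preimage_trn h R).le t = s := by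
  haveI : ∀ k : Over (op j), IsAffine ((opensDiagram Xs (op j) R).obj k) := fun k =>
    hR.preimage (Xs.map k.hom)
  obtain ⟨k, t, ht⟩ := exists_appTop_π_eq_of_isAffine_of_isLimit (opensDiagram Xs (op j) R)
    (opensCone Xs c (op j) R) (isLimitOpensCone Xs c hc (op j) R)
    ((proj Xs c j ⁻¹ᵁ R).topIso.inv s)
  have h : j ≤ k.left.unop := leOfHom k.hom.unop
  refine ⟨k.left.unop, h, (Xs.map k.hom ⁻¹ᵁ R).topIso.hom t, ?_⟩
  have e : (opensCone Xs c (op j) R).π.app k =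
      (proj Xs c k.left.unop).resLE (trn Xs h ⁻¹ᵁ R) (proj Xs c j ⁻¹ᵁ R) (proj_preimage_trn h R).le :=
    rfl
  have key : ((opensCone Xs c (op j) R).π.app k).appTop ≫ (proj Xs c j ⁻¹ᵁ R).topIso.hom =
      (Xs.map k.hom ⁻¹ᵁ R).topIso.hom ≫
        (proj Xs c k.left.unop).appLE (trn Xs h ⁻¹ᵁ R) (proj Xs c j ⁻¹ᵁ R)
          (proj_preimage_trn h R).le := by
    rw [e]
    exact resLE_appTop_topIso (proj Xs c k.left.unop) _ _ _
  refine ((ConcreteCategory.congr_hom key t).symm.trans ?_)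
  refine (congrArg (proj Xs c j ⁻¹ᵁ R).topIso.hom ht).trans ?_
  exact Iso.inv_hom_id_apply _ _

include hc in
lemma exists_stage_zero {j k : ι} (h : j ≤ k) {R : (Xs.obj (op j)).Opens} (hR : IsAffineOpen R)
    (t : Γ(Xs.obj (op k), trn Xs h ⁻¹ᵁ R))
    (ht : (proj Xs c k).appLE (trn Xs h ⁻¹ᵁ R) (proj Xs c j ⁻¹ᵁ R) (proj_preimage_trn h R).le t = 0) :
    ∃ (l : ι) (hl : k ≤ l), (trn Xs hl).appLE (trn Xs h ⁻¹ᵁ R) (trn Xs (h.trans hl) ⁻¹ᵁ R)
      (by rw [← Scheme.Hom.comp_preimage, trn_trn]) t = 0 := by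
  haveI : IsAffineHom (trn Xs h) := inferInstance
  have h0 : (c.π.app (op k)).app (trn Xs h ⁻¹ᵁ R) t = 0 := by
    have e : (proj Xs c k).app (trn Xs h ⁻¹ᵁ R) =
        (proj Xs c k).appLE (trn Xs h ⁻¹ᵁ R) (proj Xs c j ⁻¹ᵁ R) (proj_preimage_trn h R).le ≫
          c.pt.presheaf.map (eqToHom (proj_preimage_trn h R).symm).op := by
      rw [Scheme.Hom.appLE_map, Scheme.Hom.app_eq_appLE]
    exact (ConcreteCategory.congr_hom e t).trans ((congrArg _ ht).trans (map_zero (c.pt.presheaf.map (eqToHom (proj_preimage_trn h R).symm).op).hom))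
  obtain ⟨l, f, hf⟩ := exists_app_map_eq_zero_of_isLimit Xs c hc (hR.preimage _).isCompact t h0
  have hl : k ≤ l.unop := leOfHom f.unop
  refine ⟨l.unop, hl, ?_⟩
  have hf' : (trn Xs hl).app (trn Xs h ⁻¹ᵁ R) t = 0 := hf
  rw [Scheme.Hom.appLE, CommRingCat.comp_apply, hf', map_zero]

include hc in
/-- Every point of an étale scheme over the limit lies in the image of a base change. -/
theorem exists_affine_nhd (W : c.pt.Etale) (x : W.left) :
    ∃ (a : Obj Xs) (m : (toPt Xs c).obj a ⟶ W), IsAffine a.obj.left ∧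
      x ∈ Set.range m.left.base := by
  classical
  obtain ⟨j⟩ := ‹Nonempty ι›
  obtain ⟨R, hR, hxR, -⟩ := exists_isAffineOpen_mem_and_subset
    (x := (proj Xs c j).base (W.hom.base x)) (U := (⊤ : (Xs.obj (op j)).Opens)) trivial
  let P := proj Xs c j ⁻¹ᵁ R
  have hP : IsAffineOpen P := isAffineOpen_proj_preimage hc hR
  obtain ⟨O, hO, hxO, hOP⟩ := exists_isAffineOpen_mem_and_subset
    (x := x) (U := W.hom ⁻¹ᵁ P) hxR
  let φ := W.hom.appLE P O hOP
  haveI : AlgebraicGeometry.Etale W.hom := W.prop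
  have hφ : φ.hom.Etale := HasRingHomProperty.appLE @AlgebraicGeometry.Etale W.hom W.prop ⟨P, hP⟩ ⟨O, hO⟩ hOP
  letI algB : Algebra Γ(c.pt, P) Γ(W.left, O) := φ.hom.toAlgebra
  haveI hEtB : Algebra.Etale Γ(c.pt, P) Γ(W.left, O) := hφ
  let ι' := {k : ι // j ≤ k}
  haveI : Nonempty ι' := ⟨⟨j, le_rfl⟩⟩
  haveI : IsDirectedOrder ι' := ⟨fun p q => by
    obtain ⟨r, h₁, h₂⟩ := exists_ge_ge p.1 q.1
    exact ⟨⟨r, p.2.trans h₁⟩, h₁, h₂⟩⟩
  let G : ι' → Type u := fun k => Γ(Xs.obj (op k.1), trn Xs k.2 ⁻¹ᵁ R)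
  let fT : ∀ p q : ι', p ≤ q → (G p →+* G q) := fun p q h =>
    ((trn Xs (h : p.1 ≤ q.1)).appLE (trn Xs p.2 ⁻¹ᵁ R) (trn Xs q.2 ⁻¹ᵁ R)
      (by rw [← Scheme.Hom.comp_preimage, trn_trn])).hom
  let gT : ∀ k : ι', G k →+* Γ(c.pt, P) := fun k =>
    ((proj Xs c k.1).appLE (trn Xs k.2 ⁻¹ᵁ R) P (proj_preimage_trn k.2 R).le).hom
  have hg : ∀ p q (h : p ≤ q), (gT q).comp (fT p q h) = gT p := fun p q h => by
    have e := proj_trn Xs c (h : p.1 ≤ q.1)
    refine (CommRingCat.hom_comp _ _).symm.trans (congrArg CommRingCat.Hom.hom ?_)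
    rw [Scheme.Hom.appLE_comp_appLE]
    simp only [e]
  obtain ⟨k, Bk, _, _, hBk, ⟨eB⟩⟩ := Groth.Agent.S19569.result G fT Γ(c.pt, P) gT hg
    (fun s => by
      obtain ⟨k, h, t, ht⟩ := exists_stage_section hc hR s
      exact ⟨⟨k, h⟩, t, ht⟩)
    (fun k t ht => by
      obtain ⟨l, hl, hzero⟩ := exists_stage_zero hc k.2 hR t ht
      exact ⟨⟨l, k.2.trans hl⟩, hl, hzero⟩)
    Γ(W.left, O)
  letI : Algebra (G k) Γ(c.pt, P) := (gT k).toAlgebra
  haveI : IsAffineHom (trn Xs k.2) := inferInstance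
  have hRk : IsAffineOpen (trn Xs k.2 ⁻¹ᵁ R) := hR.preimage _
  let α : CommRingCat.of (G k) ⟶ CommRingCat.of Bk := CommRingCat.ofHom (algebraMap (G k) Bk)
  haveI hα : AlgebraicGeometry.Etale (Spec.map α) :=
    (HasRingHomProperty.Spec_iff (P := @AlgebraicGeometry.Etale)).2 (RingHom.etale_algebraMap.2 hBk)
  haveI : AlgebraicGeometry.Etale (Spec.map α ≫ hRk.fromSpec) :=
    MorphismProperty.comp_mem _ _ _ hα (inferInstance : AlgebraicGeometry.Etale hRk.fromSpec)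
  let V : (Xs.obj (op k.1)).Etale := Scheme.Etale.mk (Spec.map α ≫ hRk.fromSpec)
  refine ⟨⟨k.1, V⟩, ?_⟩
  let β : CommRingCat.of Γ(c.pt, P) ⟶ CommRingCat.of (Γ(c.pt, P) ⊗[G k] Bk) :=
    CommRingCat.ofHom Algebra.TensorProduct.includeLeftRingHom
  let γ : CommRingCat.of Bk ⟶ CommRingCat.of (Γ(c.pt, P) ⊗[G k] Bk) :=
    CommRingCat.ofHom (Algebra.TensorProduct.includeRight (R := G k) (A := Γ(c.pt, P))).toRingHom
  have h1 : IsPullback (Spec.map β) (Spec.map γ)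
      (Spec.map (CommRingCat.ofHom (algebraMap (G k) Γ(c.pt, P)))) (Spec.map α) :=
    IsPullback.of_iso_pullback ⟨by
      rw [← Spec.map_comp, ← Spec.map_comp]
      refine congrArg Spec.map (CommRingCat.hom_ext (RingHom.ext fun r => ?_))
      exact ((Algebra.TensorProduct.includeRight (R := G k) (A := Γ(c.pt, P)) (B := Bk)).commutes r).symm⟩
      (pullbackSpecIso (G k) Γ(c.pt, P) Bk).symm
      (pullbackSpecIso_inv_fst (G k) Γ(c.pt, P) Bk) (pullbackSpecIso_inv_snd (G k) Γ(c.pt, P) Bk)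
  have h2 : IsPullback (Spec.map (CommRingCat.ofHom (algebraMap (G k) Γ(c.pt, P)))) hP.fromSpec
      hRk.fromSpec (proj Xs c k.1) :=
    isPullback_fromSpec (proj Xs c k.1) hRk hP (proj_preimage_trn k.2 R)
  have h3 : IsPullback (Spec.map γ) (Spec.map β ≫ hP.fromSpec) (Spec.map α ≫ hRk.fromSpec)
      (proj Xs c k.1) := h1.flip.paste_vert h2
  let εB : CommRingCat.of Γ(W.left, O) ≅ CommRingCat.of (Γ(c.pt, P) ⊗[G k] Bk) :=
    RingEquiv.toCommRingCatIso eB.toRingEquiv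
  have hε : φ ≫ εB.hom = β := CommRingCat.hom_ext (RingHom.ext fun r => eB.commutes r)
  let m : pullback V.hom (proj Xs c k.1) ⟶ W.left :=
    h3.isoPullback.inv ≫ Spec.map εB.hom ≫ hO.fromSpec
  have hm : m ≫ W.hom = pullback.snd V.hom (proj Xs c k.1) := by
    show (h3.isoPullback.inv ≫ Spec.map εB.hom ≫ hO.fromSpec) ≫ W.hom = _
    refine (Category.assoc _ _ _).trans ((congrArg (h3.isoPullback.inv ≫ ·) ?_).trans
      h3.isoPullback_inv_snd)
    refine (Category.assoc _ _ _).trans ((congrArg (Spec.map εB.hom ≫ ·)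
      (IsAffineOpen.SpecMap_appLE_fromSpec W.hom hP hO hOP).symm).trans ?_)
    rw [← Category.assoc, ← Spec.map_comp, hε]
  refine ⟨MorphismProperty.Over.homMk m hm, inferInstanceAs (IsAffine (Spec (CommRingCat.of Bk))), ?_⟩
  show x ∈ Set.range (h3.isoPullback.inv ≫ Spec.map εB.hom ≫ hO.fromSpec).base
  have hx : x ∈ Set.range hO.fromSpec.base := by rw [hO.range_fromSpec]; exact hxO
  obtain ⟨y, hy⟩ := hx
  haveI : IsIso (h3.isoPullback.inv ≫ Spec.map εB.hom) := inferInstance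
  obtain ⟨z, hz⟩ := (h3.isoPullback.inv ≫ Spec.map εB.hom).surjective y
  refine ⟨z, ?_⟩
  rw [← Category.assoc, Scheme.Hom.comp_apply, hz]
  exact hy

end Groth.EtaleBase.EtLimit
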