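import Groth.Prelude.Def_EtCore
import Mathlib.CategoryTheory.Functor.Flat

/-!
The category of étale schemes over the members of an inverse system of schemes, and its base change
functor to the étale schemes over a cone point, which is representably flat.
-/

set_option autoImplicit false

universe u

open CategoryTheory CategoryTheory.Limits AlgebraicGeometry Opposite

namespace Groth.EtaleBase.EtLimit

variable {ι : Type u} [Preorder ι] (Xs : ιᵒᵖ ⥤ Scheme.{u})

/-- The transition morphism. -/
abbrev trn {i j : ι} (h : i ≤ j) : Xs.obj (op j) ⟶ Xs.obj (op i) := Xs.map (homOfLE h).op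

lemma trn_refl (i : ι) (h : i ≤ i) : trn Xs h = 𝟙 _ := Xs.map_id _

lemma trn_trn {i j k : ι} (h : i ≤ j) (h' : j ≤ k) : trn Xs h' ≫ trn Xs h = trn Xs (h.trans h') := by
  rw [← Functor.map_comp]; rfl

/-- An étale scheme over a member of the system. -/
structure Obj : Type (u + 1) where
  /-- the index -/
  idx : ι
  /-- the étale scheme -/
  obj : (Xs.obj (op idx)).Etale

namespace Obj

variable {Xs}

/-- Morphisms. -/
abbrev Hom (a b : Obj Xs) : Type u :=
  { f : a.obj.left ⟶ b.obj.left // ∃ h : b.idx ≤ a.idx, f ≫ b.obj.hom = a.obj.hom ≫ trn Xs h }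

instance category : Category.{u} (Obj Xs) where
  Hom := Hom
  id a := ⟨𝟙 _, le_rfl, (Category.id_comp _).trans
    ((Category.comp_id _).symm.trans (congrArg (a.obj.hom ≫ ·) (trn_refl Xs a.idx le_rfl).symm))⟩
  comp {a b d} f g := ⟨f.1 ≫ g.1, by
    obtain ⟨h, hf⟩ := f.2
    obtain ⟨h', hg⟩ := g.2
    exact ⟨h'.trans h, (Category.assoc _ _ _).trans ((congrArg (f.1 ≫ ·) hg).trans
      ((Category.assoc _ _ _).symm.trans ((congrArg (· ≫ trn Xs h') hf).trans
        ((Category.assoc _ _ _).trans (congrArg (a.obj.hom ≫ ·) (trn_trn Xs h' h))))))⟩⟩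
  id_comp f := Subtype.ext (Category.id_comp _)
  comp_id f := Subtype.ext (Category.comp_id _)
  assoc f g h := Subtype.ext (Category.assoc _ _ _)

lemma idx_le {a b : Obj Xs} (f : a ⟶ b) : b.idx ≤ a.idx := f.2.fst

lemma w {a b : Obj Xs} (f : a ⟶ b) (h : b.idx ≤ a.idx) :
    f.1 ≫ b.obj.hom = a.obj.hom ≫ trn Xs h := f.2.snd

lemma hom_ext {a b : Obj Xs} {f g : a ⟶ b} (h : f.1 = g.1) : f = g := Subtype.ext h

@[simp] lemma comp_val {a b d : Obj Xs} (f : a ⟶ b) (g : b ⟶ d) : (f ≫ g).1 = f.1 ≫ g.1 := rfl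

@[simp] lemma id_val (a : Obj Xs) : (𝟙 a : a ⟶ a).1 = 𝟙 _ := rfl

end Obj

/-- The inclusion of a fibre. -/
def incl (j : ι) : (Xs.obj (op j)).Etale ⥤ Obj Xs where
  obj V := ⟨j, V⟩
  map {V W} f := ⟨f.left, le_rfl, (MorphismProperty.Over.w f).trans
    ((Category.comp_id _).symm.trans (congrArg (V.hom ≫ ·) (trn_refl Xs j le_rfl).symm))⟩
  map_id _ := rfl
  map_comp _ _ := rfl

/-- The base change of an object to a later stage, with its projection. -/
noncomputable def ext (b : Obj Xs) {j : ι} (h : b.idx ≤ j) :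
    (incl Xs j).obj ((EtCoh.bc (trn Xs h)).obj b.obj) ⟶ b :=
  ⟨(pullback.fst b.obj.hom (trn Xs h) : pullback b.obj.hom (trn Xs h) ⟶ b.obj.left), h,
    pullback.condition⟩

/-- A morphism factors through the base change of its target. -/
noncomputable def factor {a b : Obj Xs} (f : a ⟶ b) (h : b.idx ≤ a.idx) :
    a.obj ⟶ (EtCoh.bc (trn Xs h)).obj b.obj :=
  MorphismProperty.Over.homMk (pullback.lift f.1 a.obj.hom (Obj.w f h)) (pullback.lift_snd _ _ _)

lemma factor_ext {a b : Obj Xs} (f : a ⟶ b) (h : b.idx ≤ a.idx) :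
    (incl Xs a.idx).map (factor Xs f h) ≫ ext Xs b h = f :=
  Obj.hom_ext (pullback.lift_fst _ _ _)

variable (c : Cone Xs)

/-- The projection. -/
abbrev proj (i : ι) : c.pt ⟶ Xs.obj (op i) := c.π.app (op i)

lemma proj_trn {i j : ι} (h : i ≤ j) : proj Xs c j ≫ trn Xs h = proj Xs c i := c.w (homOfLE h).op

/-- Base change to the cone point. -/
noncomputable def toPt : Obj Xs ⥤ c.pt.Etale where
  obj a := (EtCoh.bc (proj Xs c a.idx)).obj a.obj
  map {a b} f := MorphismProperty.Over.homMk
    (pullback.lift (pullback.fst a.obj.hom (proj Xs c a.idx) ≫ f.1)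
      (pullback.snd a.obj.hom (proj Xs c a.idx)) (by
        obtain ⟨h, hf⟩ := f.2
        rw [Category.assoc, hf, ← Category.assoc, pullback.condition, Category.assoc, proj_trn]) :
      pullback a.obj.hom (proj Xs c a.idx) ⟶ pullback b.obj.hom (proj Xs c b.idx))
    (pullback.lift_snd _ _ _)
  map_id a := MorphismProperty.Over.Hom.ext (pullback.hom_ext
    ((pullback.lift_fst _ _ _).trans ((Category.comp_id _).trans (Category.id_comp _).symm))
    ((pullback.lift_snd _ _ _).trans (Category.id_comp _).symm))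
  map_comp {a b d} f g := MorphismProperty.Over.Hom.ext (pullback.hom_ext
    ((pullback.lift_fst _ _ _).trans (((Category.assoc _ _ _).trans
      ((congrArg (_ ≫ ·) (pullback.lift_fst _ _ _)).trans ((Category.assoc _ _ _).symm.trans
        ((congrArg (· ≫ g.1) (pullback.lift_fst _ _ _)).trans (Category.assoc _ _ _))))).symm))
    ((pullback.lift_snd _ _ _).trans (((Category.assoc _ _ _).trans
      ((congrArg (_ ≫ ·) (pullback.lift_snd _ _ _)).trans (pullback.lift_snd _ _ _))).symm)))

lemma toPt_map_fst {a b : Obj Xs} (f : a ⟶ b) :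
    ((toPt Xs c).map f).left ≫ pullback.fst b.obj.hom (proj Xs c b.idx) =
      pullback.fst a.obj.hom (proj Xs c a.idx) ≫ f.1 :=
  pullback.lift_fst _ _ _

lemma toPt_map_snd {a b : Obj Xs} (f : a ⟶ b) :
    ((toPt Xs c).map f).left ≫ pullback.snd b.obj.hom (proj Xs c b.idx) =
      pullback.snd a.obj.hom (proj Xs c a.idx) :=
  pullback.lift_snd _ _ _

lemma toPt_map_incl (j : ι) {V W : (Xs.obj (op j)).Etale} (f : V ⟶ W) :
    (toPt Xs c).map ((incl Xs j).map f) = (EtCoh.bc (proj Xs c j)).map f :=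
  MorphismProperty.Over.Hom.ext (pullback.hom_ext
    ((pullback.lift_fst _ _ _).trans (pullback.lift_fst _ _ _).symm)
    ((pullback.lift_snd _ _ _).trans (pullback.lift_snd _ _ _).symm))

/-- The inverse of the base change of a projection to an earlier stage. -/
noncomputable def extInv (b : Obj Xs) {j : ι} (h : b.idx ≤ j) :
    (toPt Xs c).obj b ⟶
      (toPt Xs c).obj ((incl Xs j).obj ((EtCoh.bc (trn Xs h)).obj b.obj)) :=
  MorphismProperty.Over.homMk
    (pullback.lift (pullback.lift (pullback.fst b.obj.hom (proj Xs c b.idx))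
        (pullback.snd b.obj.hom (proj Xs c b.idx) ≫ proj Xs c j) (by
          rw [Category.assoc, proj_trn]; exact pullback.condition))
      (pullback.snd b.obj.hom (proj Xs c b.idx)) (pullback.lift_snd _ _ _) :
      pullback b.obj.hom (proj Xs c b.idx) ⟶ pullback ((EtCoh.bc (trn Xs h)).obj b.obj).hom (proj Xs c j))
    (pullback.lift_snd _ _ _)

lemma map_ext_comp_extInv (b : Obj Xs) {j : ι} (h : b.idx ≤ j) :
    (toPt Xs c).map (ext Xs b h) ≫ extInv Xs c b h = 𝟙 _ := by
  refine MorphismProperty.Over.Hom.ext (pullback.hom_ext ?_ ?_)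
  · refine ((Category.assoc _ _ _).trans ((congrArg (_ ≫ ·) (pullback.lift_fst _ _ _)).trans ?_)).trans
      (Category.id_comp _).symm
    refine pullback.hom_ext ?_ ?_
    · exact (Category.assoc _ _ _).trans ((congrArg (_ ≫ ·) (pullback.lift_fst _ _ _)).trans
        (toPt_map_fst Xs c (ext Xs b h)))
    · exact (Category.assoc _ _ _).trans ((congrArg (_ ≫ ·) (pullback.lift_snd _ _ _)).trans
        ((Category.assoc _ _ _).symm.trans ((congrArg (· ≫ proj Xs c j)
          (toPt_map_snd Xs c (ext Xs b h))).trans pullback.condition.symm)))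
  · exact ((Category.assoc _ _ _).trans ((congrArg (_ ≫ ·) (pullback.lift_snd _ _ _)).trans
      (toPt_map_snd Xs c (ext Xs b h)))).trans (Category.id_comp _).symm

lemma extInv_comp_map_ext (b : Obj Xs) {j : ι} (h : b.idx ≤ j) :
    extInv Xs c b h ≫ (toPt Xs c).map (ext Xs b h) = 𝟙 _ := by
  refine MorphismProperty.Over.Hom.ext (pullback.hom_ext ?_ ?_)
  · exact ((Category.assoc _ _ _).trans ((congrArg (_ ≫ ·) (toPt_map_fst Xs c (ext Xs b h))).trans
      ((Category.assoc _ _ _).symm.trans ((congrArg (· ≫ _) (pullback.lift_fst _ _ _)).trans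
        (pullback.lift_fst _ _ _))))).trans (Category.id_comp _).symm
  · exact ((Category.assoc _ _ _).trans ((congrArg (_ ≫ ·) (toPt_map_snd Xs c (ext Xs b h))).trans
      (pullback.lift_snd _ _ _))).trans (Category.id_comp _).symm

instance isIso_toPt_map_ext (b : Obj Xs) {j : ι} (h : b.idx ≤ j) :
    IsIso ((toPt Xs c).map (ext Xs b h)) :=
  ⟨⟨extInv Xs c b h, map_ext_comp_extInv Xs c b h, extInv_comp_map_ext Xs c b h⟩⟩

lemma toPt_map_incl_comp {U : c.pt.Etale} {j : ι} {V W : (Xs.obj (op j)).Etale} (f : V ⟶ W)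
    (s : U ⟶ (EtCoh.bc (proj Xs c j)).obj V) (t : U ⟶ (EtCoh.bc (proj Xs c j)).obj W)
    (h : s ≫ (EtCoh.bc (proj Xs c j)).map f = t) {d : Obj Xs} (g : (incl Xs j).obj W ⟶ d) :
    CategoryStruct.comp (X := U) (Y := (toPt Xs c).obj ((incl Xs j).obj V)) s
        ((toPt Xs c).map ((incl Xs j).map f ≫ g)) =
      CategoryStruct.comp (X := U) (Y := (toPt Xs c).obj ((incl Xs j).obj W)) t
        ((toPt Xs c).map g) := by
  subst h
  rw [Functor.map_comp, toPt_map_incl]
  exact (Category.assoc _ _ _).symm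

/-- A map to the base change of an object factors through the base change to a later stage. -/
noncomputable def liftExt {U : c.pt.Etale} (b : Obj Xs) {j : ι} (h : b.idx ≤ j)
    (s : U ⟶ (toPt Xs c).obj b) :
    U ⟶ (EtCoh.bc (proj Xs c j)).obj ((EtCoh.bc (trn Xs h)).obj b.obj) :=
  s ≫ extInv Xs c b h

lemma liftExt_fac {U : c.pt.Etale} (b : Obj Xs) {j : ι} (h : b.idx ≤ j)
    (s : U ⟶ (toPt Xs c).obj b) :
    CategoryStruct.comp (X := U)
      (Y := (toPt Xs c).obj ((incl Xs j).obj ((EtCoh.bc (trn Xs h)).obj b.obj)))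
      (liftExt Xs c b h s) ((toPt Xs c).map (ext Xs b h)) = s :=
  (Category.assoc _ _ _).trans ((congrArg (s ≫ ·) (extInv_comp_map_ext Xs c b h)).trans (Category.comp_id s))

variable [Nonempty ι] [IsDirectedOrder ι]

/-- Base change to the cone point is representably flat. -/
theorem isCofiltered_structuredArrow (U : c.pt.Etale) :
    IsCofiltered (StructuredArrow U (toPt Xs c)) := by
  have : Nonempty (StructuredArrow U (toPt Xs c)) := by
    obtain ⟨j⟩ := ‹Nonempty ι›
    exact ⟨StructuredArrow.mk (Y := (incl Xs j).obj (EtCoh.top _))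
      ((EtCore.bcTopIsTerminal (proj Xs c j)).from U)⟩
  have : IsCofilteredOrEmpty (StructuredArrow U (toPt Xs c)) := by
    refine ⟨fun A B => ?_, fun {A B} f g => ?_⟩
    · obtain ⟨k, hk₁, hk₂⟩ := exists_ge_ge A.right.idx B.right.idx
      let a := (EtCoh.bc (trn Xs hk₁)).obj A.right.obj
      let b := (EtCoh.bc (trn Xs hk₂)).obj B.right.obj
      let F := EtCoh.bc (proj Xs c k)
      let sa : U ⟶ F.obj a := liftExt Xs c A.right hk₁ A.hom
      let sb : U ⟶ F.obj b := liftExt Xs c B.right hk₂ B.hom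
      let s : U ⟶ F.obj (a ⨯ b) := prod.lift sa sb ≫ inv (prodComparison F a b)
      have h1 : s ≫ F.map prod.fst = sa := by
        simp only [s, Category.assoc]
        rw [← prodComparison_fst F (A := a) (B := b), IsIso.inv_hom_id_assoc, prod.lift_fst]
      have h2 : s ≫ F.map prod.snd = sb := by
        simp only [s, Category.assoc]
        rw [← prodComparison_snd F (A := a) (B := b), IsIso.inv_hom_id_assoc, prod.lift_snd]
      refine ⟨StructuredArrow.mk (Y := (incl Xs k).obj (a ⨯ b)) s,
        StructuredArrow.homMk ((incl Xs k).map prod.fst ≫ ext Xs A.right hk₁) ?_,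
        StructuredArrow.homMk ((incl Xs k).map prod.snd ≫ ext Xs B.right hk₂) ?_, trivial⟩
      · exact (toPt_map_incl_comp Xs c prod.fst s sa h1 _).trans (liftExt_fac Xs c _ _ _)
      · exact (toPt_map_incl_comp Xs c prod.snd s sb h2 _).trans (liftExt_fac Xs c _ _ _)
    · obtain ⟨⟨⟩, a₀, sA⟩ := A
      obtain ⟨⟨⟩, b₀, sB⟩ := B
      have hf0 : sA ≫ (toPt Xs c).map f.right = sB := StructuredArrow.w f
      have hg0 : sA ≫ (toPt Xs c).map g.right = sB := StructuredArrow.w g
      have hle : b₀.idx ≤ a₀.idx := Obj.idx_le f.right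
      let F := EtCoh.bc (proj Xs c a₀.idx)
      let f' : a₀.obj ⟶ _ := factor Xs f.right hle
      let g' : a₀.obj ⟶ _ := factor Xs g.right hle
      have key : ∀ φ : a₀ ⟶ b₀, sA ≫ (toPt Xs c).map φ = sB →
          CategoryStruct.comp (X := U) (Y := F.obj a₀.obj) sA (F.map (factor Xs φ hle)) =
            liftExt Xs c b₀ hle sB := by
        intro φ hφ
        have h1 := toPt_map_incl_comp Xs c (factor Xs φ hle) sA _ rfl (ext Xs b₀ hle)
        rw [factor_ext] at h1
        have h2 := h1.symm.trans (hφ.trans (liftExt_fac Xs c b₀ hle sB).symm)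
        exact (cancel_mono ((toPt Xs c).map (ext Xs b₀ hle))).1 h2
      have hw : CategoryStruct.comp (X := U) (Y := F.obj a₀.obj) sA (F.map f') =
          CategoryStruct.comp (X := U) (Y := F.obj a₀.obj) sA (F.map g') :=
        (key _ hf0).trans (key _ hg0).symm
      haveI : PreservesLimit (parallelPair f' g') F := inferInstance
      let s : U ⟶ F.obj (equalizer f' g') :=
        equalizer.lift (X := F.obj a₀.obj) sA hw ≫ inv (equalizerComparison f' g' F)
      have h3 : s ≫ F.map (equalizer.ι f' g') = sA := by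
        simp only [s, Category.assoc]
        rw [← equalizerComparison_comp_π f' g' F, IsIso.inv_hom_id_assoc, equalizer.lift_ι]
      refine ⟨StructuredArrow.mk (Y := (incl Xs a₀.idx).obj (equalizer f' g')) s,
        StructuredArrow.homMk ((incl Xs a₀.idx).map (equalizer.ι f' g')) ?_, ?_⟩
      · exact (congrArg (s ≫ ·) (toPt_map_incl Xs c _ _)).trans h3
      · apply StructuredArrow.ext
        show (incl Xs a₀.idx).map (equalizer.ι f' g') ≫ f.right =
          (incl Xs a₀.idx).map (equalizer.ι f' g') ≫ g.right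
        rw [← factor_ext Xs f.right hle, ← factor_ext Xs g.right hle, ← Category.assoc,
          ← Category.assoc]
        exact congrArg (· ≫ ext Xs b₀ hle)
          ((Functor.map_comp _ _ _).symm.trans ((congrArg (incl Xs a₀.idx).map
            (equalizer.condition f' g')).trans (Functor.map_comp _ _ _)))
  constructor

instance representablyFlat_toPt : RepresentablyFlat (toPt Xs c) :=
  ⟨fun U => isCofiltered_structuredArrow Xs c U⟩

end Groth.EtaleBase.EtLimit
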