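import Groth.Agent.EtaleBase.Limit.Counit
import Groth.Prelude.Def_EtGm

/-!
Sheaves on schemes commuting with affine limits give systems with inverse image the sheaf of the
limit.
-/

set_option autoImplicit false

universe u

open CategoryTheory CategoryTheory.Limits CategoryTheory.Abelian AlgebraicGeometry Opposite

namespace Groth.EtaleBase.EtLimit

variable (P : Scheme.{u}ᵒᵖ ⥤ AddCommGrpCat.{u + 1}) (hP : Presheaf.IsSheaf Scheme.etaleTopology P)

/-- The coefficient sheaf on a scheme. -/
noncomputable def coeff (X : Scheme.{u}) : EtCoh.Ab X :=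
  ((Scheme.Etale.forget X ⋙ Over.forget X).sheafPushforwardContinuous _ _ Scheme.etaleTopology).obj
    ⟨P, hP⟩

/-- The functoriality of the coefficient sheaves. -/
noncomputable def coeffPush {X Y : Scheme.{u}} (v : X ⟶ Y) :
    coeff P hP Y ⟶ (EtCoh.push v).obj (coeff P hP X) :=
  ObjectProperty.homMk (Functor.whiskerRight (NatTrans.op (EtLim.bcProj v)) P)

/-- The pullback map on the cohomology of the coefficient sheaves. -/
noncomputable def coeffPull {X Y : Scheme.{u}} (v : X ⟶ Y) [PreservesFiniteLimits (EtCoh.pull v)]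
    (n : ℕ) : EtCoh.H Y (coeff P hP Y) n →+ EtCoh.H X (coeff P hP X) n :=
  (EtLim.HofPush v (coeff P hP X) n).comp ((EtCoh.HF Y n).map (coeffPush P hP v)).hom

/-- Commutation with limits of systems with affine transition morphisms. -/
structure CommutesWithLimits : Prop where
  surj : ∀ {I : Type u} [Category.{u} I] [IsCofiltered I] (D : I ⥤ Scheme.{u})
    [∀ {i j} (f : i ⟶ j), IsAffineHom (D.map f)] [∀ i, CompactSpace ↥(D.obj i)]
    [∀ i, QuasiSeparatedSpace ↥(D.obj i)] (c : Cone D), IsLimit c →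
      ∀ s : P.obj (op c.pt), ∃ (i : I) (t : P.obj (op (D.obj i))), P.map (c.π.app i).op t = s
  zero : ∀ {I : Type u} [Category.{u} I] [IsCofiltered I] (D : I ⥤ Scheme.{u})
    [∀ {i j} (f : i ⟶ j), IsAffineHom (D.map f)] [∀ i, CompactSpace ↥(D.obj i)]
    [∀ i, QuasiSeparatedSpace ↥(D.obj i)] (c : Cone D), IsLimit c →
      ∀ (i : I) (t : P.obj (op (D.obj i))), P.map (c.π.app i).op t = 0 →
        ∃ (j : I) (f : j ⟶ i), P.map (D.map f).op t = 0

lemma coeff_map {X : Scheme.{u}} {V W : X.Etale} (f : V ⟶ W) (t : P.obj (op W.left)) :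
    (coeff P hP X).obj.map f.op t = P.map f.left.op t :=
  rfl

section System

variable {ι : Type u} [Preorder ι] (Xs : ιᵒᵖ ⥤ Scheme.{u})

/-- The underlying scheme. -/
def forgetObj : Obj Xs ⥤ Scheme.{u} where
  obj a := a.obj.left
  map f := f.1

/-- The system of coefficient sheaves. -/
noncomputable def coeffSys : AbSys Xs :=
  ⟨(forgetObj Xs).op ⋙ P, Presheaf.isSheaf_of_isSheaf_comp _ _ (forget AddCommGrpCat.{u + 1})
    ((isSheaf_iff_isSheaf_of_type _ _).2 (isSheaf_of_fibres Xs _ fun j =>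
      (isSheaf_iff_isSheaf_of_type _ _).1
        (GrothendieckTopology.HasSheafCompose.isSheaf (F := forget AddCommGrpCat.{u + 1})
          (coeff P hP (Xs.obj (op j))).obj (coeff P hP (Xs.obj (op j))).property)))⟩

/-- The restriction to a stage is the coefficient sheaf of the stage. -/
noncomputable def resCoeff (j : ι) : (res Xs j).obj (coeffSys P hP Xs) ≅ coeff P hP (Xs.obj (op j)) :=
  (fullyFaithfulSheafToPresheaf _ _).preimageIso
    (NatIso.ofComponents (fun _ => Iso.refl _)
      fun {V W} f => (Category.comp_id _).trans (Category.id_comp _).symm)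

lemma transHom_coeffSys {j k : ι} (h : j ≤ k) :
    (resCoeff P hP Xs j).hom ≫ coeffPush P hP (trn Xs h) =
      transHom (coeffSys P hP Xs) h ≫ (EtCoh.push (trn Xs h)).map (resCoeff P hP Xs k).hom := by
  apply (sheafToPresheaf _ _).map_injective
  ext Z y
  rfl

variable [Nonempty ι] [IsDirectedOrder ι] (c : Cone Xs)

/-- The comparison with the coefficient sheaf of the limit. -/
noncomputable def coeffHom : coeffSys P hP Xs ⟶ (pushSys Xs c).obj (coeff P hP c.pt) :=
  ObjectProperty.homMk
    { app := fun a => P.map (pullback.fst a.unop.obj.hom (proj Xs c a.unop.idx)).op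
      naturality := fun a b f =>
        (P.map_comp _ _).symm.trans ((congrArg (fun m => P.map (Quiver.Hom.op m))
          (toPt_map_fst Xs c f.unop).symm).trans (P.map_comp _ _)) }

/-- Its adjoint. -/
noncomputable def coeffComp : (pullSys Xs c).obj (coeffSys P hP Xs) ⟶ coeff P hP c.pt :=
  ((sysAdj Xs c).homEquiv _ _).symm (coeffHom P hP Xs c)

lemma coeffComp_unit (a : Obj Xs) (y : P.obj (op a.obj.left)) :
    (coeffComp P hP Xs c).hom.app (op ((toPt Xs c).obj a)) (unitApp c (coeffSys P hP Xs) a y) =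
      P.map (pullback.fst a.obj.hom (proj Xs c a.idx)).op y := by
  have h : (sysAdj Xs c).unit.app _ ≫ (pushSys Xs c).map (coeffComp P hP Xs c) =
      coeffHom P hP Xs c :=
    ((sysAdj Xs c).homEquiv_unit _ _ _).symm.trans (Equiv.apply_symm_apply _ _)
  exact ConcreteCategory.congr_hom (congrArg (fun φ => φ.hom.app (op a)) h) y

lemma coneHom_coeffSys (j : ι) :
    (resCoeff P hP Xs j).hom ≫ coeffPush P hP (proj Xs c j) =
      coneHom c (coeffSys P hP Xs) j ≫
        (EtCoh.push (proj Xs c j)).map (coeffComp P hP Xs c) := by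
  apply (sheafToPresheaf _ _).map_injective
  ext Z y
  exact (coeffComp_unit P hP Xs c ((incl Xs j).obj Z.unop) y).symm

end System

section Iso

variable {P} {hP}
variable {ι : Type u} [Preorder ι] [Nonempty ι] [IsDirectedOrder ι] {Xs : ιᵒᵖ ⥤ Scheme.{u}}
  [∀ (p q : ιᵒᵖ) (h : p ⟶ q), IsAffineHom (Xs.map h)]
  [∀ p, CompactSpace ↥(Xs.obj p)] [∀ p, QuasiSeparatedSpace ↥(Xs.obj p)]
  {c : Cone Xs} (hc : IsLimit c)

include hc in
/-- The inverse image of the system of coefficient sheaves is the coefficient sheaf of the limit. -/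
theorem isIso_coeffComp (hlim : CommutesWithLimits P) : IsIso (coeffComp P hP Xs c) := by
  refine isIso_of_pieces _ (fun V => ∃ a : Obj Xs, QC a ∧ (toPt Xs c).obj a = V) (fun U x => ?_) ?_ ?_
  · obtain ⟨a, m, ha, -, hx⟩ := exists_piece hc (c.pt.smallEtaleTopology.top_mem U) x
    exact ⟨_, m, ⟨a, ha, rfl⟩, hx⟩
  · rintro _ ⟨a, ha, rfl⟩ s hs
    obtain ⟨L, h, y, hy⟩ := exists_lift _ hc ha s
    let b : Obj Xs := (incl Xs L).obj ((EtCoh.bc (trn Xs h)).obj a.obj)
    have hb : QC b := ha.ext h
    let V : (Xs.obj (op L)).Etale := (EtCoh.bc (trn Xs h)).obj a.obj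
    haveI : CompactSpace ↥V.left := hb.1
    haveI : QuasiSeparatedSpace ↥V.left := hb.2
    haveI := fun k => compactSpace_stageDiagram V k
    haveI := fun k => quasiSeparatedSpace_stageDiagram V k
    have h0 : P.map (pullback.fst V.hom (proj Xs c L)).op y = 0 := by
      refine (coeffComp_unit P hP Xs c b y).symm.trans ((congrArg _ hy).trans ?_)
      refine (NatTrans.naturality_apply (coeffComp P hP Xs c).hom _ s).trans ?_
      exact (congrArg _ hs).trans (map_zero _)
    let s₀ := pullback.snd ((Over.post Xs).obj (Over.mk (𝟙 (op L)))).hom V.hom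
    have hπ : (Groth.Limits.pullbackCone Xs (op L) V.hom c).π.app (Over.mk (𝟙 (op L))) ≫ s₀ =
        limToStage c V ≫ pullback.fst V.hom (proj Xs c L) :=
      (pullback.lift_snd _ _ _).trans (limToStage_fst c V).symm
    obtain ⟨k, q, hk⟩ := hlim.zero (stageDiagram V) (Groth.Limits.pullbackCone Xs (op L) V.hom c)
      (Groth.Limits.isLimitPullbackCone Xs (op L) V.hom hc) (Over.mk (𝟙 (op L))) (P.map s₀.op y)
      ((mapMap P _ _ y).trans ((congrArg (fun m => P.map (Quiver.Hom.op m) y) hπ).trans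
        ((mapMap P _ _ y).symm.trans ((congrArg _ h0).trans (map_zero _)))))
    have hLk : L ≤ k.left.unop := leOfHom k.hom.unop
    have hq : (stageDiagram V).map q ≫ s₀ = pullback.snd ((Over.post Xs).obj k).hom V.hom :=
      pullback.lift_snd _ _ _
    have hz : (coeffSys P hP Xs).obj.map (ext Xs b hLk).op y = 0 := by
      show P.map (pullback.fst V.hom (trn Xs hLk)).op y = 0
      refine (congrArg (fun m => P.map (Quiver.Hom.op m) y) (bcToStage_snd hLk V).symm).trans ?_
      refine (mapMap P _ _ y).symm.trans (Eq.trans (congrArg _ ?_) (map_zero (P.map (bcToStage hLk V).op).hom))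
      exact (congrArg (fun m => P.map (Quiver.Hom.op m) y) hq.symm).trans ((mapMap P _ _ y).symm.trans hk)
    have h1 : unitApp c (coeffSys P hP Xs) _ y = 0 := by
      have := (unitApp_naturality c (coeffSys P hP Xs) (ext Xs b hLk) y).symm.trans
        ((congrArg _ hz).trans (map_zero _))
      exact (ConcreteCategory.bijective_of_isIso
        (((pullSys Xs c).obj (coeffSys P hP Xs)).obj.map ((toPt Xs c).map (ext Xs b hLk)).op)).1
          (this.trans (map_zero _).symm)
    exact (ConcreteCategory.bijective_of_isIso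
      (((pullSys Xs c).obj (coeffSys P hP Xs)).obj.map ((toPt Xs c).map (ext Xs a h)).op)).1
        ((hy.symm.trans h1).trans (map_zero _).symm)
  · rintro _ ⟨a, ha, rfl⟩ t
    let V : (Xs.obj (op a.idx)).Etale := a.obj
    haveI : CompactSpace ↥V.left := ha.1
    haveI : QuasiSeparatedSpace ↥V.left := ha.2
    haveI := fun k => compactSpace_stageDiagram V k
    haveI := fun k => quasiSeparatedSpace_stageDiagram V k
    obtain ⟨k, y₀, hy₀⟩ := hlim.surj (stageDiagram V)
      (Groth.Limits.pullbackCone Xs (op a.idx) V.hom c)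
      (Groth.Limits.isLimitPullbackCone Xs (op a.idx) V.hom hc) (P.map (limToStage c V).op t)
    have hk : a.idx ≤ k.left.unop := leOfHom k.hom.unop
    let b : Obj Xs := (incl Xs k.left.unop).obj ((EtCoh.bc (trn Xs hk)).obj a.obj)
    let e : ((toPt Xs c).obj b).left ⟶
        (Groth.Limits.pullbackCone Xs (op a.idx) V.hom c).pt :=
      ((toPt Xs c).map (ext Xs a hk)).left ≫ (pullbackSymmetry V.hom (proj Xs c a.idx)).hom
    have he : e ≫ limToStage c V = ((toPt Xs c).map (ext Xs a hk)).left :=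
      (Category.assoc _ _ _).trans ((congrArg (_ ≫ ·) (Iso.hom_inv_id _)).trans (Category.comp_id _))
    have hfst : pullback.fst b.obj.hom (proj Xs c b.idx) ≫ bcToStage hk V =
        e ≫ (Groth.Limits.pullbackCone Xs (op a.idx) V.hom c).π.app k := by
      refine pullback.hom_ext ?_ ?_
      · refine ((Category.assoc _ _ _).trans ((congrArg (_ ≫ ·)
          (pullbackSymmetry_hom_comp_fst _ _)).trans ?_))
        refine Eq.trans ?_ ((Category.assoc _ _ _).trans (congrArg (e ≫ ·)
          (pullback.lift_fst _ _ _))).symm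
        refine pullback.condition.trans ?_
        refine Eq.trans ?_ ((Category.assoc _ _ _).trans (congrArg
          (((toPt Xs c).map (ext Xs a hk)).left ≫ ·) ((Category.assoc _ _ _).symm.trans
            (congrArg (· ≫ proj Xs c k.left.unop) (pullbackSymmetry_hom_comp_fst _ _))))).symm
        exact (congrArg (· ≫ proj Xs c k.left.unop) (toPt_map_snd Xs c (ext Xs a hk)).symm).trans
          (Category.assoc _ _ _)
      · refine ((Category.assoc _ _ _).trans ((congrArg (_ ≫ ·) (bcToStage_snd hk V)).trans ?_))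
        refine Eq.trans ?_ ((Category.assoc _ _ _).trans (congrArg (e ≫ ·)
          (pullback.lift_snd _ _ _))).symm
        refine Eq.trans (toPt_map_fst Xs c (ext Xs a hk)).symm ?_
        exact ((Category.assoc _ _ _).trans (congrArg (((toPt Xs c).map (ext Xs a hk)).left ≫ ·)
          (pullbackSymmetry_hom_comp_snd _ _))).symm
    refine ⟨((pullSys Xs c).obj (coeffSys P hP Xs)).obj.map (extInv Xs c a hk).op
      (unitApp c (coeffSys P hP Xs) b (P.map (bcToStage hk V).op y₀)), ?_⟩
    refine (NatTrans.naturality_apply (coeffComp P hP Xs c).hom _ _).trans ?_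
    have h1 : (coeffComp P hP Xs c).hom.app _ (unitApp c (coeffSys P hP Xs) b
        (P.map (bcToStage hk V).op y₀)) = P.map ((toPt Xs c).map (ext Xs a hk)).left.op t := by
      refine (coeffComp_unit P hP Xs c b _).trans ((mapMap P _ _ _).trans ?_)
      refine (congrArg (fun m => P.map (Quiver.Hom.op m) y₀) hfst).trans ?_
      refine (mapMap P _ _ _).symm.trans ((congrArg _ hy₀).trans ((mapMap P _ _ _).trans ?_))
      exact congrArg (fun m => P.map (Quiver.Hom.op m) t) he
    refine (congrArg _ h1).trans ?_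
    refine (mapMap (coeff P hP c.pt).obj (extInv Xs c a hk) ((toPt Xs c).map (ext Xs a hk)) t).trans ?_
    exact (congrArg (fun m => (coeff P hP c.pt).obj.map (Quiver.Hom.op m) t)
      (extInv_comp_map_ext Xs c a hk)).trans (map_one_apply (coeff P hP c.pt).obj t)

include hc in
/-- Cohomology with these coefficients commutes with limits. -/
theorem coeff_colimit (hlim : CommutesWithLimits P) (n : ℕ)
    [∀ a, PreservesFiniteLimits (EtCoh.pull (c.π.app a))]
    [∀ ⦃a b : ιᵒᵖ⦄ (h : a ⟶ b), PreservesFiniteLimits (EtCoh.pull (Xs.map h))] :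
    (∀ ξ : EtCoh.H c.pt (coeff P hP c.pt) n,
      ∃ (j : ι) (ξj : EtCoh.H (Xs.obj (op j)) (coeff P hP (Xs.obj (op j))) n),
        coeffPull P hP (proj Xs c j) n ξj = ξ) ∧
    (∀ (j : ι) (ξj : EtCoh.H (Xs.obj (op j)) (coeff P hP (Xs.obj (op j))) n),
      coeffPull P hP (proj Xs c j) n ξj = 0 →
        ∃ (k : ι) (hk : j ≤ k), coeffPull P hP (trn Xs hk) n ξj = 0) := by
  haveI := isIso_coeffComp (hP := hP) hc hlim
  have hcol := colimit_cohomology hc n (coeffSys P hP Xs)
  have hT : ∀ (j : ι) (x : EtCoh.H (Xs.obj (op j)) ((res Xs j).obj (coeffSys P hP Xs)) n),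
      coeffPull P hP (proj Xs c j) n (x.comp (Ext.mk₀ (resCoeff P hP Xs j).hom) (add_zero n)) =
        (T c j _ n x).comp (Ext.mk₀ (coeffComp P hP Xs c)) (add_zero n) := fun j x => by
    show EtLim.HofPush _ _ n ((x.comp (Ext.mk₀ (resCoeff P hP Xs j).hom) (add_zero n)).comp
      (Ext.mk₀ (coeffPush P hP (proj Xs c j))) (add_zero n)) = _
    rw [hofPush_eq, Ext.comp_assoc_of_third_deg_zero, Ext.mk₀_comp_mk₀]
    exact pullOn_map _ _ _ _ _ ((Category.comp_id _).trans (coneHom_coeffSys P hP Xs c j)) n x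
  refine ⟨fun ξ => ?_, fun j ξj hξ => ?_⟩
  · obtain ⟨j, x, hx⟩ := hcol.1 (ξ.comp (Ext.mk₀ (inv (coeffComp P hP Xs c))) (add_zero n))
    refine ⟨j, _, (hT j x).trans ?_⟩
    rw [hx, Ext.comp_assoc_of_third_deg_zero, Ext.mk₀_comp_mk₀, IsIso.inv_hom_id]
    exact Ext.comp_mk₀_id _
  · let x := ξj.comp (Ext.mk₀ (resCoeff P hP Xs j).inv) (add_zero n)
    have hx : ξj = x.comp (Ext.mk₀ (resCoeff P hP Xs j).hom) (add_zero n) := by
      rw [Ext.comp_assoc_of_third_deg_zero, Ext.mk₀_comp_mk₀, Iso.inv_hom_id]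
      exact (Ext.comp_mk₀_id _).symm
    rw [hx] at hξ ⊢
    have h0 : T c j _ n x = 0 := by
      have h1 := congrArg (fun z => Ext.comp z (Ext.mk₀ (inv (coeffComp P hP Xs c))) (add_zero n))
        ((hT j x).symm.trans hξ)
      rw [Ext.comp_assoc_of_third_deg_zero, Ext.mk₀_comp_mk₀, IsIso.hom_inv_id] at h1
      exact (Ext.comp_mk₀_id _).symm.trans (h1.trans (Ext.zero_comp _ _ _ _ _))
    obtain ⟨k, hk, hR⟩ := hcol.2 j x h0
    refine ⟨k, hk, ?_⟩
    show EtLim.HofPush _ _ n ((x.comp (Ext.mk₀ (resCoeff P hP Xs j).hom) (add_zero n)).comp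
      (Ext.mk₀ (coeffPush P hP (trn Xs hk))) (add_zero n)) = _
    rw [hofPush_eq, Ext.comp_assoc_of_third_deg_zero, Ext.mk₀_comp_mk₀]
    refine (pullOn_map _ _ _ _ _ ((Category.comp_id _).trans (transHom_coeffSys P hP Xs hk)) n x).trans ?_
    exact (congrArg (fun z => Ext.comp z _ (add_zero n)) hR).trans (Ext.zero_comp _ _ _ _ _)

end Iso

end Groth.EtaleBase.EtLimit
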