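import Groth.Agent.EtaleBase.Limit.Coeff

/-!
Global functions and their units commute with limits of systems with affine transition morphisms.
-/

set_option autoImplicit false

universe u

open CategoryTheory CategoryTheory.Limits AlgebraicGeometry Opposite

namespace Groth.EtaleBase.EtLimit

theorem commutesWithLimits_ΓAdd : CommutesWithLimits EtCoh.ΓAdd.{u} where
  surj := by
    intro I _ _ D _ _ _ c hc s
    obtain ⟨i, t, ht⟩ := exists_appTop_π_eq_of_isLimit D c hc (ULift.down s)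
    exact ⟨i, ULift.up t, congrArg ULift.up ht.symm⟩
  zero := by
    intro I _ _ D _ _ _ c hc i t ht
    obtain ⟨j, f, hf⟩ := exists_appTop_map_eq_zero_of_isLimit D c hc (ULift.down t)
      (congrArg ULift.down ht)
    exact ⟨j, f, congrArg ULift.up hf⟩

theorem commutesWithLimits_ΓUnits : CommutesWithLimits EtCoh.ΓUnits.{u} where
  surj := by
    intro I _ _ D _ _ _ c hc s
    let v : Γ(c.pt, ⊤)ˣ := Additive.toMul (ULift.down s)
    obtain ⟨i, a, ha⟩ := exists_appTop_π_eq_of_isLimit D c hc (v : Γ(c.pt, ⊤))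
    obtain ⟨i', a', ha'⟩ := exists_appTop_π_eq_of_isLimit D c hc ((v⁻¹ : Γ(c.pt, ⊤)ˣ) : Γ(c.pt, ⊤))
    obtain ⟨j, f, f', -⟩ := IsCofilteredOrEmpty.cone_objs i i'
    have hw : ∀ {k : I} (g : j ⟶ k) (x : Γ(D.obj k, ⊤)),
        (c.π.app j).appTop ((D.map g).appTop x) = (c.π.app k).appTop x := fun g x => by
      rw [← c.w g, Scheme.Hom.comp_appTop]; rfl
    obtain ⟨k, g, hg⟩ := exists_appTop_map_eq_zero_of_isLimit D c hc
      ((D.map f).appTop a * (D.map f').appTop a' - 1) (by
        rw [map_sub, map_mul, map_one, hw, hw, ← ha, ← ha', Units.mul_inv, sub_self])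
    rw [map_sub, map_mul, map_one, sub_eq_zero] at hg
    let b : Γ(D.obj k, ⊤)ˣ := Units.mkOfMulEqOne _ _ hg
    refine ⟨k, ULift.up (Additive.ofMul b), congrArg (fun z => ULift.up (Additive.ofMul z)) ?_⟩
    refine Units.ext ?_
    show (c.π.app k).appTop ((D.map g).appTop ((D.map f).appTop a)) = (v : Γ(c.pt, ⊤))
    rw [show (c.π.app k).appTop ((D.map g).appTop ((D.map f).appTop a)) =
      (c.π.app j).appTop ((D.map f).appTop a) by rw [← c.w g, Scheme.Hom.comp_appTop]; rfl, hw, ← ha]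
  zero := by
    intro I _ _ D _ _ _ c hc i t ht
    let v : Γ(D.obj i, ⊤)ˣ := Additive.toMul (ULift.down t)
    have hv : (c.π.app i).appTop (v : Γ(D.obj i, ⊤)) = 1 :=
      congrArg (fun z => ((Additive.toMul (ULift.down z) : Γ(c.pt, ⊤)ˣ) : Γ(c.pt, ⊤))) ht
    obtain ⟨j, f, hf⟩ := exists_appTop_map_eq_zero_of_isLimit D c hc ((v : Γ(D.obj i, ⊤)) - 1)
      (by rw [map_sub, map_one, hv, sub_self])
    rw [map_sub, map_one, sub_eq_zero] at hf
    exact ⟨j, f, congrArg (fun z => ULift.up (Additive.ofMul z)) (Units.ext hf)⟩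

end Groth.EtaleBase.EtLimit
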