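import Groth.Agent.EtaleBase.Limit.Functors
import Groth.Agent.EtaleBase.Limit.AffineDescent
import Mathlib.CategoryTheory.Sites.LocallySurjective
import Mathlib.CategoryTheory.Limits.ConcreteCategory.Basic
import Mathlib.CategoryTheory.Limits.Preserves.Filtered

/-!
Sections over a quasi-compact quasi-separated base change of the inverse image of a system of sheaves
are the colimit of the sections.
-/

set_option autoImplicit false
set_option backward.defeqAttrib.useBackward true

universe u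

open CategoryTheory CategoryTheory.Limits AlgebraicGeometry Opposite

namespace Groth.EtaleBase.EtLimit

/-- The unit of the constructed inverse image of sheaves. -/
lemma constructedUnit_app {C D : Type*} [Category C] [Category D] {A : Type*} [Category A] (G : C ⥤ D)
    (J : GrothendieckTopology C) (K : GrothendieckTopology D) [G.IsContinuous J K]
    [∀ F : Cᵒᵖ ⥤ A, G.op.HasLeftKanExtension F] [HasWeakSheafify K A] (M : Sheaf J A) :
    ((Functor.sheafPullbackConstruction.sheafAdjunctionContinuous G A J K).unit.app M).hom =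
      G.op.lanUnit.app M.obj ≫ Functor.whiskerLeft G.op (toSheafify K (G.op.lan.obj M.obj)) := by
  refine (Adjunction.map_restrictFullyFaithful_unit_app
    (iC := sheafToPresheaf J A) (iD := 𝟭 (Sheaf K A))
    (L := Functor.sheafPullbackConstruction.sheafPullback G A J K)
    (R := G.sheafPushforwardContinuous A J K)
    ((G.op.lanAdjunction A).comp (sheafificationAdjunction K A))
    (fullyFaithfulSheafToPresheaf J A) (Functor.FullyFaithful.id _) (Iso.refl _) (Iso.refl _) M).trans ?_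
  simp
  refine congrArg (G.op.lanUnit.app M.obj ≫ ·) ?_
  ext a
  exact (congrArg ((toSheafify K (G.op.lan.obj M.obj)).app _ ≫ ·) (Category.comp_id _)).trans
    (Category.comp_id _)

variable {ι : Type u} [Preorder ι] [Nonempty ι] [IsDirectedOrder ι] {Xs : ιᵒᵖ ⥤ Scheme.{u}}
  (c : Cone Xs) (M : AbSys Xs)

/-- The presheaf inverse image. -/
noncomputable abbrev lanPt : (c.pt.Etale)ᵒᵖ ⥤ AddCommGrpCat.{u + 1} :=
  (toPt Xs c).op.lan.obj M.obj

/-- The comparison map on sections. -/
noncomputable abbrev unitApp (a : Obj Xs) :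
    M.obj.obj (op a) ⟶ ((pullSys Xs c).obj M).obj.obj (op ((toPt Xs c).obj a)) :=
  ((sysAdj Xs c).unit.app M).hom.app (op a)

/-- The unit of the left Kan extension on sections. -/
noncomputable abbrev u₀ (a : Obj Xs) :
    M.obj.obj (op a) ⟶ (lanPt c M).obj (op ((toPt Xs c).obj a)) :=
  ((toPt Xs c).op.lanUnit.app M.obj).app (op a)

/-- The map to the sheafification on sections. -/
noncomputable abbrev ν (U : c.pt.Etale) :
    (lanPt c M).obj (op U) ⟶ ((pullSys Xs c).obj M).obj.obj (op U) :=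
  (toSheafify c.pt.smallEtaleTopology (lanPt c M)).app (op U)

lemma ν_naturality {U V : c.pt.Etale} (f : U ⟶ V) (t : (lanPt c M).obj (op V)) :
    ν c M U ((lanPt c M).map f.op t) = ((pullSys Xs c).obj M).obj.map f.op (ν c M V t) :=
  NatTrans.naturality_apply (toSheafify c.pt.smallEtaleTopology (lanPt c M)) f.op t

/-- Composing restrictions along base changed morphisms. -/
lemma res_res {a b d : Obj Xs} (f : a ⟶ b) (g : b ⟶ d)
    (v : ((pullSys Xs c).obj M).obj.obj (op ((toPt Xs c).obj d))) :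
    ((pullSys Xs c).obj M).obj.map ((toPt Xs c).map f).op
      (((pullSys Xs c).obj M).obj.map ((toPt Xs c).map g).op v) =
      ((pullSys Xs c).obj M).obj.map ((toPt Xs c).map (f ≫ g)).op v := by
  rw [Functor.map_comp, op_comp, Functor.map_comp_apply]

omit [Nonempty ι] [IsDirectedOrder ι] in
/-- Composing restrictions of a system of sheaves. -/
lemma resM {a b d : Obj Xs} (f : a ⟶ b) (g : b ⟶ d) (v : M.obj.obj (op d)) :
    M.obj.map f.op (M.obj.map g.op v) = M.obj.map (f ≫ g).op v :=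
  (Functor.map_comp_apply M.obj g.op f.op v).symm

lemma unitApp_apply (a : Obj Xs) (y : M.obj.obj (op a)) :
    unitApp c M a y = ν c M _ (u₀ c M a y) :=
  ConcreteCategory.congr_hom
    (congrArg (fun φ => φ.app (op a)) (constructedUnit_app (toPt Xs c) (top' Xs) c.pt.smallEtaleTopology M)) y

omit [Preorder ι] [Nonempty ι] [IsDirectedOrder ι] in
lemma injective_left {Y : Scheme.{u}} {U V : Y.Etale} (φ : U ⟶ V) [IsIso φ] :
    Function.Injective φ.left.base :=
  haveI : IsIso φ.left := ((Scheme.Etale.forget Y ⋙ Over.forget Y).mapIso (asIso φ)).isIso_hom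
  φ.left.homeomorph.injective

omit [Preorder ι] [Nonempty ι] [IsDirectedOrder ι] in
lemma surjective_left {Y : Scheme.{u}} {U V : Y.Etale} (φ : U ⟶ V) [IsIso φ] :
    Function.Surjective φ.left.base :=
  haveI : IsIso φ.left := ((Scheme.Etale.forget Y ⋙ Over.forget Y).mapIso (asIso φ)).isIso_hom
  φ.left.surjective

lemma unitApp_naturality {a b : Obj Xs} (f : a ⟶ b) (y : M.obj.obj (op b)) :
    unitApp c M a (M.obj.map f.op y) =
      ((pullSys Xs c).obj M).obj.map ((toPt Xs c).map f).op (unitApp c M b y) :=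
  NatTrans.naturality_apply ((sysAdj Xs c).unit.app M).hom f.op y

instance isFiltered_costructuredArrow (U : (c.pt.Etale)ᵒᵖ) :
    IsFiltered (CostructuredArrow (toPt Xs c).op U) :=
  IsFiltered.of_equivalence (structuredArrowOpEquivalence (toPt Xs c) U.unop)

instance preservesFiltered_forget_ab :
    PreservesFilteredColimitsOfSize.{u, u + 1} (forget AddCommGrpCat.{u + 1}) :=
  preservesFilteredColimitsOfSize_of_univLE.{u + 1, u + 1, u, u + 1} _

lemma lan_exists_rep (U : c.pt.Etale) (t : (lanPt c M).obj (op U)) :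
    ∃ (a : Obj Xs) (s : U ⟶ (toPt Xs c).obj a) (y : M.obj.obj (op a)),
      (lanPt c M).map s.op (u₀ c M a y) = t := by
  let e := (toPt Xs c).op.leftKanExtensionObjIsoColimit M.obj (op U)
  obtain ⟨f, y, hy⟩ := Concrete.colimit_exists_rep _ (e.hom t)
  refine ⟨f.left.unop, f.hom.unop, y, ?_⟩
  have h := ConcreteCategory.congr_hom
    ((toPt Xs c).op.ι_leftKanExtensionObjIsoColimit_inv M.obj (op U) f) y
  refine Eq.trans h.symm ?_
  exact (congrArg e.inv hy).trans (Iso.hom_inv_id_apply e t)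

lemma lan_eq_zero {U : c.pt.Etale} {a : Obj Xs} (s : U ⟶ (toPt Xs c).obj a) (y : M.obj.obj (op a))
    (h : (lanPt c M).map s.op (u₀ c M a y) = 0) :
    ∃ (b : Obj Xs) (s' : U ⟶ (toPt Xs c).obj b) (φ : b ⟶ a),
      s' ≫ (toPt Xs c).map φ = s ∧ M.obj.map φ.op y = 0 := by
  let e := (toPt Xs c).op.leftKanExtensionObjIsoColimit M.obj (op U)
  let f : CostructuredArrow (toPt Xs c).op (op U) := CostructuredArrow.mk s.op
  have h0 : colimit.ι (CostructuredArrow.proj (toPt Xs c).op (op U) ⋙ M.obj) f y =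
      colimit.ι (CostructuredArrow.proj (toPt Xs c).op (op U) ⋙ M.obj) f 0 := by
    apply (ConcreteCategory.bijective_of_isIso e.inv).1
    refine ((ConcreteCategory.congr_hom
      ((toPt Xs c).op.ι_leftKanExtensionObjIsoColimit_inv M.obj (op U) f) y).trans h).trans ?_
    rw [map_zero, map_zero]
    rfl
  obtain ⟨g, φ, φ', hφ⟩ := Concrete.colimit_exists_of_rep_eq _ _ _ h0
  refine ⟨g.left.unop, g.hom.unop, φ.left.unop, ?_, ?_⟩
  · exact congrArg Quiver.Hom.unop (CostructuredArrow.w φ)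
  · exact hφ.trans (map_zero _)

section Stages

variable [∀ (p q : ιᵒᵖ) (h : p ⟶ q), IsAffineHom (Xs.map h)]

/-- Quasi-compact and quasi-separated objects. -/
abbrev QC (a : Obj Xs) : Prop := CompactSpace ↥a.obj.left ∧ QuasiSeparatedSpace ↥a.obj.left

lemma QC.ext {a : Obj Xs} (h : QC a) {k : ι} (hk : a.idx ≤ k) :
    QC ((incl Xs k).obj ((EtCoh.bc (trn Xs hk)).obj a.obj)) := by
  have := h.1
  have := h.2
  exact ⟨compactSpace_bc hk a.obj, quasiSeparatedSpace_bc hk a.obj⟩

omit [∀ (p q : ιᵒᵖ) (h : p ⟶ q), IsAffineHom (Xs.map h)] [Nonempty ι] [IsDirectedOrder ι] in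
/-- A morphism factors through an intermediate stage of its target. -/
lemma exists_factor_stage {d b : Obj Xs} (z : d ⟶ b) {L : ι} (h : b.idx ≤ L) (hL : L ≤ d.idx) :
    ∃ z' : d ⟶ (incl Xs L).obj ((EtCoh.bc (trn Xs h)).obj b.obj), z' ≫ ext Xs b h = z := by
  refine ⟨⟨pullback.lift z.1 (d.obj.hom ≫ trn Xs hL) ?_, hL, pullback.lift_snd _ _ _⟩,
    Obj.hom_ext (pullback.lift_fst _ _ _)⟩
  rw [Category.assoc, trn_trn]
  exact Obj.w z (h.trans hL)

omit [∀ (p q : ιᵒᵖ) (h : p ⟶ q), IsAffineHom (Xs.map h)] [Nonempty ι] [IsDirectedOrder ι] in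
/-- Fibre products of quasi-compact quasi-separated schemes over a quasi-separated one. -/
lemma qc_pullback {P V W U : Scheme.{u}} {p₁ : P ⟶ V} {p₂ : P ⟶ W} {g₁ : V ⟶ U} {g₂ : W ⟶ U}
    (hp : IsPullback p₁ p₂ g₁ g₂) (hV : CompactSpace ↥V ∧ QuasiSeparatedSpace ↥V)
    (hW : CompactSpace ↥W ∧ QuasiSeparatedSpace ↥W) (hU : CompactSpace ↥U ∧ QuasiSeparatedSpace ↥U) :
    CompactSpace ↥P ∧ QuasiSeparatedSpace ↥P := by
  have := hV.1
  have := hV.2
  have := hW.1
  have := hW.2
  have := hU.2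
  have h1 : QuasiCompact g₂ := inferInstance
  have h2 : QuasiSeparated g₂ := inferInstance
  haveI : QuasiCompact p₁ := MorphismProperty.of_isPullback (P := @QuasiCompact) hp.flip h1
  haveI : QuasiSeparated p₁ := MorphismProperty.of_isPullback (P := @QuasiSeparated) hp.flip h2
  exact ⟨QuasiCompact.compactSpace_of_compactSpace p₁, quasiSeparatedSpace_of_quasiSeparated p₁⟩

variable {c} (hc : IsLimit c)

include hc in
lemma compactSpace_toPt {a : Obj Xs} (h : CompactSpace ↥a.obj.left) :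
    CompactSpace ↥((toPt Xs c).obj a).left := by
  have : IsAffineHom (proj Xs c a.idx) := isAffineHom_π_app Xs c hc _
  exact compactSpace_of_isAffineHom (pullback.fst a.obj.hom (proj Xs c a.idx))
    (MorphismProperty.pullback_fst _ _ this) h

omit [Nonempty ι] [IsDirectedOrder ι] in
lemma qc_of_isAffine {a : Obj Xs} (h : IsAffine a.obj.left) : QC a :=
  ⟨inferInstance, inferInstance⟩

include hc in
/-- A covering sieve of an object over the limit contains base changes through every point. -/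
lemma exists_piece {U : c.pt.Etale} {R : Sieve U} (hR : R ∈ c.pt.smallEtaleTopology U) (x : U.left) :
    ∃ (a : Obj Xs) (m : (toPt Xs c).obj a ⟶ U), QC a ∧ R m ∧ x ∈ Set.range m.left.base := by
  obtain ⟨V, g, v, hg, hv⟩ := (Groth.EtaleBase.mem_topology_iff R).1 hR x
  obtain ⟨a, m, ha, w, hw⟩ := exists_affine_nhd hc V v
  exact ⟨a, m ≫ g, qc_of_isAffine ha, R.downward_closed hg m, w,
    ((Scheme.Hom.comp_apply m.left g.left w).trans (congrArg g.left.base hw)).trans hv⟩

variable [∀ p, CompactSpace ↥(Xs.obj p)] [∀ p, QuasiSeparatedSpace ↥(Xs.obj p)]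

include hc in
lemma exists_local_rep (U : c.pt.Etale) (s : ((pullSys Xs c).obj M).obj.obj (op U)) (x : U.left) :
    ∃ (a : Obj Xs) (m : (toPt Xs c).obj a ⟶ U) (y : M.obj.obj (op a)), QC a ∧
      x ∈ Set.range m.left.base ∧ unitApp c M a y = ((pullSys Xs c).obj M).obj.map m.op s := by
  have hR := Presheaf.imageSieve_mem c.pt.smallEtaleTopology
    (toSheafify c.pt.smallEtaleTopology (lanPt c M)) (U := op U) s
  obtain ⟨a, m, ha, ⟨t, ht⟩, hx⟩ := exists_piece hc hR x
  obtain ⟨b, σ, y, rfl⟩ := lan_exists_rep c M _ t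
  haveI := ha.1
  haveI := ha.2
  obtain ⟨k, hk, ψ, hψ⟩ := exists_map_eq hc σ
  refine ⟨(incl Xs k).obj ((EtCoh.bc (trn Xs hk)).obj a.obj), (toPt Xs c).map (ext Xs a hk) ≫ m,
    M.obj.map ψ.op y, ha.ext hk, ?_, ?_⟩
  · obtain ⟨w, hw⟩ := hx
    obtain ⟨w', hw'⟩ := surjective_left ((toPt Xs c).map (ext Xs a hk)) w
    exact ⟨w', (Scheme.Hom.comp_apply _ m.left w').trans ((congrArg m.left.base hw').trans hw)⟩
  · rw [unitApp_naturality, hψ, unitApp_apply, op_comp, op_comp, Functor.map_comp_apply,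
      Functor.map_comp_apply, ← ν_naturality c M σ]
    exact congrArg _ ht

include hc in
lemma exists_local_zero {a : Obj Xs} (y : M.obj.obj (op a)) (hy : unitApp c M a y = 0)
    (x : ((toPt Xs c).obj a).left) :
    ∃ (b : Obj Xs) (f : b ⟶ a), QC b ∧ M.obj.map f.op y = 0 ∧
      x ∈ Set.range ((toPt Xs c).map f).left.base := by
  rw [unitApp_apply] at hy
  have hR := Presheaf.equalizerSieve_mem c.pt.smallEtaleTopology
    (toSheafify c.pt.smallEtaleTopology (lanPt c M))
    (u₀ c M a y) 0 (hy.trans (map_zero _).symm)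
  obtain ⟨b, m, hb, hm, hx⟩ := exists_piece hc hR x
  obtain ⟨d, s', φ, hs', hφ⟩ := lan_eq_zero c M m y (hm.trans (map_zero _))
  haveI := hb.1
  haveI := hb.2
  obtain ⟨k, hk, ψ, hψ⟩ := exists_map_eq hc s'
  refine ⟨(incl Xs k).obj ((EtCoh.bc (trn Xs hk)).obj b.obj), ψ ≫ φ, hb.ext hk, ?_, ?_⟩
  · rw [op_comp, Functor.map_comp_apply, hφ]
    exact map_zero _
  · obtain ⟨w, hw⟩ := hx
    obtain ⟨w', hw'⟩ := surjective_left ((toPt Xs c).map (ext Xs b hk)) w
    refine ⟨w', ?_⟩
    rw [Functor.map_comp, hψ, Category.assoc, hs']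
    exact (Scheme.Hom.comp_apply _ m.left w').trans ((congrArg m.left.base hw').trans hw)

include hc in
/-- Finitely many morphisms jointly surjective on the limit become, at some stage, a covering
family. -/
lemma exists_stage_family {a : Obj Xs} (ha : CompactSpace ↥a.obj.left) {κ : Type u} [Finite κ]
    (b : κ → Obj Xs) (f : ∀ r, b r ⟶ a) (hb : ∀ r, QC (b r))
    (hsurj : ∀ x : ((toPt Xs c).obj a).left,
      ∃ r, x ∈ Set.range ((toPt Xs c).map (f r)).left.base) :
    ∃ (L : ι) (h : a.idx ≤ L) (W : κ → (Xs.obj (op L)).Etale)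
      (g : ∀ r, W r ⟶ (EtCoh.bc (trn Xs h)).obj a.obj) (e : ∀ r, (incl Xs L).obj (W r) ⟶ b r),
      (∀ r, e r ≫ f r = (incl Xs L).map (g r) ≫ ext Xs a h) ∧ (∀ r, QC ((incl Xs L).obj (W r))) ∧
      Sieve.ofArrows (fun r => (incl Xs L).obj (W r)) (fun r => (incl Xs L).map (g r)) ∈
        top' Xs ((incl Xs L).obj ((EtCoh.bc (trn Xs h)).obj a.obj)) := by
  classical
  have := Fintype.ofFinite κ
  obtain ⟨K, hK⟩ := (insert a.idx (Finset.univ.image fun r => (b r).idx)).exists_le
  have haK : a.idx ≤ K := hK _ (Finset.mem_insert_self _ _)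
  have hbK : ∀ r, (b r).idx ≤ K := fun r =>
    hK _ (Finset.mem_insert_of_mem (Finset.mem_image_of_mem _ (Finset.mem_univ r)))
  let W₀ : κ → (Xs.obj (op K)).Etale := fun r => (EtCoh.bc (trn Xs (hbK r))).obj (b r).obj
  let g₀ : ∀ r, W₀ r ⟶ (EtCoh.bc (trn Xs haK)).obj a.obj := fun r =>
    factor Xs (ext Xs (b r) (hbK r) ≫ f r) haK
  have hg₀ : ∀ r, (incl Xs K).map (g₀ r) ≫ ext Xs a haK = ext Xs (b r) (hbK r) ≫ f r :=
    fun r => factor_ext Xs _ haK
  have hUK : CompactSpace ↥((EtCoh.bc (trn Xs haK)).obj a.obj).left :=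
    haveI := ha
    compactSpace_bc haK a.obj
  obtain ⟨L, hL, hcov⟩ := exists_cover_stage hc W₀ g₀ (by
    refine (Scheme.ofArrows_mem_smallEtaleTopology_iff _).2 (Set.eq_univ_of_forall fun x => ?_)
    obtain ⟨r, z, hz⟩ := hsurj (((toPt Xs c).map (ext Xs a haK)).left.base x)
    obtain ⟨z', hz'⟩ := surjective_left ((toPt Xs c).map (ext Xs (b r) (hbK r))) z
    refine Set.mem_iUnion.2 ⟨r, z', ?_⟩
    apply injective_left ((toPt Xs c).map (ext Xs a haK))
    show ((toPt Xs c).map (ext Xs a haK)).left.base _ = ((toPt Xs c).map (ext Xs a haK)).left.base x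
    refine (Scheme.Hom.comp_apply _ _ z').symm.trans ?_
    have e1 : ((EtCoh.bc (proj Xs c K)).map (g₀ r)).left ≫ ((toPt Xs c).map (ext Xs a haK)).left =
        ((toPt Xs c).map (ext Xs (b r) (hbK r))).left ≫ ((toPt Xs c).map (f r)).left := by
      have h1 := congrArg (fun m => ((toPt Xs c).map m).left) (hg₀ r)
      rw [Functor.map_comp, Functor.map_comp, toPt_map_incl] at h1
      exact h1
    refine (congrArg (fun m => m.base z') e1).trans ((Scheme.Hom.comp_apply _ _ z').trans ?_)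
    exact (congrArg ((toPt Xs c).map (f r)).left.base hz').trans hz)
  let U₀ : (Xs.obj (op L)).Etale :=
    (EtCoh.bc (trn Xs hL)).obj ((EtCoh.bc (trn Xs haK)).obj a.obj)
  let j : U₀ ⟶ (EtCoh.bc (trn Xs (haK.trans hL))).obj a.obj :=
    factor Xs (a := (incl Xs L).obj U₀)
      (ext Xs ((incl Xs K).obj ((EtCoh.bc (trn Xs haK)).obj a.obj)) hL ≫ ext Xs a haK) (haK.trans hL)
  have hj : Function.Surjective j.left.base := by
    intro y
    refine ⟨(pullback.lift (pullback.lift (pullback.fst a.obj.hom (trn Xs (haK.trans hL)))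
      (pullback.snd a.obj.hom (trn Xs (haK.trans hL)) ≫ trn Xs hL) ?_)
      (pullback.snd a.obj.hom (trn Xs (haK.trans hL))) (pullback.lift_snd _ _ _) :
        pullback a.obj.hom (trn Xs (haK.trans hL)) ⟶
          pullback ((EtCoh.bc (trn Xs haK)).obj a.obj).hom (trn Xs hL)).base y, ?_⟩
    · rw [Category.assoc, trn_trn]
      exact pullback.condition
    · refine (Scheme.Hom.comp_apply _ j.left y).symm.trans ?_
      refine (congrArg (fun m : pullback a.obj.hom (trn Xs (haK.trans hL)) ⟶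
        pullback a.obj.hom (trn Xs (haK.trans hL)) => m.base y) (?_ : _ = 𝟙 _)).trans rfl
      refine pullback.hom_ext ?_ ?_
      · refine ((Category.assoc _ _ _).trans ((congrArg (_ ≫ ·) (pullback.lift_fst _ _ _)).trans
          ((Category.assoc _ _ _).symm.trans ((congrArg (· ≫ _) (pullback.lift_fst _ _ _)).trans
            (pullback.lift_fst _ _ _))))).trans (Category.id_comp _).symm
      · exact ((Category.assoc _ _ _).trans ((congrArg (_ ≫ ·) (pullback.lift_snd _ _ _)).trans
          (pullback.lift_snd _ _ _))).trans (Category.id_comp _).symm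
  refine ⟨L, haK.trans hL, fun r => (EtCoh.bc (trn Xs hL)).obj (W₀ r),
    fun r => (EtCoh.bc (trn Xs hL)).map (g₀ r) ≫ j,
    fun r => ext Xs ((incl Xs K).obj (W₀ r)) hL ≫ ext Xs (b r) (hbK r), fun r => ?_,
    fun r => ((hb r).ext (hbK r)).ext hL, ?_⟩
  · rw [Functor.map_comp, Category.assoc, Category.assoc, ← hg₀ r]
    refine Eq.trans ?_ (congrArg ((incl Xs L).map ((EtCoh.bc (trn Xs hL)).map (g₀ r)) ≫ ·)
      (factor_ext Xs (a := (incl Xs L).obj U₀) _ (haK.trans hL)).symm)
    refine (Category.assoc _ _ _).symm.trans (Eq.trans ?_ (Category.assoc _ _ _))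
    exact congrArg (· ≫ ext Xs a haK) (Obj.hom_ext (pullback.lift_fst _ _ _).symm)
  · refine (mem_top'_iff Xs _).2 fun x => ?_
    obtain ⟨y, rfl⟩ := hj x
    rw [Scheme.ofArrows_mem_smallEtaleTopology_iff] at hcov
    obtain ⟨r, z, hz⟩ := Set.mem_iUnion.1 (hcov.ge (Set.mem_univ y))
    exact ⟨_, _, z, ⟨_, 𝟙 _, _, ⟨r⟩, Category.id_comp _⟩,
      (Scheme.Hom.comp_apply _ j.left z).trans (congrArg j.left.base hz)⟩

omit [∀ (p q : ιᵒᵖ) (h : p ⟶ q), IsAffineHom (Xs.map h)] [Nonempty ι] [IsDirectedOrder ι]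
  [∀ p, CompactSpace ↥(Xs.obj p)] [∀ p, QuasiSeparatedSpace ↥(Xs.obj p)] in
lemma isSheaf_types : Presieve.IsSheaf (top' Xs) (M.obj ⋙ forget AddCommGrpCat.{u + 1}) :=
  (isSheaf_iff_isSheaf_of_type _ _).1
    (GrothendieckTopology.HasSheafCompose.isSheaf (F := forget AddCommGrpCat.{u + 1}) M.obj M.property)

include hc in
/-- A section vanishing on the limit vanishes at a later stage. -/
theorem exists_zero {a : Obj Xs} (ha : QC a) (y : M.obj.obj (op a)) (hy : unitApp c M a y = 0) :
    ∃ (L : ι) (h : a.idx ≤ L), M.obj.map (ext Xs a h).op y = 0 := by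
  choose b f hb hf hx using exists_local_zero M hc y hy
  haveI := compactSpace_toPt hc ha.1
  obtain ⟨t, ht⟩ := isCompact_univ.elim_finite_subcover
    (fun x => Set.range ((toPt Xs c).map (f x)).left.base)
    (fun x => by
      haveI : AlgebraicGeometry.Etale ((toPt Xs c).map (f x)).left :=
        MorphismProperty.of_postcomp @AlgebraicGeometry.Etale _ ((toPt Xs c).obj a).hom
          ((toPt Xs c).obj a).prop
          (by rw [MorphismProperty.Over.w]; exact ((toPt Xs c).obj (b x)).prop)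
      exact ((toPt Xs c).map (f x)).left.isOpenMap.isOpen_range)
    (fun x _ => Set.mem_iUnion.2 ⟨x, hx x⟩)
  let κ : Type u := {x // x ∈ t}
  obtain ⟨L, h, W, g, e, he, -, hcov⟩ := exists_stage_family hc ha.1 (κ := κ) (fun r => b r.1)
    (fun r => f r.1) (fun r => hb r.1) (fun x => by
      obtain ⟨r, hr, hxr⟩ := Set.mem_iUnion₂.1 (ht (Set.mem_univ x))
      exact ⟨⟨r, hr⟩, hxr⟩)
  refine ⟨L, h, (isSheaf_types M _ hcov).isSeparatedFor.ext ?_⟩
  rintro Z z ⟨_, l, _, ⟨r⟩, rfl⟩
  show M.obj.map (l ≫ (incl Xs L).map (g r)).op (M.obj.map (ext Xs a h).op y) =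
    M.obj.map (l ≫ (incl Xs L).map (g r)).op 0
  rw [map_zero, op_comp, Functor.map_comp_apply, ← Functor.map_comp_apply M.obj (ext Xs a h).op,
    ← op_comp, ← he r, op_comp, Functor.map_comp_apply, hf r.1, map_zero, map_zero]

include hc in
/-- A section on the limit comes from a later stage. -/
theorem exists_lift {a : Obj Xs} (ha : QC a)
    (s : ((pullSys Xs c).obj M).obj.obj (op ((toPt Xs c).obj a))) :
    ∃ (L : ι) (h : a.idx ≤ L)
      (y : M.obj.obj (op ((incl Xs L).obj ((EtCoh.bc (trn Xs h)).obj a.obj)))),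
      unitApp c M _ y = ((pullSys Xs c).obj M).obj.map ((toPt Xs c).map (ext Xs a h)).op s := by
  classical
  let Q := (pullSys Xs c).obj M
  have hloc : ∀ x : ((toPt Xs c).obj a).left, ∃ (b : Obj Xs) (f : b ⟶ a) (y : M.obj.obj (op b)),
      QC b ∧ x ∈ Set.range ((toPt Xs c).map f).left.base ∧
        unitApp c M b y = Q.obj.map ((toPt Xs c).map f).op s := by
    intro x
    obtain ⟨b, m, y, hb, hx, hy⟩ := exists_local_rep M hc _ s x
    haveI := hb.1
    haveI := hb.2
    obtain ⟨k, hk, ψ, hψ⟩ := exists_map_eq hc m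
    refine ⟨_, ψ, M.obj.map (ext Xs b hk).op y, hb.ext hk, ?_, ?_⟩
    · obtain ⟨w, hw⟩ := hx
      obtain ⟨w', hw'⟩ := surjective_left ((toPt Xs c).map (ext Xs b hk)) w
      refine ⟨w', ?_⟩
      rw [hψ]
      exact (Scheme.Hom.comp_apply _ m.left w').trans ((congrArg m.left.base hw').trans hw)
    · rw [unitApp_naturality, hy, hψ, op_comp, Functor.map_comp_apply]
  choose b f y hb hx hy using hloc
  haveI := compactSpace_toPt hc ha.1
  obtain ⟨t, ht⟩ := isCompact_univ.elim_finite_subcover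
    (fun x => Set.range ((toPt Xs c).map (f x)).left.base)
    (fun x => by
      haveI : AlgebraicGeometry.Etale ((toPt Xs c).map (f x)).left :=
        MorphismProperty.of_postcomp @AlgebraicGeometry.Etale _ ((toPt Xs c).obj a).hom
          ((toPt Xs c).obj a).prop
          (by rw [MorphismProperty.Over.w]; exact ((toPt Xs c).obj (b x)).prop)
      exact ((toPt Xs c).map (f x)).left.isOpenMap.isOpen_range)
    (fun x _ => Set.mem_iUnion.2 ⟨x, hx x⟩)
  let κ : Type u := {x // x ∈ t}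
  haveI : Fintype κ := Finset.Subtype.fintype t
  obtain ⟨L, h, W, g, e, he, hW, hcov⟩ := exists_stage_family hc ha.1 (κ := κ) (fun r => b r.1)
    (fun r => f r.1) (fun r => hb r.1) (fun x => by
      obtain ⟨r, hr, hxr⟩ := Set.mem_iUnion₂.1 (ht (Set.mem_univ x))
      exact ⟨⟨r, hr⟩, hxr⟩)
  let U := (incl Xs L).obj ((EtCoh.bc (trn Xs h)).obj a.obj)
  let sU := Q.obj.map ((toPt Xs c).map (ext Xs a h)).op s
  let z : ∀ r, M.obj.obj (op ((incl Xs L).obj (W r))) := fun r => M.obj.map (e r).op (y r.1)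
  have hz : ∀ r, unitApp c M _ (z r) =
      Q.obj.map ((toPt Xs c).map ((incl Xs L).map (g r))).op sU := fun r => by
    show unitApp c M _ (M.obj.map (e r).op (y r.1)) = _
    refine (unitApp_naturality c M (e r) (y r.1)).trans ?_
    refine (congrArg _ (hy r.1)).trans ?_
    refine (res_res c M _ _ s).trans (Eq.trans ?_ (res_res c M _ _ s).symm)
    exact congrArg (fun m => Q.obj.map ((toPt Xs c).map m).op s) (he r)
  haveI := fun r : κ => (hW r).1
  haveI := fun r : κ => (hW r).2
  have hUL : QC U := ha.ext h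
  have hpair : ∀ p : κ × κ, ∃ (k : ι) (hk : L ≤ k),
      M.obj.map (ext Xs ((incl Xs L).obj (pullback (g p.1) (g p.2))) hk).op
        (M.obj.map ((incl Xs L).map (pullback.fst (g p.1) (g p.2))).op (z p.1) -
          M.obj.map ((incl Xs L).map (pullback.snd (g p.1) (g p.2))).op (z p.2)) = 0 := by
    intro p
    refine exists_zero M hc (a := (incl Xs L).obj (pullback (g p.1) (g p.2))) ?_ _ ?_
    · have hp : IsPullback (pullback.fst (g p.1) (g p.2)).left (pullback.snd (g p.1) (g p.2)).left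
          (g p.1).left (g p.2).left :=
        (IsPullback.of_hasPullback (g p.1) (g p.2)).map (Scheme.Etale.forget _ ⋙ Over.forget _)
      exact qc_pullback hp (hW p.1) (hW p.2) hUL
    · refine (map_sub _ _ _).trans (sub_eq_zero.2 ?_)
      refine (unitApp_naturality c M ((incl Xs L).map (pullback.fst (g p.1) (g p.2))) (z p.1)).trans
        (Eq.trans ?_ (unitApp_naturality c M ((incl Xs L).map (pullback.snd (g p.1) (g p.2))) (z p.2)).symm)
      refine (congrArg _ (hz p.1)).trans (Eq.trans ?_ (congrArg _ (hz p.2)).symm)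
      refine (res_res c M _ _ sU).trans (Eq.trans ?_ (res_res c M _ _ sU).symm)
      refine congrArg (fun m => Q.obj.map ((toPt Xs c).map m).op sU) ?_
      exact ((incl Xs L).map_comp _ _).symm.trans
        ((congrArg (incl Xs L).map pullback.condition).trans ((incl Xs L).map_comp _ _))
  choose k hk hzero using hpair
  obtain ⟨L', hL'⟩ := (insert L (Finset.univ.image k)).exists_le
  have hLL : L ≤ L' := hL' _ (Finset.mem_insert_self _ _)
  have hkL : ∀ p, k p ≤ L' := fun p =>
    hL' _ (Finset.mem_insert_of_mem (Finset.mem_image_of_mem _ (Finset.mem_univ p)))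
  let U' := (incl Xs L').obj ((EtCoh.bc (trn Xs (h.trans hLL))).obj a.obj)
  obtain ⟨π, hπ⟩ := exists_factor_stage (ext Xs a (h.trans hLL)) h hLL
  let S : Sieve U' := (Sieve.ofArrows (fun r => (incl Xs L).obj (W r))
    (fun r => (incl Xs L).map (g r))).pullback π
  have hS : S ∈ top' Xs U' := (top' Xs).pullback_stable π hcov
  have hS' : ∀ (d : Obj Xs) (m : d ⟶ U'), S m → ∃ (r : κ) (l : d ⟶ (incl Xs L).obj (W r)),
      l ≫ (incl Xs L).map (g r) = m ≫ π := by
    rintro d m ⟨_, l, _, ⟨r⟩, hl⟩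
    exact ⟨r, l, hl⟩
  choose R l hl using hS'
  have key : ∀ (d : Obj Xs), L' ≤ d.idx → ∀ (p q : κ) (l₁ : d ⟶ (incl Xs L).obj (W p))
      (l₂ : d ⟶ (incl Xs L).obj (W q)),
      l₁ ≫ (incl Xs L).map (g p) = l₂ ≫ (incl Xs L).map (g q) →
        M.obj.map l₁.op (z p) = M.obj.map l₂.op (z q) := by
    intro d hd p q l₁ l₂ hll
    have hp : IsPullback (pullback.fst (g p) (g q)).left (pullback.snd (g p) (g q)).left
        (g p).left (g q).left :=
      (IsPullback.of_hasPullback (g p) (g q)).map (Scheme.Etale.forget _ ⋙ Over.forget _)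
    obtain ⟨v, hv1, hv⟩ := exists_hom_incl Xs l₁ (pullback.fst (g p) (g q))
      (hp.lift l₁.1 l₂.1 (congrArg Subtype.val hll)) (hp.lift_fst _ _ _)
    have hv2 : v ≫ (incl Xs L).map (pullback.snd (g p) (g q)) = l₂ := Obj.hom_ext
      ((congrArg (· ≫ (pullback.snd (g p) (g q)).left) hv1).trans (hp.lift_snd _ _ _))
    obtain ⟨v', hv'⟩ := exists_factor_stage v (hk (p, q)) ((hkL (p, q)).trans hd)
    have h0 := congrArg (M.obj.map v'.op) (hzero (p, q))
    rw [map_zero, map_sub, map_sub, sub_eq_zero] at h0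
    have e3 : ∀ {W' : (Xs.obj (op L)).Etale} (φ : pullback (g p) (g q) ⟶ W')
        (x : M.obj.obj (op ((incl Xs L).obj W'))),
        M.obj.map v'.op (M.obj.map (ext Xs ((incl Xs L).obj (pullback (g p) (g q))) (hk (p, q))).op
          (M.obj.map ((incl Xs L).map φ).op x)) = M.obj.map (v ≫ (incl Xs L).map φ).op x := by
      intro W' φ x
      refine (resM M _ _ _).trans ((resM M _ _ _).trans ?_)
      exact congrArg (fun m => M.obj.map (m ≫ (incl Xs L).map φ).op x) hv'
    rw [← hv, ← hv2]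
    exact ((e3 _ (z p)).symm.trans h0).trans (e3 _ (z q))
  let fam : Presieve.FamilyOfElements (M.obj ⋙ forget AddCommGrpCat.{u + 1}) S.arrows :=
    fun d m hm => M.obj.map (l d m hm).op (z (R d m hm))
  have hfam : fam.Compatible := by
    intro d₁ d₂ d g₁ g₂ m₁ m₂ h₁ h₂ hm
    show M.obj.map g₁.op (M.obj.map (l d₁ m₁ h₁).op (z (R d₁ m₁ h₁))) =
      M.obj.map g₂.op (M.obj.map (l d₂ m₂ h₂).op (z (R d₂ m₂ h₂)))
    refine (resM M g₁ (l d₁ m₁ h₁) _).trans (Eq.trans ?_ (resM M g₂ (l d₂ m₂ h₂) _).symm)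
    refine key d (Obj.idx_le (g₁ ≫ m₁)) _ _ _ _ ?_
    rw [Category.assoc, Category.assoc, hl, hl, ← Category.assoc, ← Category.assoc, hm]
  let T : M.obj.obj (op U') := (isSheaf_types M S hS).amalgamate fam hfam
  refine ⟨L', h.trans hLL, T, ?_⟩
  have hcovQ := (coverPreserving_toPt Xs c).cover_preserve hS
  have hQ : Presieve.IsSheaf c.pt.smallEtaleTopology (Q.obj ⋙ forget AddCommGrpCat.{u + 1}) :=
    (isSheaf_iff_isSheaf_of_type _ _).1
      (GrothendieckTopology.HasSheafCompose.isSheaf (F := forget AddCommGrpCat.{u + 1}) Q.obj Q.property)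
  refine (hQ _ hcovQ).isSeparatedFor.ext ?_
  rintro Z v ⟨d, m, w, hm, rfl⟩
  show Q.obj.map (w ≫ (toPt Xs c).map m).op (unitApp c M U' T) =
    Q.obj.map (w ≫ (toPt Xs c).map m).op _
  rw [op_comp, Functor.map_comp_apply, Functor.map_comp_apply]
  refine congrArg (Q.obj.map w.op) ?_
  rw [← unitApp_naturality]
  have hval : M.obj.map m.op T = M.obj.map (l d m hm).op (z (R d m hm)) :=
    (isSheaf_types M S hS).valid_glue hfam m hm
  refine (congrArg (unitApp c M d) hval).trans ?_
  refine (unitApp_naturality c M (l d m hm) _).trans ((congrArg _ (hz _)).trans ?_)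
  refine (res_res c M _ _ sU).trans ?_
  rw [hl d m hm]
  refine (res_res c M _ _ s).trans (Eq.trans ?_ (res_res c M _ _ s).symm)
  rw [Category.assoc, hπ]

end Stages

end Groth.EtaleBase.EtLimit
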