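import Groth.Agent.EtaleBase.Limit.Main
import Groth.Agent.EtaleBase.BaseChange0

/-!
The counit of the direct and inverse image between the limit and the system is an isomorphism;
direct images as coefficients.
-/

set_option autoImplicit false

universe u

open CategoryTheory CategoryTheory.Limits CategoryTheory.Abelian AlgebraicGeometry Opposite

namespace Groth.EtaleBase.EtLimit

/-- Morphisms of sheaves bijective on the members of a basis are isomorphisms. -/
lemma isIso_of_pieces {X : Scheme.{u}} {F G : EtCoh.Ab X} (φ : F ⟶ G) (P : X.Etale → Prop)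
    (hP : ∀ (U : X.Etale) (x : U.left), ∃ (V : X.Etale) (m : V ⟶ U), P V ∧ x ∈ Set.range m.left.base)
    (hinj : ∀ V, P V → ∀ s, φ.hom.app (op V) s = 0 → s = 0)
    (hsurj : ∀ V, P V → Function.Surjective (φ.hom.app (op V))) : IsIso φ := by
  have hcov : ∀ (U : X.Etale) (S : Sieve U),
      (∀ (V : X.Etale) (m : V ⟶ U), P V → S m) → S ∈ X.smallEtaleTopology U := by
    intro U S hS
    refine (Groth.EtaleBase.mem_topology_iff _).2 fun x => ?_
    obtain ⟨V, m, hV, v, hv⟩ := hP U x
    exact ⟨V, m, v, hS V m hV, hv⟩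
  haveI : Sheaf.IsLocallySurjective φ := ⟨fun {U} s => by
    refine hcov _ _ fun V m hV => ?_
    exact hsurj V hV (G.obj.map m.op s)⟩
  haveI : Epi φ := (Sheaf.isLocallySurjective_iff_epi' (φ := φ)).1 inferInstance
  haveI : Sheaf.IsLocallyInjective φ := ⟨fun {U} s t h => by
    refine hcov _ _ fun V m hV => ?_
    have h0 : φ.hom.app (op V) (F.obj.map m.op s - F.obj.map m.op t) = 0 := by
      rw [map_sub, sub_eq_zero, NatTrans.naturality_apply, NatTrans.naturality_apply]
      exact congrArg _ h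
    exact sub_eq_zero.1 (hinj V hV _ h0)⟩
  haveI : Mono φ := Sheaf.mono_of_isLocallyInjective φ
  exact isIso_of_mono_of_epi φ

section counit

variable {ι : Type u} [Preorder ι] [Nonempty ι] [IsDirectedOrder ι] {Xs : ιᵒᵖ ⥤ Scheme.{u}}
  [∀ (p q : ιᵒᵖ) (h : p ⟶ q), IsAffineHom (Xs.map h)]
  [∀ p, CompactSpace ↥(Xs.obj p)] [∀ p, QuasiSeparatedSpace ↥(Xs.obj p)]
  {c : Cone Xs} (hc : IsLimit c)

include hc in
/-- Inverse image after direct image to the system is the identity. -/
theorem isIso_sysAdj_counit (F : EtCoh.Ab c.pt) : IsIso ((sysAdj Xs c).counit.app F) := by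
  have tri : ∀ (a : Obj Xs) (y : F.obj.obj (op ((toPt Xs c).obj a))),
      ((sysAdj Xs c).counit.app F).hom.app _ (unitApp c ((pushSys Xs c).obj F) a y) = y := fun a y =>
    ConcreteCategory.congr_hom
      (congrArg (fun φ => φ.hom.app (op a)) ((sysAdj Xs c).right_triangle_components F)) y
  refine isIso_of_pieces _ (fun V => ∃ a : Obj Xs, QC a ∧ (toPt Xs c).obj a = V) (fun U x => ?_) ?_ ?_
  · obtain ⟨a, m, ha, -, hx⟩ := exists_piece hc (c.pt.smallEtaleTopology.top_mem U) x
    exact ⟨_, m, ⟨a, ha, rfl⟩, hx⟩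
  · rintro _ ⟨a, ha, rfl⟩ s hs
    obtain ⟨L, h, y, hy⟩ := exists_lift _ hc ha s
    have hy0 : y = 0 := by
      refine ((tri _ y).symm.trans ((congrArg _ hy).trans ?_))
      refine (NatTrans.naturality_apply ((sysAdj Xs c).counit.app F).hom _ s).trans ?_
      exact (congrArg _ hs).trans (map_zero _)
    have h1 := congrArg (((pullSys Xs c).obj ((pushSys Xs c).obj F)).obj.map (extInv Xs c a h).op)
      (hy.symm.trans ((congrArg (unitApp c _ _) hy0).trans (map_zero _)))
    refine Eq.trans ?_ (h1.trans (map_zero _))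
    refine Eq.symm ((mapMap _ _ _ _).trans ?_)
    exact (congrArg (fun m => ((pullSys Xs c).obj ((pushSys Xs c).obj F)).obj.map (Quiver.Hom.op m) s)
      (extInv_comp_map_ext Xs c a h)).trans (map_one_apply _ s)
  · rintro _ ⟨a, -, rfl⟩ y
    exact ⟨_, tri a y⟩

end counit

section push

variable {ι : Type u} [Preorder ι] [Nonempty ι] [IsDirectedOrder ι] {Xs : ιᵒᵖ ⥤ Scheme.{u}}
  (c : Cone Xs) (F : EtCoh.Ab c.pt)

/-- The comparison morphism for a direct image. -/
lemma coneHom_pushSys (j : ι) :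
    (resPushIso Xs c j).hom.app F =
      coneHom c ((pushSys Xs c).obj F) j ≫
        (EtCoh.push (proj Xs c j)).map ((sysAdj Xs c).counit.app F) := by
  have h1 := (resPushIso Xs c j).hom.naturality ((sysAdj Xs c).counit.app F)
  rw [coneHom, Category.assoc]
  refine Eq.trans ?_ (congrArg (_ ≫ ·) h1)
  rw [Functor.comp_map, ← Category.assoc, ← Functor.map_comp, Adjunction.right_triangle_components]
  exact ((congrArg (· ≫ (resPushIso Xs c j).hom.app F) ((res Xs j).map_id _)).trans
    (Category.id_comp ((resPushIso Xs c j).hom.app F))).symm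

set_option backward.isDefEq.respectTransparency.types false in
/-- The comparison of iterated base changes. -/
lemma pushTrans_morphism {j k : ι} (h : j ≤ k) (Z : (Xs.obj (op j)).Etale) :
    (MorphismProperty.Over.pullbackComp (P := EtCoh.etaleMP) (Q := ⊤) (proj Xs c k) (trn Xs h)).inv.app Z ≫
      (MorphismProperty.Over.pullbackCongr (P := EtCoh.etaleMP) (Q := ⊤)
        (proj_trn Xs c h).symm).inv.app Z = (toPt Xs c).map (st h Z) := by
  let c1 := (MorphismProperty.Over.pullbackComp (P := EtCoh.etaleMP) (Q := ⊤) (proj Xs c k) (trn Xs h)).inv.app Z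
  let c2 := (MorphismProperty.Over.pullbackCongr (P := EtCoh.etaleMP) (Q := ⊤)
    (proj_trn Xs c h).symm).inv.app Z
  have k1 := MorphismProperty.Over.pullbackComp_left_fst_fst (P := EtCoh.etaleMP) (Q := ⊤)
    (proj Xs c k) (trn Xs h) Z
  have k2 := pullbackCongr_inv_app_left_fst (proj_trn Xs c h).symm Z
  have k4 : c1.left ≫ ((MorphismProperty.Over.pullbackComp (P := EtCoh.etaleMP) (Q := ⊤)
      (proj Xs c k) (trn Xs h)).hom.app Z).left = 𝟙 _ :=
    congrArg (fun m => m.left) ((MorphismProperty.Over.pullbackComp (P := EtCoh.etaleMP) (Q := ⊤)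
      (proj Xs c k) (trn Xs h)).inv_hom_id_app Z)
  refine MorphismProperty.Over.Hom.ext (pullback.hom_ext (Eq.trans ?_ (toPt_map_fst Xs c (st h Z)).symm)
    ((MorphismProperty.Over.w (c1 ≫ c2)).trans (MorphismProperty.Over.w ((toPt Xs c).map (st h Z))).symm))
  refine (Category.assoc c1.left c2.left _).trans ?_
  exact ((congrArg (c1.left ≫ ·) (k2.trans k1.symm)).trans (Category.assoc _ _ _).symm).trans
    ((congrArg (· ≫ _) k4).trans (Category.id_comp _))

variable [∀ a, PreservesFiniteLimits (EtCoh.pull (c.π.app a))]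

/-- The canonical map as a pullback. -/
lemma hofPush_eq {X Y : Scheme.{u}} (v : X ⟶ Y) [PreservesFiniteLimits (EtCoh.pull v)] (G : EtCoh.Ab X)
    (n : ℕ) : EtLim.HofPush v G n = pullOn v (𝟙 ((EtCoh.push v).obj G)) n := by
  have h : ((EtCoh.pullPushAdj v).homEquiv _ G).symm (𝟙 ((EtCoh.push v).obj G)) =
      (EtCoh.pullPushAdj v).counit.app G :=
    ((EtCoh.pullPushAdj v).homEquiv_counit _ _ _).trans ((congrArg (· ≫ (EtCoh.pullPushAdj v).counit.app G)
      ((EtCoh.pull v).map_id _)).trans (Category.id_comp _))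
  show _ = EtLim.HpullThen v _ _ n
  rw [h]
  rfl

lemma hofPush_T (j : ι) (n : ℕ)
    (x : EtCoh.H (Xs.obj (op j)) ((res Xs j).obj ((pushSys Xs c).obj F)) n) :
    EtLim.HofPush (proj Xs c j) F n (x.comp (Ext.mk₀ ((resPushIso Xs c j).hom.app F)) (add_zero n)) =
      (T c j ((pushSys Xs c).obj F) n x).comp (Ext.mk₀ ((sysAdj Xs c).counit.app F)) (add_zero n) := by
  rw [hofPush_eq]
  exact pullOn_map _ _ _ _ _ ((Category.comp_id _).trans (coneHom_pushSys c F j)) n x

variable [∀ ⦃a b : ιᵒᵖ⦄ (h : a ⟶ b), PreservesFiniteLimits (EtCoh.pull (Xs.map h))]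

omit [∀ a, PreservesFiniteLimits (EtCoh.pull (c.π.app a))] in
lemma hpushTrans_R {j k : ι} (h : j ≤ k) (n : ℕ)
    (x : EtCoh.H (Xs.obj (op j)) ((res Xs j).obj ((pushSys Xs c).obj F)) n) :
    EtLim.HpushTrans (trn Xs h) (proj Xs c k) (proj Xs c j) (proj_trn Xs c h) F n
        (x.comp (Ext.mk₀ ((resPushIso Xs c j).hom.app F)) (add_zero n)) =
      (R h ((pushSys Xs c).obj F) n x).comp (Ext.mk₀ ((resPushIso Xs c k).hom.app F)) (add_zero n) := by
  show EtLim.HofPush (trn Xs h) _ n
    ((x.comp (Ext.mk₀ ((resPushIso Xs c j).hom.app F)) (add_zero n)).comp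
      (Ext.mk₀ (((EtCoh.pushCongr (proj_trn Xs c h).symm).app F).hom ≫
        (EtCoh.pushComp (trn Xs h) (proj Xs c k)).inv.app F)) (add_zero n)) = _
  rw [hofPush_eq, Ext.comp_assoc_of_third_deg_zero, Ext.mk₀_comp_mk₀]
  refine pullOn_map _ _ _ _ _ ((Category.comp_id _).trans ?_) n x
  apply (sheafToPresheaf _ _).map_injective
  ext Z y
  show ((EtCoh.pushComp (trn Xs h) (proj Xs c k)).inv.app F).hom.app (op Z.unop)
      (((EtCoh.pushCongr (proj_trn Xs c h).symm).hom.app F).hom.app (op Z.unop) y) =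
    F.obj.map ((toPt Xs c).map (st h Z.unop)).op y
  rw [pushComp_inv_app, pushCongr_hom_app]
  exact (mapMap F.obj _ _ _).trans
    (congrArg (fun m => F.obj.map (Quiver.Hom.op m) y) (pushTrans_morphism c h Z.unop))

end push

end Groth.EtaleBase.EtLimit
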