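import Groth.Agent.EtaleBase.Limit.Topology
import Groth.Agent.Limits.OpenPullback
import Mathlib.AlgebraicGeometry.AffineTransitionLimit

/-!
Descent of morphisms and coverings between étale schemes over an inverse system.
-/

set_option autoImplicit false

universe u

open CategoryTheory CategoryTheory.Limits AlgebraicGeometry Opposite

namespace Groth.EtaleBase.EtLimit

variable {ι : Type u} [Preorder ι] [Nonempty ι] [IsDirectedOrder ι] {Xs : ιᵒᵖ ⥤ Scheme.{u}}

instance isCofiltered_op_index : IsCofiltered ιᵒᵖ := inferInstance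

variable [∀ (p q : ιᵒᵖ) (h : p ⟶ q), IsAffineHom (Xs.map h)]

omit [Preorder ι] [Nonempty ι] in
lemma compactSpace_of_isAffineHom {A B : Scheme.{u}} (f : A ⟶ B) (hf : IsAffineHom f)
    (hB : CompactSpace ↥B) : CompactSpace ↥A :=
  QuasiCompact.compactSpace_of_compactSpace f

omit [Preorder ι] [Nonempty ι] in
lemma quasiSeparatedSpace_of_isAffineHom {A B : Scheme.{u}} (f : A ⟶ B) (hf : IsAffineHom f)
    (hB : QuasiSeparatedSpace ↥B) : QuasiSeparatedSpace ↥A :=
  quasiSeparatedSpace_of_quasiSeparated f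

lemma isAffineHom_fst_bc {i j : ι} (h : i ≤ j) (V : (Xs.obj (op i)).Etale) :
    IsAffineHom (pullback.fst V.hom (trn Xs h)) :=
  MorphismProperty.pullback_fst _ _ (inferInstance : IsAffineHom (trn Xs h))

/-- Stages of a quasi-compact object are quasi-compact. -/
lemma compactSpace_bc {i j : ι} (h : i ≤ j) (V : (Xs.obj (op i)).Etale) [CompactSpace ↥V.left] :
    CompactSpace ↥((EtCoh.bc (trn Xs h)).obj V).left := by
  exact compactSpace_of_isAffineHom (pullback.fst V.hom (trn Xs h)) (isAffineHom_fst_bc h V) ‹_›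

/-- Stages of a quasi-separated object are quasi-separated. -/
lemma quasiSeparatedSpace_bc {i j : ι} (h : i ≤ j) (V : (Xs.obj (op i)).Etale)
    [QuasiSeparatedSpace ↥V.left] :
    QuasiSeparatedSpace ↥((EtCoh.bc (trn Xs h)).obj V).left := by
  exact quasiSeparatedSpace_of_isAffineHom (pullback.fst V.hom (trn Xs h))
    (isAffineHom_fst_bc h V) ‹_›

/-- The system of stages of an object. -/
noncomputable abbrev stageDiagram {i : ι} (V : (Xs.obj (op i)).Etale) : Over (op i) ⥤ Scheme.{u} :=
  Groth.Limits.pullbackDiagram Xs (op i) V.hom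

lemma compactSpace_stageDiagram {i : ι} (V : (Xs.obj (op i)).Etale) [CompactSpace ↥V.left]
    (k : Over (op i)) : CompactSpace ↥((stageDiagram V).obj k) := by
  have : IsAffineHom (pullback.snd ((Over.post Xs).obj k).hom V.hom) :=
    MorphismProperty.pullback_snd _ _ (inferInstanceAs (IsAffineHom (Xs.map k.hom)))
  exact compactSpace_of_isAffineHom (pullback.snd ((Over.post Xs).obj k).hom V.hom) this ‹_›

lemma quasiSeparatedSpace_stageDiagram {i : ι} (V : (Xs.obj (op i)).Etale)
    [QuasiSeparatedSpace ↥V.left] (k : Over (op i)) :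
    QuasiSeparatedSpace ↥((stageDiagram V).obj k) := by
  have : IsAffineHom (pullback.snd ((Over.post Xs).obj k).hom V.hom) :=
    MorphismProperty.pullback_snd _ _ (inferInstanceAs (IsAffineHom (Xs.map k.hom)))
  exact quasiSeparatedSpace_of_isAffineHom (pullback.snd ((Over.post Xs).obj k).hom V.hom) this ‹_›

/-- The transformation of the system of stages to an earlier member of the system. -/
noncomputable def stageTrans {i : ι} (V : (Xs.obj (op i)).Etale) {Z : Scheme.{u}}
    (r : Xs.obj (op i) ⟶ Z) : stageDiagram V ⟶ (Functor.const (Over (op i))).obj Z where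
  app k := pullback.snd ((Over.post Xs).obj k).hom V.hom ≫ V.hom ≫ r
  naturality k l f := by
    refine Eq.trans ?_ (Category.comp_id _).symm
    exact (Category.assoc _ _ _).symm.trans (congrArg (· ≫ V.hom ≫ r) (pullback.lift_snd _ _ _))

/-- A stage in the orientation of base change. -/
noncomputable def bcToStage {i j : ι} (h : i ≤ j) (V : (Xs.obj (op i)).Etale) :
    ((EtCoh.bc (trn Xs h)).obj V).left ⟶ (stageDiagram V).obj (Over.mk (homOfLE h).op) :=
  (pullbackSymmetry V.hom (trn Xs h)).hom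

lemma bcToStage_snd {i j : ι} (h : i ≤ j) (V : (Xs.obj (op i)).Etale) :
    bcToStage h V ≫ pullback.snd (trn Xs h) V.hom = pullback.fst V.hom (trn Xs h) :=
  pullbackSymmetry_hom_comp_snd _ _

variable (c : Cone Xs)

/-- The limit of the stages in the orientation of base change. -/
noncomputable def limToStage {i : ι} (V : (Xs.obj (op i)).Etale) :
    (Groth.Limits.pullbackCone Xs (op i) V.hom c).pt ⟶
      ((toPt Xs c).obj ((incl Xs i).obj V)).left :=
  (pullbackSymmetry V.hom (proj Xs c i)).inv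

lemma limToStage_fst {i : ι} (V : (Xs.obj (op i)).Etale) :
    limToStage c V ≫ pullback.fst V.hom (proj Xs c i) = pullback.snd (proj Xs c i) V.hom :=
  pullbackSymmetry_inv_comp_fst _ _

variable {c} (hc : IsLimit c)

include hc in
/-- Two morphisms agreeing on the limit agree at a later stage. -/
theorem exists_ext_eq {a b : Obj Xs} [CompactSpace ↥a.obj.left] (f g : a ⟶ b)
    (e : (toPt Xs c).map f = (toPt Xs c).map g) :
    ∃ (k : ι) (h : a.idx ≤ k), ext Xs a h ≫ f = ext Xs a h ≫ g := by
  obtain ⟨i, V⟩ := a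
  change (incl Xs i).obj V ⟶ b at f g
  haveI hV : CompactSpace ↥V.left := ‹CompactSpace ↥(Obj.obj ⟨i, V⟩).left›
  have hle : b.idx ≤ i := Obj.idx_le f
  haveI := fun k => compactSpace_stageDiagram V k
  haveI : LocallyOfFiniteType b.obj.hom :=
    haveI : AlgebraicGeometry.Etale b.obj.hom := b.obj.prop
    inferInstance
  let s₀ := pullback.snd ((Over.post Xs).obj (Over.mk (𝟙 (op i)))).hom V.hom
  let t := stageTrans V (trn Xs hle)
  have hfst := (toPt_map_fst Xs c f).symm.trans
    ((congrArg (fun m => m.left ≫ pullback.fst b.obj.hom (proj Xs c b.idx)) e).trans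
      (toPt_map_fst Xs c g))
  have hab : pullback.snd (proj Xs c i) V.hom ≫ f.1 = pullback.snd (proj Xs c i) V.hom ≫ g.1 := by
    rw [← limToStage_fst]
    exact (Category.assoc _ _ _).trans
      ((congrArg (limToStage c V ≫ ·) hfst).trans (Category.assoc _ _ _).symm)
  have hπ : (Groth.Limits.pullbackCone Xs (op i) V.hom c).π.app (Over.mk (𝟙 (op i))) ≫ s₀ =
      pullback.snd (proj Xs c i) V.hom := pullback.lift_snd _ _ _
  obtain ⟨k, q, hk⟩ := Scheme.exists_hom_comp_eq_comp_of_locallyOfFiniteType (stageDiagram V) t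
    b.obj.hom (Groth.Limits.pullbackCone Xs (op i) V.hom c)
    (Groth.Limits.isLimitPullbackCone Xs (op i) V.hom hc) (i := Over.mk (𝟙 (op i)))
    (s₀ ≫ f.1) (s₀ ≫ g.1)
    ((Category.assoc _ _ _).trans (congrArg (s₀ ≫ ·) (Obj.w f hle))).symm
    ((Category.assoc _ _ _).trans (congrArg (s₀ ≫ ·) (Obj.w g hle))).symm
    ((Category.assoc _ _ _).symm.trans ((congrArg (· ≫ f.1) hπ).trans (hab.trans
      ((congrArg (· ≫ g.1) hπ.symm).trans (Category.assoc _ _ _)))))
  have h : i ≤ k.left.unop := leOfHom k.hom.unop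
  refine ⟨k.left.unop, h, Obj.hom_ext ?_⟩
  have hq : (stageDiagram V).map q ≫ s₀ = pullback.snd ((Over.post Xs).obj k).hom V.hom :=
    pullback.lift_snd _ _ _
  have key : ∀ φ : V.left ⟶ b.obj.left, bcToStage h V ≫ (stageDiagram V).map q ≫ s₀ ≫ φ =
      pullback.fst V.hom (trn Xs h) ≫ φ := fun φ =>
    (congrArg (bcToStage h V ≫ ·) ((Category.assoc _ _ _).symm.trans (congrArg (· ≫ φ) hq))).trans
      ((Category.assoc _ _ _).symm.trans (congrArg (· ≫ φ) (bcToStage_snd h V)))
  exact (key f.1).symm.trans ((congrArg (bcToStage h V ≫ ·) hk).trans (key g.1))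

variable [∀ p, CompactSpace ↥(Xs.obj p)] [∀ p, QuasiSeparatedSpace ↥(Xs.obj p)]

include hc in
omit [∀ p, CompactSpace ↥(Xs.obj p)] [∀ p, QuasiSeparatedSpace ↥(Xs.obj p)] in
/-- A morphism on the limit comes from a later stage. -/
theorem exists_map_eq {a b : Obj Xs} [CompactSpace ↥a.obj.left] [QuasiSeparatedSpace ↥a.obj.left]
    (φ : (toPt Xs c).obj a ⟶ (toPt Xs c).obj b) :
    ∃ (k : ι) (h : a.idx ≤ k) (ψ : (incl Xs k).obj ((EtCoh.bc (trn Xs h)).obj a.obj) ⟶ b),
      (toPt Xs c).map ψ = (toPt Xs c).map (ext Xs a h) ≫ φ := by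
  obtain ⟨l, hla, hlb⟩ := exists_ge_ge a.idx b.idx
  let V := (EtCoh.bc (trn Xs hla)).obj a.obj
  haveI : CompactSpace ↥V.left := compactSpace_bc hla a.obj
  haveI : QuasiSeparatedSpace ↥V.left := quasiSeparatedSpace_bc hla a.obj
  haveI := fun k => compactSpace_stageDiagram V k
  haveI := fun k => quasiSeparatedSpace_stageDiagram V k
  haveI : LocallyOfFinitePresentation b.obj.hom :=
    haveI : AlgebraicGeometry.Etale b.obj.hom := b.obj.prop
    inferInstance
  let φ' : (toPt Xs c).obj ((incl Xs l).obj V) ⟶ (toPt Xs c).obj b :=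
    (toPt Xs c).map (ext Xs a hla) ≫ φ
  let g : (Groth.Limits.pullbackCone Xs (op l) V.hom c).pt ⟶ b.obj.left :=
    limToStage c V ≫ φ'.left ≫ pullback.fst b.obj.hom (proj Xs c b.idx)
  have hg : g ≫ b.obj.hom = pullback.snd (proj Xs c l) V.hom ≫ V.hom ≫ trn Xs hlb := by
    have hw : φ'.left ≫ pullback.snd b.obj.hom (proj Xs c b.idx) = pullback.snd V.hom (proj Xs c l) :=
      MorphismProperty.Over.w φ'
    calc g ≫ b.obj.hom
        = limToStage c V ≫ φ'.left ≫ pullback.fst b.obj.hom (proj Xs c b.idx) ≫ b.obj.hom :=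
          (Category.assoc _ _ _).trans (congrArg (limToStage c V ≫ ·) (Category.assoc _ _ _))
      _ = limToStage c V ≫ pullback.snd V.hom (proj Xs c l) ≫ proj Xs c b.idx := by
          refine congrArg (limToStage c V ≫ ·) ?_
          exact (congrArg (φ'.left ≫ ·) pullback.condition).trans
            ((Category.assoc _ _ _).symm.trans (congrArg (· ≫ proj Xs c b.idx) hw))
      _ = limToStage c V ≫ pullback.fst V.hom (proj Xs c l) ≫ V.hom ≫ trn Xs hlb := by
          refine congrArg (limToStage c V ≫ ·) ?_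
          exact (congrArg (pullback.snd V.hom (proj Xs c l) ≫ ·) (proj_trn Xs c hlb).symm).trans
            (pullback.condition_assoc (trn Xs hlb)).symm
      _ = _ := (Category.assoc _ _ _).symm.trans
          (congrArg (· ≫ V.hom ≫ trn Xs hlb) (limToStage_fst c V))
  obtain ⟨k, γ, hγ, hγf⟩ := Scheme.exists_π_app_comp_eq_of_locallyOfFinitePresentation
    (stageDiagram V) (stageTrans V (trn Xs hlb)) b.obj.hom
    (Groth.Limits.pullbackCone Xs (op l) V.hom c)
    (Groth.Limits.isLimitPullbackCone Xs (op l) V.hom hc) g (by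
      ext k
      refine Eq.trans ?_ hg.symm
      exact (Category.assoc _ _ _).symm.trans
        (congrArg (· ≫ V.hom ≫ trn Xs hlb) (pullback.lift_snd _ _ _)))
  have h : l ≤ k.left.unop := leOfHom k.hom.unop
  let W := (EtCoh.bc (trn Xs h)).obj V
  let ψ₀ : (incl Xs k.left.unop).obj W ⟶ b := ⟨bcToStage h V ≫ γ, hlb.trans h, by
    refine ((Category.assoc _ _ _).trans ((congrArg (bcToStage h V ≫ ·) hγf).trans ?_))
    refine (Category.assoc _ _ _).symm.trans ((congrArg (· ≫ V.hom ≫ trn Xs hlb)
      (bcToStage_snd h V)).trans ?_)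
    exact (Category.assoc _ _ _).symm.trans ((congrArg (· ≫ trn Xs hlb) pullback.condition).trans
      ((Category.assoc _ _ _).trans (congrArg (pullback.snd V.hom (trn Xs h) ≫ ·)
        (trn_trn Xs hlb h))))⟩
  let β : (EtCoh.bc (trn Xs (hla.trans h))).obj a.obj ⟶ W :=
    factor Xs (a := (incl Xs k.left.unop).obj ((EtCoh.bc (trn Xs (hla.trans h))).obj a.obj))
      (b := (incl Xs l).obj V)
      ⟨pullback.lift (pullback.fst a.obj.hom (trn Xs (hla.trans h)))
          (pullback.snd a.obj.hom (trn Xs (hla.trans h)) ≫ trn Xs h) (by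
            rw [Category.assoc, trn_trn]; exact pullback.condition),
        h, pullback.lift_snd _ _ _⟩ h
  refine ⟨k.left.unop, hla.trans h, (incl Xs k.left.unop).map β ≫ ψ₀, ?_⟩
  have hψ₀ : (toPt Xs c).map ψ₀ =
      (toPt Xs c).map (ext Xs ((incl Xs l).obj V) h) ≫ φ' := by
    refine MorphismProperty.Over.Hom.ext (pullback.hom_ext ?_ ?_)
    · refine (toPt_map_fst Xs c ψ₀).trans ?_
      have e2 : pullback.fst W.hom (proj Xs c k.left.unop) ≫ bcToStage h V =
          (((toPt Xs c).map (ext Xs ((incl Xs l).obj V) h)).left ≫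
            (pullbackSymmetry V.hom (proj Xs c l)).hom) ≫
            (Groth.Limits.pullbackCone Xs (op l) V.hom c).π.app k := by
        refine pullback.hom_ext ?_ ?_
        · refine ((Category.assoc _ _ _).trans ((congrArg (_ ≫ ·)
            (pullbackSymmetry_hom_comp_fst V.hom (trn Xs h))).trans pullback.condition)).trans ?_
          refine Eq.trans ?_ (Category.assoc _ _ _).symm
          refine Eq.trans ?_ (congrArg (_ ≫ ·) (pullback.lift_fst _ _ _).symm)
          refine Eq.trans ?_ (Category.assoc _ _ _)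
          refine congrArg (· ≫ proj Xs c k.left.unop) ?_
          refine Eq.trans ?_ (Category.assoc _ _ _).symm
          refine Eq.trans ?_ (congrArg (_ ≫ ·) (pullbackSymmetry_hom_comp_fst V.hom (proj Xs c l)).symm)
          exact (toPt_map_snd Xs c (ext Xs ((incl Xs l).obj V) h)).symm
        · refine ((Category.assoc _ _ _).trans (congrArg (_ ≫ ·) (bcToStage_snd h V))).trans ?_
          refine Eq.trans ?_ (Category.assoc _ _ _).symm
          refine Eq.trans ?_ (congrArg (_ ≫ ·) (pullback.lift_snd _ _ _).symm)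
          refine Eq.trans ?_ (Category.assoc _ _ _).symm
          refine Eq.trans ?_ (congrArg (_ ≫ ·) (pullbackSymmetry_hom_comp_snd V.hom (proj Xs c l)).symm)
          exact (toPt_map_fst Xs c (ext Xs ((incl Xs l).obj V) h)).symm
      have e3 : (pullbackSymmetry V.hom (proj Xs c l)).hom ≫ g =
          φ'.left ≫ pullback.fst b.obj.hom (proj Xs c b.idx) := Iso.hom_inv_id_assoc _ _
      refine (Category.assoc _ _ _).symm.trans ?_
      refine (congrArg (· ≫ γ) e2).trans ?_
      refine (Category.assoc _ _ _).trans ?_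
      refine (congrArg (_ ≫ ·) hγ).trans ?_
      exact (Category.assoc _ _ _).trans
        ((congrArg (_ ≫ ·) e3).trans (Category.assoc _ _ _).symm)
    · refine (toPt_map_snd Xs c ψ₀).trans ?_
      refine (toPt_map_snd Xs c (ext Xs ((incl Xs l).obj V) h)).symm.trans ?_
      exact ((congrArg (_ ≫ ·) (MorphismProperty.Over.w φ')).symm).trans (Category.assoc _ _ _).symm
  have hcomp : (incl Xs k.left.unop).map β ≫ ext Xs ((incl Xs l).obj V) h ≫ ext Xs a hla =
      ext Xs a (hla.trans h) := by
    refine (Category.assoc _ _ _).symm.trans ?_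
    exact (congrArg (· ≫ ext Xs a hla) (factor_ext Xs _ h)).trans
      (Obj.hom_ext (pullback.lift_fst _ _ _))
  rw [Functor.map_comp, hψ₀, ← hcomp, Functor.map_comp, Functor.map_comp]
  simp only [φ', Category.assoc]
  rfl

include hc in
/-- A family jointly surjective on the limit is jointly surjective at a later stage. -/
theorem exists_cover_stage {i : ι} {U : (Xs.obj (op i)).Etale} [CompactSpace ↥U.left] {κ : Type u}
    (V : κ → (Xs.obj (op i)).Etale) (g : ∀ r, V r ⟶ U)
    (hsurj : Sieve.ofArrows (fun r => (EtCoh.bc (proj Xs c i)).obj (V r))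
      (fun r => (EtCoh.bc (proj Xs c i)).map (g r)) ∈ c.pt.smallEtaleTopology _) :
    ∃ (k : ι) (h : i ≤ k), Sieve.ofArrows (fun r => (EtCoh.bc (trn Xs h)).obj (V r))
      (fun r => (EtCoh.bc (trn Xs h)).map (g r)) ∈ (Xs.obj (op k)).smallEtaleTopology _ := by
  rw [Scheme.ofArrows_mem_smallEtaleTopology_iff] at hsurj
  haveI hg : ∀ r, AlgebraicGeometry.Etale (g r).left := fun r =>
    MorphismProperty.of_postcomp @AlgebraicGeometry.Etale (g r).left U.hom U.prop
      (by rw [MorphismProperty.Over.w]; exact (V r).prop)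
  let O : U.left.Opens := ⟨⋃ r, Set.range (g r).left.base,
    isOpen_iUnion fun r => (g r).left.isOpenMap.isOpen_range⟩
  haveI := fun k => compactSpace_stageDiagram U k
  let s₀ := pullback.snd ((Over.post Xs).obj (Over.mk (𝟙 (op i)))).hom U.hom
  have hπ : (Groth.Limits.pullbackCone Xs (op i) U.hom c).π.app (Over.mk (𝟙 (op i))) ≫ s₀ =
      pullback.snd (proj Xs c i) U.hom := pullback.lift_snd _ _ _
  have htop : (Groth.Limits.pullbackCone Xs (op i) U.hom c).π.app (Over.mk (𝟙 (op i))) ⁻¹ᵁ
      (s₀ ⁻¹ᵁ O) = ⊤ := by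
    rw [← Scheme.Hom.comp_preimage]
    refine eq_top_iff.2 fun x _ => ?_
    have e : ((Groth.Limits.pullbackCone Xs (op i) U.hom c).π.app (Over.mk (𝟙 (op i))) ≫ s₀).base x =
        (pullback.fst U.hom (proj Xs c i)).base ((limToStage c U).base x) :=
      (congrArg (fun m => m.base x) (hπ.trans (limToStage_fst c U).symm)).trans
        (Scheme.Hom.comp_apply _ _ x)
    show _ ∈ O
    refine Set.mem_of_eq_of_mem e ?_
    obtain ⟨r, z, hz⟩ := Set.mem_iUnion.1 (hsurj.ge (Set.mem_univ ((limToStage c U).base x)))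
    refine Set.mem_iUnion.2 ⟨r, (pullback.fst (V r).hom (proj Xs c i)).base z, ?_⟩
    rw [← hz]
    exact (Scheme.Hom.comp_apply _ _ z).symm.trans ((congrArg (fun m => m.base z)
      (EtCoh.isPullback_bc_map (proj Xs c i) (g r)).w.symm).trans (Scheme.Hom.comp_apply _ _ z))
  obtain ⟨k, q, hk⟩ := exists_map_eq_top (stageDiagram U)
    (Groth.Limits.pullbackCone Xs (op i) U.hom c)
    (Groth.Limits.isLimitPullbackCone Xs (op i) U.hom hc) (s₀ ⁻¹ᵁ O) htop
  have h : i ≤ k.left.unop := leOfHom k.hom.unop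
  refine ⟨k.left.unop, h, ?_⟩
  rw [Scheme.ofArrows_mem_smallEtaleTopology_iff]
  refine Set.eq_univ_of_forall fun y => ?_
  have hq : (stageDiagram U).map q ≫ s₀ = pullback.snd ((Over.post Xs).obj k).hom U.hom :=
    pullback.lift_snd _ _ _
  have hy : (pullback.fst U.hom (trn Xs h)).base y ∈ O := by
    have h1 : ((stageDiagram U).map q ≫ s₀).base ((bcToStage h U).base y) ∈ O :=
      hk.ge (Set.mem_univ ((bcToStage h U).base y))
    have h2 : ((stageDiagram U).map q ≫ s₀).base ((bcToStage h U).base y) =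
        (pullback.fst U.hom (trn Xs h)).base y :=
      (congrArg (fun m : (stageDiagram U).obj k ⟶ U.left => m.base ((bcToStage h U).base y)) hq).trans
        ((Scheme.Hom.comp_apply _ _ y).symm.trans (congrArg (fun m => m.base y) (bcToStage_snd h U)))
    exact Set.mem_of_eq_of_mem h2.symm h1
  obtain ⟨r, v, hv⟩ := Set.mem_iUnion.1 hy
  obtain ⟨z, hz, -⟩ := Scheme.Pullback.exists_preimage_pullback
    (f := pullback.fst U.hom (trn Xs h)) (g := (g r).left) y v hv.symm
  refine Set.mem_iUnion.2 ⟨r, ?_, ?_⟩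
  · exact (EtCoh.isPullback_bc_map (trn Xs h) (g r)).isoPullback.inv z
  · refine Eq.trans ?_ hz
    exact (Scheme.Hom.comp_apply _ _ z).symm.trans (congrArg (fun m => m.base z)
      (EtCoh.isPullback_bc_map (trn Xs h) (g r)).isoPullback_inv_fst)

end Groth.EtaleBase.EtLimit
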