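import Groth.Agent.EtaleBase.Limit.Topology
import Groth.Agent.SiteCohomology.ShriekExact
import Groth.Agent.ZetaAn.LanExact
import Mathlib.CategoryTheory.Limits.Shapes.Equalizers
import Mathlib.CategoryTheory.Sites.LeftExact
import Mathlib.CategoryTheory.Preadditive.Injective.Preserves

/-!
Abelian sheaves on the inverse system: restriction to the fibres and inverse image to the cone point.
-/

set_option autoImplicit false

universe u

open CategoryTheory CategoryTheory.Limits AlgebraicGeometry Opposite

namespace Groth.EtaleBase.EtLimit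

variable {ι : Type u} [Preorder ι] (Xs : ιᵒᵖ ⥤ Scheme.{u})

/-- Abelian sheaves on the system. -/
abbrev AbSys : Type _ := Sheaf (top' Xs) AddCommGrpCat.{u + 1}

instance isGrothendieckAbelian_abSys : IsGrothendieckAbelian.{u + 1} (AbSys Xs) := by
  have : EssentiallySmall.{u + 1} (Obj Xs) := inferInstance
  exact Sheaf.isGrothendieckAbelian_of_essentiallySmall _ _

/-- Restriction to a fibre. -/
noncomputable abbrev res (j : ι) : AbSys Xs ⥤ EtCoh.Ab (Xs.obj (op j)) :=
  (incl Xs j).sheafPushforwardContinuous AddCommGrpCat.{u + 1}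
    (Xs.obj (op j)).smallEtaleTopology (top' Xs)

/-- Morphisms into the inclusion of a fibre are determined by the underlying morphism of schemes. -/
lemma exists_hom_incl {d : Obj Xs} {j : ι} {V : (Xs.obj (op j)).Etale} {a : (Xs.obj (op j)).Etale}
    (x : d ⟶ (incl Xs j).obj a) (t : V ⟶ a) (l : d.obj.left ⟶ V.left) (h : l ≫ t.left = x.1) :
    ∃ z : d ⟶ (incl Xs j).obj V, z.1 = l ∧ z ≫ (incl Xs j).map t = x := by
  refine ⟨⟨l, (Obj.idx_le x : j ≤ d.idx), ?_⟩, rfl, Obj.hom_ext h⟩
  refine Eq.trans ?_ (Obj.w x (Obj.idx_le x))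
  exact (congrArg (l ≫ ·) (MorphismProperty.Over.w t).symm).trans
    ((Category.assoc _ _ _).symm.trans (congrArg (· ≫ a.hom) h))

lemma locallyFiltered_incl (j : ι) (d : (Obj Xs)ᵒᵖ) :
    Groth.SiteCohomology.LocallyFiltered (CostructuredArrow (incl Xs j).op d) := by
  refine Groth.SiteCohomology.locallyFiltered_costructuredArrow_op (incl Xs j)
    (fun {d a b c} x y p q e => ?_) (fun {d a b} y p q e => ?_) d
  · have hp : IsPullback (pullback.fst p q).left (pullback.snd p q).left p.left q.left :=
      (IsPullback.of_hasPullback p q).map (Scheme.Etale.forget _ ⋙ Over.forget _)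
    obtain ⟨z, hz, hzx⟩ := exists_hom_incl Xs x (pullback.fst p q)
      (hp.lift x.1 y.1 (congrArg Subtype.val e)) (hp.lift_fst _ _ _)
    exact ⟨pullback p q, z, pullback.fst p q, pullback.snd p q, hzx, Obj.hom_ext
      ((congrArg (· ≫ (pullback.snd p q).left) hz).trans (hp.lift_snd _ _ _))⟩
  · let hl := isLimitForkMapOfIsLimit (Scheme.Etale.forget _ ⋙ Over.forget _)
      (equalizer.condition p q) (equalizerIsEqualizer p q)
    obtain ⟨z, -, hz⟩ := exists_hom_incl Xs y (equalizer.ι p q)
      (Fork.IsLimit.lift hl y.1 (congrArg Subtype.val e)) (Fork.IsLimit.lift_ι hl)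
    exact ⟨equalizer p q, z, equalizer.ι p q, hz, equalizer.condition p q⟩

lemma mono_lan_incl (j : ι) {P Q : (Xs.obj (op j)).Etaleᵒᵖ ⥤ AddCommGrpCat.{u + 1}} (φ : P ⟶ Q)
    (hφ : Mono φ) : Mono ((incl Xs j).op.lan.map φ) :=
  haveI := hφ
  Groth.SiteCohomology.mono_lan_map_of_locallyFiltered (A := AddCommGrpCat.{u + 1})
    (incl Xs j).op (locallyFiltered_incl Xs j) φ

instance preservesFiniteLimits_pullback_incl (j : ι) :
    PreservesFiniteLimits ((incl Xs j).sheafPullback AddCommGrpCat.{u + 1}
      (Xs.obj (op j)).smallEtaleTopology (top' Xs)) :=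
  Groth.SiteCohomology.preservesFiniteLimits_sheafPullback_of_lan_mono
    (Xs.obj (op j)).smallEtaleTopology (top' Xs) (incl Xs j) AddCommGrpCat.{u + 1}
    fun {P Q} φ hφ => mono_lan_incl Xs j φ hφ

/-- Restriction to a fibre preserves injective sheaves. -/
instance res_preservesInjectiveObjects (j : ι) : (res Xs j).PreservesInjectiveObjects :=
  ⟨fun _ => Groth.SiteCohomology.injective_map_of_adjunction
    ((incl Xs j).sheafAdjunctionContinuous _ _ _) _⟩

instance res_preservesFiniteColimits (j : ι) : PreservesFiniteColimits (res Xs j) :=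
  Groth.SiteCohomology.preservesFiniteColimits_sheafPushforward
    (Xs.obj (op j)).smallEtaleTopology (top' Xs) (incl Xs j) AddCommGrpCat.{u + 1}

instance res_preservesFiniteLimits (j : ι) : PreservesFiniteLimits (res Xs j) :=
  ((incl Xs j).sheafAdjunctionContinuous AddCommGrpCat.{u + 1}
    (Xs.obj (op j)).smallEtaleTopology
    (top' Xs)).rightAdjoint_preservesLimits.{0, 0}.preservesFiniteLimits

instance res_additive (j : ι) : (res Xs j).Additive where

variable (c : Cone Xs) [Nonempty ι] [IsDirectedOrder ι]

/-- Direct image from the cone point. -/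
noncomputable abbrev pushSys : EtCoh.Ab c.pt ⥤ AbSys Xs :=
  (toPt Xs c).sheafPushforwardContinuous AddCommGrpCat.{u + 1} (top' Xs) c.pt.smallEtaleTopology

/-- Inverse image to the cone point. -/
noncomputable abbrev pullSys : AbSys Xs ⥤ EtCoh.Ab c.pt :=
  Functor.sheafPullbackConstruction.sheafPullback (toPt Xs c) AddCommGrpCat.{u + 1} (top' Xs)
    c.pt.smallEtaleTopology

/-- The adjunction. -/
noncomputable abbrev sysAdj : pullSys Xs c ⊣ pushSys Xs c :=
  Functor.sheafPullbackConstruction.sheafAdjunctionContinuous (toPt Xs c) AddCommGrpCat.{u + 1}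
    (top' Xs) c.pt.smallEtaleTopology

instance pullSys_preservesFiniteLimits : PreservesFiniteLimits (pullSys Xs c) :=
  haveI := Groth.ZetaAn.lan_preservesFiniteLimits.{u} (toPt Xs c)
  inferInstance

instance pullSys_preservesFiniteColimits : PreservesFiniteColimits (pullSys Xs c) :=
  (sysAdj Xs c).leftAdjoint_preservesColimits.{0, 0}.preservesFiniteColimits

instance pushSys_additive : (pushSys Xs c).Additive where

instance pullSys_additive : (pullSys Xs c).Additive := (sysAdj Xs c).left_adjoint_additive

/-- Restriction to a fibre of a direct image is the direct image along the projection. -/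
noncomputable def resPushIso (j : ι) : pushSys Xs c ⋙ res Xs j ≅ EtCoh.push (proj Xs c j) :=
  NatIso.ofComponents (fun G => (fullyFaithfulSheafToPresheaf _ _).preimageIso
    (NatIso.ofComponents (fun _ => Iso.refl _) (fun {V W} f => by
      refine (Category.comp_id _).trans (Eq.trans ?_ (Category.id_comp _).symm)
      exact congrArg (fun g => G.obj.map g.op) (toPt_map_incl Xs c j f.unop))))
    (fun {G G'} φ => by
      apply (sheafToPresheaf _ _).map_injective
      ext V : 2
      exact (Category.comp_id _).trans (Category.id_comp _).symm)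

end Groth.EtaleBase.EtLimit
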