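import Groth.Agent.EtaleBase.Limit.StalkLimit

/-!
Base change of higher direct images passes to limits of systems of cartesian squares.
-/

set_option autoImplicit false

universe u

open CategoryTheory CategoryTheory.Limits CategoryTheory.Abelian AlgebraicGeometry Opposite

namespace Groth.EtaleBase.EtLimit

attribute [local instance] pull_preservesFiniteLimits

namespace CHom

variable {A B C : Scheme.{u}} {GA : EtCoh.Ab A} {GB : EtCoh.Ab B} {GC : EtCoh.Ab C}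

lemma isIso_lift (f : CHom GC GB) [IsIso f.α] {B' C' : Scheme.{u}} (u' : B' ⟶ B) (u : C' ⟶ C) (k : B' ⟶ C')
    (h : k ≫ u = u' ≫ f.m) : IsIso ((f.comp (cart u' GB)).factor u k h).α :=
  inferInstanceAs (IsIso ((((EtCore.pullComp k u).symm ≪≫ EtCore.pullCongr h).app GC).hom ≫
    (EtCore.pullComp u' f.m).hom.app GC ≫ (EtCoh.pull u').map f.α ≫ 𝟙 _))

lemma mk_eq_cart_post (u : A ⟶ B) {G' : EtCoh.Ab A} (β : (EtCoh.pull u).obj GB ⟶ G') :
    CHom.mk u β = (cart u GB).post β :=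
  congrArg (CHom.mk u) (Category.id_comp β).symm

lemma post_post (f : CHom GB GA) {G' G'' : EtCoh.Ab A} (β : GA ⟶ G') (β' : G' ⟶ G'') :
    (f.post β).post β' = f.post (β ≫ β') :=
  congrArg (CHom.mk f.m) (Category.assoc _ _ _)

end CHom

lemma bijective_st {T S T' S' : Scheme.{u}} {g : T ⟶ S} {F : EtCoh.Ab T} {g' : T' ⟶ S'} {F' : EtCoh.Ab T'}
    (a : SMor g F g' F') {Ω : Type u} [Field Ω] [IsSepClosed Ω] (ξ : Spec (CommRingCat.of Ω) ⟶ S')
    (η : Spec (CommRingCat.of Ω) ⟶ S) (h : ξ ≫ a.bS = η) (q : ℕ) :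
    Function.Bijective (a.st ξ η h q) ↔ Function.Bijective (stalkBC g a.bS g' a.c.m a.w a.c.α ξ q) := by
  subst h
  rw [SMor.st_rfl]

section

variable {ι : Type u} [Preorder ι] {Xs Ss Ts Ys : ιᵒᵖ ⥤ Scheme.{u}} (fN : Xs ⟶ Ss) (gN : Ts ⟶ Ss)
  (hN : Ys ⟶ Xs) (eN : Ys ⟶ Ts) (cX : Cone Xs) (cS : Cone Ss) (cT : Cone Ts) (cY : Cone Ys)
  (f : cX.pt ⟶ cS.pt) (g : cT.pt ⟶ cS.pt) (h : cY.pt ⟶ cX.pt) (e : cY.pt ⟶ cT.pt)
  (hf : ∀ j, f ≫ proj Ss cS j = proj Xs cX j ≫ fN.app (op j))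
  (hg : ∀ j, g ≫ proj Ss cS j = proj Ts cT j ≫ gN.app (op j))
  (hh : ∀ j, h ≫ proj Xs cX j = proj Ys cY j ≫ hN.app (op j))
  (he : ∀ j, e ≫ proj Ts cT j = proj Ys cY j ≫ eN.app (op j))
  (F : ∀ i : ι, EtCoh.Ab (Ts.obj (op i)))
  (φ : ∀ ⦃i j : ι⦄ (h : i ≤ j), (EtCoh.pull (Ts.map (homOfLE h).op)).obj (F i) ⟶ F j)
  (hφ : ∀ ⦃i j k : ι⦄ (hij : i ≤ j) (hjk : j ≤ k),
    φ (hij.trans hjk) = (EtLim.pullTrans Ts hij hjk).hom.app (F i) ≫
      (EtCoh.pull (Ts.map (homOfLE hjk).op)).map (φ hij) ≫ φ hjk)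
  (G : ι ⥤ EtCoh.Ab cT.pt)
  (ψ : ∀ i : ι, (EtCoh.pull (cT.π.app (op i))).obj (F i) ≅ G.obj i)
  (hψ : ∀ ⦃i j : ι⦄ (hij : i ≤ j), (ψ i).hom ≫ G.map (homOfLE hij) =
    (EtLim.pullTransCone Ts cT hij).hom.app (F i) ≫ (EtCoh.pull (cT.π.app (op j))).map (φ hij) ≫ (ψ j).hom)

/-- The inverse images of the system. -/
noncomputable abbrev bcF (i : ι) : EtCoh.Ab (Ys.obj (op i)) := (EtCoh.pull (eN.app (op i))).obj (F i)

/-- Their transition morphisms. -/
noncomputable def bcTrans {i j : ι} (hij : i ≤ j) : CHom (bcF eN F i) (bcF eN F j) :=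
  ((transC F φ hij).comp (CHom.cart (eN.app (op j)) (F j))).factor (eN.app (op i)) (trn Ys hij)
    (trn_gN eN hij)

/-- The transition morphisms of sheaves. -/
noncomputable def bcPhi ⦃i j : ι⦄ (hij : i ≤ j) :
    (EtCoh.pull (Ys.map (homOfLE hij).op)).obj (bcF eN F i) ⟶ bcF eN F j :=
  (bcTrans eN F φ hij).α

include hφ in
lemma bcTrans_comp {i j k : ι} (hij : i ≤ j) (hjk : j ≤ k) :
    (bcTrans eN F φ hij).comp (bcTrans eN F φ hjk) = bcTrans eN F φ (hij.trans hjk) :=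
  (CHom.lift_comp (transC F φ hij) (transC F φ hjk) _ _ _ _ (trn_gN eN hij) _ (trn_gN eN hjk) _
    (trn_trn Ys hij hjk) ((trn_gN eN (hij.trans hjk)).trans (congrArg (_ ≫ ·) (trn_trn Ts hij hjk).symm))).trans
    (CHom.factor_congr (congrArg (fun f => CHom.comp f _) (transC_comp F φ hφ hij hjk)) _ _ _ _)

include hφ in
lemma bcPhi_comp ⦃i j k : ι⦄ (hij : i ≤ j) (hjk : j ≤ k) :
    bcPhi eN F φ (hij.trans hjk) = (EtLim.pullTrans Ys hij hjk).hom.app (bcF eN F i) ≫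
      (EtCoh.pull (Ys.map (homOfLE hjk).op)).map (bcPhi eN F φ hij) ≫ bcPhi eN F φ hjk :=
  phi_comp_of (bcF eN F) (bcPhi eN F φ) (fun _ _ _ a b => bcTrans_comp eN F φ hφ a b) hij hjk

/-- The inverse image of the diagram. -/
noncomputable abbrev bcG : ι ⥤ EtCoh.Ab cY.pt := G ⋙ EtCoh.pull e

/-- The morphism to a member of the inverse image of the diagram. -/
noncomputable def bcStage (i : ι) : CHom (bcF eN F i) ((bcG cT cY e G).obj i) :=
  ((stageC F cT G ψ i).comp (CHom.cart e (G.obj i))).factor (eN.app (op i)) (proj Ys cY i) (he i).symm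

/-- Its identification. -/
noncomputable def bcPsi (i : ι) :
    (EtCoh.pull (cY.π.app (op i))).obj (bcF eN F i) ≅ (bcG cT cY e G).obj i :=
  @asIso _ _ _ _ (bcStage eN cT cY e he F G ψ i).α
    (@CHom.isIso_lift _ _ _ _ (stageC F cT G ψ i) (inferInstanceAs (IsIso (ψ i).hom)) _ _ e _ _ (he i).symm)

include hψ in
lemma bcPsi_comp ⦃i j : ι⦄ (hij : i ≤ j) :
    (bcPsi eN cT cY e he F G ψ i).hom ≫ (bcG cT cY e G).map (homOfLE hij) =
      (EtLim.pullTransCone Ys cY hij).hom.app (bcF eN F i) ≫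
        (EtCoh.pull (cY.π.app (op j))).map (bcPhi eN F φ hij) ≫ (bcPsi eN cT cY e he F G ψ j).hom := by
  refine psi_comp_of (bcF eN F) (bcPhi eN F φ) cY (bcG cT cY e G) (bcPsi eN cT cY e he F G ψ) ?_ hij
  intro i j hij
  have hm : proj Ys cY i ≫ eN.app (op i) =
      (((stageC F cT G ψ i).post (G.map (homOfLE hij))).comp (CHom.cart e (G.obj j))).m := (he i).symm
  refine Eq.trans ?_ (CHom.lift_post (stageC F cT G ψ i) (G.map (homOfLE hij)) e _ _ (he i).symm hm).symm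
  refine (CHom.lift_comp (transC F φ hij) (stageC F cT G ψ j) _ _ _ _ (trn_gN eN hij) _ (he j).symm
    (proj Ys cY i) (proj_trn Ys cY hij) ((he i).symm.trans (congrArg (_ ≫ ·) (proj_trn Ts cT hij).symm))).trans ?_
  exact CHom.factor_congr (congrArg (fun f => CHom.comp f _) (stageC_comp F φ cT G ψ hψ hij)) _ _ _ _

/-- The colimit of the inverse image. -/
noncomputable def bcColim : (EtCoh.pull e).obj (colimit G) ≅ colimit (bcG cT cY e G) :=
  haveI : (EtCoh.pull e).IsLeftAdjoint := (EtCoh.pullPushAdj e).isLeftAdjoint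
  (isColimitOfPreserves (EtCoh.pull e) (colimit.isColimit G)).coconePointUniqueUpToIso
    (colimit.isColimit (bcG cT cY e G))

lemma map_ι_bcColim (i : ι) :
    (EtCoh.pull e).map (colimit.ι G i) ≫ (bcColim cT cY e G).hom = colimit.ι (bcG cT cY e G) i := by
  haveI : (EtCoh.pull e).IsLeftAdjoint := (EtCoh.pullPushAdj e).isLeftAdjoint
  exact IsColimit.comp_coconePointUniqueUpToIso_hom
    (isColimitOfPreserves (EtCoh.pull e) (colimit.isColimit G)) _ i

lemma limC_bc (i : ι) :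
    (limC F cT G ψ i).comp ⟨e, (bcColim cT cY e G).hom⟩ =
      (CHom.cart (eN.app (op i)) (F i)).comp
        (limC (bcF eN F) cY (bcG cT cY e G) (bcPsi eN cT cY e he F G ψ) i) := by
  refine Eq.trans ?_ ((congrArg (fun c => CHom.post c (colimit.ι (bcG cT cY e G) i))
    (CHom.cart_comp_factor ((stageC F cT G ψ i).comp (CHom.cart e (G.obj i))) (eN.app (op i))
      (proj Ys cY i) (he i).symm)).symm.trans (CHom.comp_post _ _ _))
  refine (congrArg (CHom.comp (limC F cT G ψ i)) (CHom.mk_eq_cart_post e (bcColim cT cY e G).hom)).trans ?_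
  refine (CHom.comp_post _ _ _).symm.trans ?_
  refine (congrArg (fun c => CHom.post c (bcColim cT cY e G).hom)
    (CHom.post_comp_cart (stageC F cT G ψ i) (colimit.ι G i) e)).trans ?_
  exact (CHom.post_post _ _ _).trans (congrArg (CHom.post _) (map_ι_bcColim cT cY e G i))

/-- The morphism of stages. -/
noncomputable def bcS (sq : ∀ i, eN.app (op i) ≫ gN.app (op i) = hN.app (op i) ≫ fN.app (op i)) (i : ι) :
    SMor (gN.app (op i)) (F i) (hN.app (op i)) (bcF eN F i) :=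
  ⟨fN.app (op i), CHom.cart (eN.app (op i)) (F i), sq i⟩

/-- The morphism at the limit. -/
noncomputable def bcM (w : e ≫ g = h ≫ f) : SMor g (colimit G) h (colimit (bcG cT cY e G)) :=
  ⟨f, ⟨e, (bcColim cT cY e G).hom⟩, w⟩

variable (sq : ∀ i, eN.app (op i) ≫ gN.app (op i) = hN.app (op i) ≫ fN.app (op i)) (w : e ≫ g = h ≫ f)

include hf in
lemma bc_square_lim (i : ι) :
    (toLimS gN cT cS g hg F G ψ i).comp (bcM cX cS cT cY f g h e G w) =
      (bcS fN gN hN eN F sq i).comp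
        (toLimS hN cY cX h hh (bcF eN F) (bcG cT cY e G) (bcPsi eN cT cY e he F G ψ) i) :=
  SMor.ext' (hf i) (limC_bc eN cT cY e he F G ψ i)

lemma bc_square_trans {i j : ι} (hij : i ≤ j) :
    (transS gN F φ hij).comp (bcS fN gN hN eN F sq j) =
      (bcS fN gN hN eN F sq i).comp (transS hN (bcF eN F) (bcPhi eN F φ) hij) :=
  SMor.ext' (trn_gN fN hij).symm
    (CHom.cart_comp_factor ((transC F φ hij).comp (CHom.cart (eN.app (op j)) (F j))) (eN.app (op i))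
      (trn Ys hij) (trn_gN eN hij)).symm

include hψ in
lemma toLimS_trans {i j : ι} (hij : i ≤ j) :
    (transS gN F φ hij).comp (toLimS gN cT cS g hg F G ψ j) = toLimS gN cT cS g hg F G ψ i :=
  SMor.ext' (proj_trn Ss cS hij) (limC_comp F φ cT G ψ hψ hij)

variable [Nonempty ι] [IsDirectedOrder ι] [∀ (p q : ιᵒᵖ) (m : p ⟶ q), IsAffineHom (Ts.map m)]
  [∀ (p q : ιᵒᵖ) (m : p ⟶ q), IsAffineHom (Ss.map m)] [∀ (p q : ιᵒᵖ) (m : p ⟶ q), IsAffineHom (Xs.map m)]
  [∀ (p q : ιᵒᵖ) (m : p ⟶ q), IsAffineHom (Ys.map m)] [∀ a : ιᵒᵖ, QuasiCompact (gN.app a)]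
  [∀ a : ιᵒᵖ, QuasiSeparated (gN.app a)] [∀ a : ιᵒᵖ, QuasiCompact (hN.app a)]
  [∀ a : ιᵒᵖ, QuasiSeparated (hN.app a)]

include hf hg hh he hφ hψ in
/-- The map on stalks at the limit is bijective if it is so at all stages. -/
theorem bijective_bcM (hcX : IsLimit cX) (hcS : IsLimit cS) (hcT : IsLimit cT) (hcY : IsLimit cY)
    {Ω : Type u} [Field Ω] [IsSepClosed Ω] (ξ : Spec (CommRingCat.of Ω) ⟶ cX.pt) (q : ℕ)
    (hb : ∀ i, Function.Bijective (stalkBC (gN.app (op i)) (fN.app (op i)) (hN.app (op i)) (eN.app (op i))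
      (sq i) (𝟙 ((EtCoh.pull (eN.app (op i))).obj (F i))) (ξ ≫ proj Xs cX i) q)) :
    Function.Bijective ((bcM cX cS cT cY f g h e G w).st ξ (ξ ≫ f) rfl q) := by
  let η := ξ ≫ f
  let M := bcM cX cS cT cY f g h e G w
  let L := fun i => toLimS gN cT cS g hg F G ψ i
  let L' := fun i => toLimS hN cY cX h hh (bcF eN F) (bcG cT cY e G) (bcPsi eN cT cY e he F G ψ) i
  let A := fun i => bcS fN gN hN eN F sq i
  have hA : ∀ i, (ξ ≫ proj Xs cX i) ≫ fN.app (op i) = η ≫ proj Ss cS i := fun i =>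
    (Category.assoc _ _ _).trans ((congrArg (ξ ≫ ·) (hf i).symm).trans (Category.assoc _ _ _).symm)
  have hbA : ∀ i, Function.Bijective ((A i).st (ξ ≫ proj Xs cX i) (η ≫ proj Ss cS i) (hA i) q) := fun i =>
    (bijective_st (A i) _ _ (hA i) q).2 (hb i)
  have key : ∀ i x, M.st ξ η rfl q ((L i).st η (η ≫ proj Ss cS i) rfl q x) =
      (L' i).st ξ (ξ ≫ proj Xs cX i) rfl q ((A i).st (ξ ≫ proj Xs cX i) (η ≫ proj Ss cS i) (hA i) q x) := by
    intro i x
    have e1 : ξ ≫ ((L i).comp M).bS = η ≫ proj Ss cS i := (Category.assoc _ _ _).symm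
    have e2 : ξ ≫ ((A i).comp (L' i)).bS = η ≫ proj Ss cS i := (Category.assoc _ _ _).symm.trans (hA i)
    exact (SMor.st_comp (L i) M ξ η _ rfl rfl e1 q x).trans ((ConcreteCategory.congr_hom
      (SMor.st_congr (bc_square_lim fN gN hN eN cX cS cT cY f g h e hf hg hh he F G ψ sq w i) ξ _ e1 e2 q) x).trans
      (SMor.st_comp (A i) (L' i) ξ _ _ rfl (hA i) e2 q x).symm)
  refine ⟨(injective_iff_map_eq_zero _).2 fun x hx => ?_, fun z => ?_⟩
  · obtain ⟨i, y, rfl⟩ := stalk_limit_surj gN cT cS g hg F φ hφ G ψ hψ η q hcT hcS x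
    rw [key] at hx
    obtain ⟨k, hik, hk⟩ := stalk_limit_inj hN cY cX h hh (bcF eN F) (bcPhi eN F φ)
      (bcPhi_comp eN F φ hφ) (bcG cT cY e G) (bcPsi eN cT cY e he F G ψ)
      (bcPsi_comp eN cT cY e he F φ G ψ hψ) ξ q hcY hcX i _ hx
    let R := transS gN F φ hik
    let R' := transS hN (bcF eN F) (bcPhi eN F φ) hik
    have e3 : (ξ ≫ proj Xs cX k) ≫ (R.comp (A k)).bS = η ≫ proj Ss cS i :=
      (Category.assoc _ _ _).symm.trans ((congrArg (· ≫ trn Ss hik) (hA k)).trans (pt_trn cS η hik))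
    have e4 : (ξ ≫ proj Xs cX k) ≫ ((A i).comp R').bS = η ≫ proj Ss cS i :=
      (Category.assoc _ _ _).symm.trans ((congrArg (· ≫ fN.app (op i)) (pt_trn cX ξ hik)).trans (hA i))
    rw [SMor.st_comp (A i) R' _ _ _ (pt_trn cX ξ hik) (hA i) e4,
      ConcreteCategory.congr_hom (SMor.st_congr
        (bc_square_trans fN gN hN eN F φ sq hik).symm _ _ e4 e3 q) y,
      ← SMor.st_comp R (A k) _ _ _ (hA k) (pt_trn cS η hik) e3] at hk
    have hy0 : R.st (η ≫ proj Ss cS k) (η ≫ proj Ss cS i) (pt_trn cS η hik) q y = 0 :=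
      (hbA k).1 (hk.trans (map_zero _).symm)
    have e5 : η ≫ (R.comp (L k)).bS = η ≫ proj Ss cS i := congrArg (η ≫ ·) (proj_trn Ss cS hik)
    refine (ConcreteCategory.congr_hom (SMor.st_congr
      (toLimS_trans gN cS cT g hg F φ G ψ hψ hik).symm η _ rfl e5 q) y).trans ?_
    exact (SMor.st_comp R (L k) η (η ≫ proj Ss cS k) _ rfl (pt_trn cS η hik) e5 q y).symm.trans
      ((congrArg _ hy0).trans (map_zero _))
  · obtain ⟨i, y', hy'⟩ := stalk_limit_surj hN cY cX h hh (bcF eN F) (bcPhi eN F φ)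
      (bcPhi_comp eN F φ hφ) (bcG cT cY e G) (bcPsi eN cT cY e he F G ψ)
      (bcPsi_comp eN cT cY e he F φ G ψ hψ) ξ q hcY hcX z
    obtain ⟨y, hy⟩ := (hbA i).2 y'
    exact ⟨(L i).st η (η ≫ proj Ss cS i) rfl q y, (key i y).trans ((congrArg _ hy).trans hy')⟩

include hφ hψ in
/-- Base change passes to the limit. -/
theorem isIso_bcQ_limit (hcX : IsLimit cX) (hcS : IsLimit cS) (hcT : IsLimit cT) (hcY : IsLimit cY)
    (hf : ∀ j, f ≫ proj Ss cS j = proj Xs cX j ≫ fN.app (op j))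
    (hg : ∀ j, g ≫ proj Ss cS j = proj Ts cT j ≫ gN.app (op j))
    (hh : ∀ j, h ≫ proj Xs cX j = proj Ys cY j ≫ hN.app (op j))
    (he : ∀ j, e ≫ proj Ts cT j = proj Ys cY j ≫ eN.app (op j))
    [∀ a, PreservesFiniteLimits (EtCoh.pull (eN.app a))] [PreservesFiniteLimits (EtCoh.pull e)] (q : ℕ)
    (hstage : ∀ i : ι, IsIso (EtBC.bcQ (gN.app (op i)) (fN.app (op i)) (hN.app (op i)) (eN.app (op i))
      (sq i) q (F i))) :
    IsIso (EtBC.bcQ g f h e w q (colimit G)) := by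
  refine isIso_bcQ g f h e w q fun s => ?_
  refine (bijective_stalkBC_iff g f h e w (geomPoint s) (𝟙 _) q).2
    ((bijective_stalkBC_iff g f h e w (geomPoint s) (bcColim cT cY e G).hom q).1 ?_)
  refine (bijective_st (bcM cX cS cT cY f g h e G w) _ _ rfl q).1
    (bijective_bcM fN gN hN eN cX cS cT cY f g h e hf hg hh he F φ hφ G ψ hψ sq w hcX hcS hcT hcY _ q fun i => ?_)
  exact bijective_stalkBC (gN.app (op i)) (fN.app (op i)) (hN.app (op i)) (eN.app (op i)) (sq i) _ _ q (hstage i)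

end

end Groth.EtaleBase.EtLimit
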