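import Groth.Agent.EtaleBase.ExtAdj
import Groth.Agent.EtaleBase.PullConstComp
import Groth.Prelude.Def_EtLim

/-!
Pull back of cohomology classes along a morphism of schemes with coefficients changed by a morphism
`F ⟶ u_* M`: compatibility with connecting homomorphisms and the formula in degree zero.
-/

set_option autoImplicit false

universe u

open CategoryTheory CategoryTheory.Limits CategoryTheory.Abelian AlgebraicGeometry Opposite

namespace Groth.EtaleBase.EtLimit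

variable {X Y : Scheme.{u}} (u : X ⟶ Y) [PreservesFiniteLimits (EtCoh.pull u)]

/-- The pullback map attached to `F ⟶ u_* M`. -/
noncomputable abbrev pullOn {F : EtCoh.Ab Y} {M : EtCoh.Ab X} (ρ : F ⟶ (EtCoh.push u).obj M) (n : ℕ) :
    EtCoh.H Y F n →+ EtCoh.H X M n :=
  EtLim.HpullThen u F (((EtCoh.pullPushAdj u).homEquiv F M).symm ρ) n

/-- The pullback in terms of Ext groups. -/
lemma pullOn_apply {F : EtCoh.Ab Y} {M : EtCoh.Ab X} (ρ : F ⟶ (EtCoh.push u).obj M) (n : ℕ)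
    (x : EtCoh.H Y F n) :
    pullOn u ρ n x = ((Ext.mk₀ (EtCore.pullConst u ℤ).inv).comp
      (x.mapExactFunctor (EtCoh.pull u)) (zero_add n)).comp
        (Ext.mk₀ (((EtCoh.pullPushAdj u).homEquiv F M).symm ρ)) (add_zero n) :=
  rfl

/-- Naturality. -/
lemma pullOn_map {F F' : EtCoh.Ab Y} {M M' : EtCoh.Ab X} (f : F ⟶ F') (g : M ⟶ M')
    (ρ : F ⟶ (EtCoh.push u).obj M) (ρ' : F' ⟶ (EtCoh.push u).obj M')
    (h : f ≫ ρ' = ρ ≫ (EtCoh.push u).map g) (n : ℕ) (x : EtCoh.H Y F n) :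
    pullOn u ρ' n (x.comp (Ext.mk₀ f) (add_zero n)) =
      (pullOn u ρ n x).comp (Ext.mk₀ g) (add_zero n) := by
  have h' : (EtCoh.pull u).map f ≫ ((EtCoh.pullPushAdj u).homEquiv _ _).symm ρ' =
      ((EtCoh.pullPushAdj u).homEquiv _ _).symm ρ ≫ g := by
    rw [← Adjunction.homEquiv_naturality_left_symm, ← Adjunction.homEquiv_naturality_right_symm, h]
  rw [pullOn_apply, pullOn_apply, Ext.mapExactFunctor_comp, Ext.mapExactFunctor_mk₀,
    Ext.comp_assoc_of_second_deg_zero, Ext.comp_assoc_of_third_deg_zero,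
    Ext.comp_assoc_of_third_deg_zero, Ext.comp_assoc_of_third_deg_zero, Ext.mk₀_comp_mk₀, h',
    ← Ext.mk₀_comp_mk₀]

/-- Compatibility with connecting homomorphisms. -/
lemma pullOn_extClass {S : ShortComplex (EtCoh.Ab Y)} {S' : ShortComplex (EtCoh.Ab X)}
    (hS : S.ShortExact) (hS' : S'.ShortExact) (ρ : S ⟶ S'.map (EtCoh.push u)) (n : ℕ)
    (a : EtCoh.H Y S.X₃ n) :
    pullOn u ρ.τ₁ (n + 1) (a.comp hS.extClass rfl) = (pullOn u ρ.τ₃ n a).comp hS'.extClass rfl := by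
  let φ : S.map (EtCoh.pull u) ⟶ S' := ShortComplex.Hom.mk
    (((EtCoh.pullPushAdj u).homEquiv _ _).symm ρ.τ₁) (((EtCoh.pullPushAdj u).homEquiv _ _).symm ρ.τ₂)
    (((EtCoh.pullPushAdj u).homEquiv _ _).symm ρ.τ₃)
    (((EtCoh.pullPushAdj u).homEquiv_naturality_right_symm _ _).symm.trans
      ((congrArg _ ρ.comm₁₂).trans ((EtCoh.pullPushAdj u).homEquiv_naturality_left_symm _ _)))
    (((EtCoh.pullPushAdj u).homEquiv_naturality_right_symm _ _).symm.trans
      ((congrArg _ ρ.comm₂₃).trans ((EtCoh.pullPushAdj u).homEquiv_naturality_left_symm _ _)))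
  have key := ShortComplex.ShortExact.extClass_naturality (hS.map_of_exact (EtCoh.pull u)) hS' φ
  rw [pullOn_apply, pullOn_apply]
  refine (congrArg (fun z => ((Ext.mk₀ (EtCore.pullConst u ℤ).inv).comp z (zero_add (n + 1))).comp
    (Ext.mk₀ φ.τ₁) (add_zero (n + 1))) (ExtAdj.mapExt_comp_extClass (EtCoh.pull u) hS a)).trans ?_
  exact (congrArg (fun z => Ext.comp z (Ext.mk₀ φ.τ₁) (add_zero (n + 1)))
    (ExtAdj.pre_assoc _ _ _).symm).trans (ExtAdj.step _ _ _ φ.τ₃ _ key)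

/-- Global sections as cohomology of degree zero. -/
noncomputable abbrev gs {Y : Scheme.{u}} (F : EtCoh.Ab Y) :
    EtCoh.H Y F 0 ≃+ F.obj.obj (op (EtCoh.top Y)) :=
  Sheaf.H.equiv₀ F (EtCore.topIsTerminal Y)

omit [PreservesFiniteLimits (EtCoh.pull u)] in
lemma gs_mk₀ {Y : Scheme.{u}} (F : EtCoh.Ab Y) (φ : EtCoh.const Y ℤ ⟶ F) :
    gs F (Ext.mk₀ φ) = (EtCore.constAdj Y).homEquiv _ _ φ (ULift.up 1) := by
  show AddCommGrpCat.uliftZMultiplesAddEquiv _ ((constantSheafAdj _ AddCommGrpCat.{u + 1}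
    (EtCore.topIsTerminal Y)).homAddEquiv _ F (Ext.addEquiv₀ (Ext.mk₀ φ))) = _
  rw [show Ext.addEquiv₀ (Ext.mk₀ φ) = φ from
    (Ext.addEquiv₀ (X := EtCoh.const Y ℤ) (Y := F)).apply_symm_apply φ]
  rfl

omit [PreservesFiniteLimits (EtCoh.pull u)] in
lemma gs_map {Y : Scheme.{u}} {F G : EtCoh.Ab Y} (f : F ⟶ G) (x : EtCoh.H Y F 0) :
    gs G (x.comp (Ext.mk₀ f) (add_zero 0)) = f.hom.app (op (EtCoh.top Y)) (gs F x) :=
  (Sheaf.H.equiv₀_naturality (hT := EtCore.topIsTerminal Y) f x).symm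

/-- The pullback in degree zero. -/
theorem gs_pullOn {F : EtCoh.Ab Y} {M : EtCoh.Ab X} (ρ : F ⟶ (EtCoh.push u).obj M)
    (x : EtCoh.H Y F 0) :
    gs M (pullOn u ρ 0 x) = M.obj.map (EtCore.bcTopIso u).inv.op
      (ρ.hom.app (op (EtCoh.top Y)) (gs F x)) := by
  obtain ⟨φ, rfl⟩ := (Ext.mk₀_bijective _ _).2 x
  rw [pullOn_apply, Ext.mapExactFunctor_mk₀, Ext.mk₀_comp_mk₀, Ext.mk₀_comp_mk₀, gs_mk₀, gs_mk₀]
  rw [Category.assoc]
  refine (ConcreteCategory.congr_hom (homEquiv_pullConstIso_inv u _ _) _).trans ?_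
  rw [pcAdj_homEquiv, Adjunction.homEquiv_naturality_left, Equiv.apply_symm_apply,
    Adjunction.homEquiv_naturality_right]
  rfl

end Groth.EtaleBase.EtLimit
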