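import Groth.Agent.EtaleBase.Limit.Acyclic
import Groth.Agent.EtaleBase.Limit.PullOn

/-!
Cohomology of the limit of an inverse system of schemes is the colimit of the cohomologies, for
systems of sheaves.
-/

set_option autoImplicit false

universe u

open CategoryTheory CategoryTheory.Limits CategoryTheory.Abelian AlgebraicGeometry Opposite

namespace Groth.EtaleBase.EtLimit

variable {ι : Type u} [Preorder ι] {Xs : ιᵒᵖ ⥤ Scheme.{u}}

/-- Objects over the whole of a stage receive at most one morphism from any object. -/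
lemma hom_top_ext {d : Obj Xs} {j : ι} (f g : d ⟶ (incl Xs j).obj (EtCoh.top (Xs.obj (op j)))) :
    f = g :=
  Obj.hom_ext ((Category.comp_id f.1).symm.trans (((Obj.w f (Obj.idx_le f)).trans
    (Obj.w g (Obj.idx_le f)).symm).trans (Category.comp_id g.1)))

/-- The whole of a later stage maps to the whole of an earlier stage. -/
noncomputable def topMap {j k : ι} (h : j ≤ k) :
    (incl Xs k).obj (EtCoh.top (Xs.obj (op k))) ⟶ (incl Xs j).obj (EtCoh.top (Xs.obj (op j))) :=
  (incl Xs k).map (EtCore.bcTopIso (trn Xs h)).inv ≫ st h _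

/-- The transition morphisms of a system of sheaves. -/
noncomputable def transHom (M : AbSys Xs) {j k : ι} (h : j ≤ k) :
    (res Xs j).obj M ⟶ (EtCoh.push (trn Xs h)).obj ((res Xs k).obj M) :=
  ObjectProperty.homMk
    { app := fun Z => M.obj.map (st h Z.unop).op
      naturality := fun Z Z' f => by
        ext y
        refine (resM M _ _ y).trans (Eq.trans ?_ (resM M _ _ y).symm)
        exact congrArg (fun m => M.obj.map (Quiver.Hom.op m) y) (st_natural h f.unop).symm }

lemma transHom_app (M : AbSys Xs) {j k : ι} (h : j ≤ k) (Z : (Xs.obj (op j)).Etale)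
    (y : M.obj.obj (op ((incl Xs j).obj Z))) :
    (transHom M h).hom.app (op Z) y = M.obj.map (st h Z).op y :=
  rfl

lemma transHom_natural {M N : AbSys Xs} (f : M ⟶ N) {j k : ι} (h : j ≤ k) :
    (res Xs j).map f ≫ transHom N h =
      transHom M h ≫ (EtCoh.push (trn Xs h)).map ((res Xs k).map f) := by
  apply (sheafToPresheaf _ _).map_injective
  ext Z y
  exact (NatTrans.naturality_apply f.hom (st h Z.unop).op y).symm

section Transition

variable [∀ ⦃a b : ιᵒᵖ⦄ (h : a ⟶ b), PreservesFiniteLimits (EtCoh.pull (Xs.map h))]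

/-- The transition map on cohomology. -/
noncomputable def R {j k : ι} (h : j ≤ k) (M : AbSys Xs) (n : ℕ) :
    EtCoh.H (Xs.obj (op j)) ((res Xs j).obj M) n →+ EtCoh.H (Xs.obj (op k)) ((res Xs k).obj M) n :=
  pullOn (trn Xs h) (transHom M h) n

lemma R_map {j k : ι} (h : j ≤ k) {M N : AbSys Xs} (f : M ⟶ N) (n : ℕ)
    (x : EtCoh.H (Xs.obj (op j)) ((res Xs j).obj M) n) :
    R h N n (x.comp (Ext.mk₀ ((res Xs j).map f)) (add_zero n)) =
      (R h M n x).comp (Ext.mk₀ ((res Xs k).map f)) (add_zero n) :=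
  pullOn_map _ _ _ _ _ (transHom_natural f h) n x

lemma R_extClass {j k : ι} (h : j ≤ k) {S : ShortComplex (AbSys Xs)} (hS : S.ShortExact) (n : ℕ)
    (a : EtCoh.H (Xs.obj (op j)) ((res Xs j).obj S.X₃) n) :
    R h S.X₁ (n + 1) (a.comp (hS.map_of_exact (res Xs j)).extClass rfl) =
      (R h S.X₃ n a).comp (hS.map_of_exact (res Xs k)).extClass rfl :=
  pullOn_extClass _ _ _
    (ShortComplex.Hom.mk (S₁ := S.map (res Xs j))
      (S₂ := (S.map (res Xs k)).map (EtCoh.push (trn Xs h)))
      (transHom S.X₁ h) (transHom S.X₂ h) (transHom S.X₃ h)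
      (transHom_natural S.f h).symm (transHom_natural S.g h).symm) n a

lemma gs_R {j k : ι} (h : j ≤ k) (M : AbSys Xs)
    (x : EtCoh.H (Xs.obj (op j)) ((res Xs j).obj M) 0) :
    gs _ (R h M 0 x) = M.obj.map (topMap h).op (gs _ x) :=
  (gs_pullOn _ _ _).trans (resM M _ _ _)

/-- Classes of positive degree on a stage are coboundaries. -/
lemma exists_stage_class (M : AbSys Xs) (j : ι) (n : ℕ)
    (x : EtCoh.H (Xs.obj (op j)) ((res Xs j).obj M) (n + 1)) :
    ∃ a : EtCoh.H (Xs.obj (op j)) ((res Xs j).obj (Groth.CohFin.injSeq M).X₃) n,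
      a.comp ((Groth.CohFin.injSeq_shortExact M).map_of_exact (res Xs j)).extClass rfl = x := by
  haveI : Injective (Groth.CohFin.injSeq M).X₂ := inferInstanceAs (Injective (Injective.under M))
  haveI : Injective ((Groth.CohFin.injSeq M).map (res Xs j)).X₂ :=
    (res Xs j).injective_obj (Groth.CohFin.injSeq M).X₂
  exact Ext.covariant_sequence_exact₁ _
    ((Groth.CohFin.injSeq_shortExact M).map_of_exact (res Xs j)) x
    (@Subsingleton.elim _ (Ext.subsingleton_of_injective _ _ n) _ _) (n₀ := n) rfl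

theorem R_trans (n : ℕ) : ∀ (M : AbSys Xs) {j k l : ι} (h : j ≤ k) (h' : k ≤ l)
    (x : EtCoh.H (Xs.obj (op j)) ((res Xs j).obj M) n),
    R h' M n (R h M n x) = R (h.trans h') M n x := by
  induction n with
  | zero =>
    intro M j k l h h' x
    apply (gs _).injective
    rw [gs_R, gs_R, gs_R]
    exact (resM M _ _ _).trans
      (congrArg (fun m => M.obj.map (Quiver.Hom.op m) _) (hom_top_ext _ _))
  | succ n ih =>
    intro M j k l h h' x
    obtain ⟨a, rfl⟩ := exists_stage_class M j n x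
    exact ((congrArg (R h' M (n + 1)) (R_extClass h (Groth.CohFin.injSeq_shortExact M) n a)).trans
      (R_extClass h' (Groth.CohFin.injSeq_shortExact M) n _)).trans
        ((congrArg (fun z => Ext.comp z _ rfl) (ih _ h h' a)).trans
          (R_extClass (h.trans h') (Groth.CohFin.injSeq_shortExact M) n a).symm)

end Transition

variable [Nonempty ι] [IsDirectedOrder ι] (c : Cone Xs)

/-- The comparison morphism from the sheaf of a stage. -/
noncomputable def coneHom (M : AbSys Xs) (j : ι) :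
    (res Xs j).obj M ⟶ (EtCoh.push (proj Xs c j)).obj ((pullSys Xs c).obj M) :=
  (res Xs j).map ((sysAdj Xs c).unit.app M) ≫ (resPushIso Xs c j).hom.app ((pullSys Xs c).obj M)

lemma coneHom_app (M : AbSys Xs) (j : ι) (Z : (Xs.obj (op j)).Etale)
    (y : M.obj.obj (op ((incl Xs j).obj Z))) :
    (coneHom c M j).hom.app (op Z) y = unitApp c M ((incl Xs j).obj Z) y :=
  rfl

lemma coneHom_natural {M N : AbSys Xs} (f : M ⟶ N) (j : ι) :
    (res Xs j).map f ≫ coneHom c N j =
      coneHom c M j ≫ (EtCoh.push (proj Xs c j)).map ((pullSys Xs c).map f) := by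
  have h1 := (resPushIso Xs c j).hom.naturality ((pullSys Xs c).map f)
  have h2 : f ≫ (sysAdj Xs c).unit.app N =
      (sysAdj Xs c).unit.app M ≫ (pushSys Xs c).map ((pullSys Xs c).map f) :=
    (sysAdj Xs c).unit.naturality f
  rw [coneHom, coneHom, Category.assoc, ← h1, Functor.comp_map, ← Category.assoc, ← Category.assoc,
    ← Functor.map_comp, ← Functor.map_comp, h2]

variable [∀ a, PreservesFiniteLimits (EtCoh.pull (c.π.app a))]

/-- The map to the cohomology of the limit. -/
noncomputable def T (j : ι) (M : AbSys Xs) (n : ℕ) :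
    EtCoh.H (Xs.obj (op j)) ((res Xs j).obj M) n →+ EtCoh.H c.pt ((pullSys Xs c).obj M) n :=
  pullOn (proj Xs c j) (coneHom c M j) n

lemma T_map (j : ι) {M N : AbSys Xs} (f : M ⟶ N) (n : ℕ)
    (x : EtCoh.H (Xs.obj (op j)) ((res Xs j).obj M) n) :
    T c j N n (x.comp (Ext.mk₀ ((res Xs j).map f)) (add_zero n)) =
      (T c j M n x).comp (Ext.mk₀ ((pullSys Xs c).map f)) (add_zero n) :=
  pullOn_map _ _ _ _ _ (coneHom_natural c f j) n x

lemma T_extClass (j : ι) {S : ShortComplex (AbSys Xs)} (hS : S.ShortExact) (n : ℕ)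
    (a : EtCoh.H (Xs.obj (op j)) ((res Xs j).obj S.X₃) n) :
    T c j S.X₁ (n + 1) (a.comp (hS.map_of_exact (res Xs j)).extClass rfl) =
      (T c j S.X₃ n a).comp (hS.map_of_exact (pullSys Xs c)).extClass rfl :=
  pullOn_extClass _ _ _
    (ShortComplex.Hom.mk (S₁ := S.map (res Xs j))
      (S₂ := (S.map (pullSys Xs c)).map (EtCoh.push (proj Xs c j)))
      (coneHom c S.X₁ j) (coneHom c S.X₂ j) (coneHom c S.X₃ j)
      (coneHom_natural c S.f j).symm (coneHom_natural c S.g j).symm) n a

lemma gs_T (j : ι) (M : AbSys Xs) (x : EtCoh.H (Xs.obj (op j)) ((res Xs j).obj M) 0) :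
    gs _ (T c j M 0 x) = ((pullSys Xs c).obj M).obj.map (EtCore.bcTopIso (proj Xs c j)).inv.op
      (unitApp c M ((incl Xs j).obj (EtCoh.top (Xs.obj (op j)))) (gs _ x)) :=
  gs_pullOn _ _ _

variable [∀ ⦃a b : ιᵒᵖ⦄ (h : a ⟶ b), PreservesFiniteLimits (EtCoh.pull (Xs.map h))]

theorem T_R (n : ℕ) : ∀ (M : AbSys Xs) {j k : ι} (h : j ≤ k)
    (x : EtCoh.H (Xs.obj (op j)) ((res Xs j).obj M) n),
    T c k M n (R h M n x) = T c j M n x := by
  induction n with
  | zero =>
    intro M j k h x
    apply (gs _).injective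
    rw [gs_T, gs_T, gs_R, unitApp_naturality]
    refine (mapMap _ _ _ _).trans ?_
    exact congrArg (fun m => ((pullSys Xs c).obj M).obj.map (Quiver.Hom.op m) _)
      ((EtCore.bcTopIsTerminal (proj Xs c j)).hom_ext _ _)
  | succ n ih =>
    intro M j k h x
    obtain ⟨a, rfl⟩ := exists_stage_class M j n x
    exact ((congrArg (T c k M (n + 1)) (R_extClass h (Groth.CohFin.injSeq_shortExact M) n a)).trans
      (T_extClass c k (Groth.CohFin.injSeq_shortExact M) n _)).trans
        ((congrArg (fun z => Ext.comp z _ rfl) (ih _ h a)).trans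
          (T_extClass c j (Groth.CohFin.injSeq_shortExact M) n a).symm)

section Limit

variable [∀ (p q : ιᵒᵖ) (h : p ⟶ q), IsAffineHom (Xs.map h)]
  [∀ p, CompactSpace ↥(Xs.obj p)] [∀ p, QuasiSeparatedSpace ↥(Xs.obj p)]
  {c} (hc : IsLimit c)

include hc in
theorem exists_T_eq_zero (M : AbSys Xs) (s : EtCoh.H c.pt ((pullSys Xs c).obj M) 0) :
    ∃ (j : ι) (x : EtCoh.H (Xs.obj (op j)) ((res Xs j).obj M) 0), T c j M 0 x = s := by
  obtain ⟨j⟩ := ‹Nonempty ι›
  obtain ⟨L, h, y, hy⟩ := exists_lift M hc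
    (a := (incl Xs j).obj (EtCoh.top (Xs.obj (op j))))
    ⟨(inferInstance : CompactSpace ↥(Xs.obj (op j))),
      (inferInstance : QuasiSeparatedSpace ↥(Xs.obj (op j)))⟩
    (((pullSys Xs c).obj M).obj.map (EtCore.bcTopIso (proj Xs c j)).hom.op (gs _ s))
  refine ⟨L, (gs _).symm (M.obj.map ((incl Xs L).map (EtCore.bcTopIso (trn Xs h)).inv).op y),
    (gs _).injective ?_⟩
  rw [gs_T, AddEquiv.apply_symm_apply, unitApp_naturality]
  refine (mapMap _ _ _ _).trans ((congrArg _ hy).trans ((mapMap _ _ _ _).trans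
    ((mapMap _ _ _ _).trans ?_)))
  exact (congrArg (fun m => ((pullSys Xs c).obj M).obj.map (Quiver.Hom.op m) (gs _ s))
    ((EtCore.topIsTerminal c.pt).hom_ext _ (𝟙 _))).trans (map_one_apply _ _)

include hc in
theorem exists_R_eq_zero_zero (M : AbSys Xs) (j : ι)
    (x : EtCoh.H (Xs.obj (op j)) ((res Xs j).obj M) 0) (hx : T c j M 0 x = 0) :
    ∃ (k : ι) (h : j ≤ k), R h M 0 x = 0 := by
  have h0 := congrArg (((pullSys Xs c).obj M).obj.map (EtCore.bcTopIso (proj Xs c j)).hom.op)
    ((gs_T c j M x).symm.trans ((congrArg (gs _) hx).trans (map_zero _)))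
  rw [map_zero] at h0
  have hu : unitApp c M ((incl Xs j).obj (EtCoh.top (Xs.obj (op j)))) (gs _ x) = 0 := by
    refine Eq.trans ?_ h0
    refine Eq.symm ((mapMap _ _ _ _).trans ?_)
    exact (congrArg (fun m => ((pullSys Xs c).obj M).obj.map (Quiver.Hom.op m) _)
      (EtCore.bcTopIso (proj Xs c j)).hom_inv_id).trans (map_one_apply _ _)
  obtain ⟨k, h, hk⟩ := exists_zero M hc (a := (incl Xs j).obj (EtCoh.top (Xs.obj (op j))))
    ⟨(inferInstance : CompactSpace ↥(Xs.obj (op j))),
      (inferInstance : QuasiSeparatedSpace ↥(Xs.obj (op j)))⟩ _ hu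
  refine ⟨k, h, (gs _).injective ?_⟩
  rw [gs_R, map_zero]
  exact (resM M _ _ _).symm.trans ((congrArg _ hk).trans (map_zero _))

include hc in
/-- Cohomology on the limit is the colimit of the cohomologies on the stages. -/
theorem colimit_cohomology (n : ℕ) : ∀ M : AbSys Xs,
    (∀ s : EtCoh.H c.pt ((pullSys Xs c).obj M) n,
      ∃ (j : ι) (x : EtCoh.H (Xs.obj (op j)) ((res Xs j).obj M) n), T c j M n x = s) ∧
    (∀ (j : ι) (x : EtCoh.H (Xs.obj (op j)) ((res Xs j).obj M) n), T c j M n x = 0 →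
      ∃ (k : ι) (h : j ≤ k), R h M n x = 0) := by
  induction n with
  | zero => exact fun M => ⟨exists_T_eq_zero hc M, exists_R_eq_zero_zero hc M⟩
  | succ n ih =>
    intro M
    have hS := Groth.CohFin.injSeq_shortExact M
    haveI : Injective (Groth.CohFin.injSeq M).X₂ := inferInstanceAs (Injective (Injective.under M))
    have hP := hS.map_of_exact (pullSys Xs c)
    have hz : Subsingleton (EtCoh.H c.pt ((pullSys Xs c).obj (Groth.CohFin.injSeq M).X₂) (n + 1)) :=
      H_of_acyc hc n _ (acyc_pullSys hc _)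
    refine ⟨fun s => ?_, fun j x hx => ?_⟩
    · obtain ⟨a, rfl⟩ := Ext.covariant_sequence_exact₁ _ hP s (@Subsingleton.elim _ hz _ _)
        (n₀ := n) rfl
      obtain ⟨j, a', rfl⟩ := (ih _).1 a
      exact ⟨j, _, T_extClass c j hS n a'⟩
    · obtain ⟨a, rfl⟩ := exists_stage_class M j n x
      have hx' := (T_extClass c j hS n a).symm.trans hx
      obtain ⟨b, hb⟩ := Ext.covariant_sequence_exact₃ _ hP _ rfl hx'
      obtain ⟨l, b', rfl⟩ := (ih (Groth.CohFin.injSeq M).X₂).1 b
      obtain ⟨k, hjk, hlk⟩ := exists_ge_ge j l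
      let g := (Groth.CohFin.injSeq M).g
      let d := R hjk _ n a - R hlk _ n (b'.comp (Ext.mk₀ ((res Xs l).map g)) (add_zero n))
      have hd : T c k _ n d = 0 :=
        (map_sub _ _ _).trans (sub_eq_zero.2 ((T_R c n _ hjk a).trans
          ((hb.symm.trans (T_map c l g n b').symm).trans (T_R c n _ hlk _).symm)))
      obtain ⟨k', hk', h0⟩ := (ih _).2 k d hd
      rw [map_sub, R_trans, R_trans, sub_eq_zero, R_map] at h0
      refine ⟨k', hjk.trans hk', (R_extClass _ hS n a).trans ?_⟩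
      refine (congrArg (fun z => Ext.comp z _ rfl) h0).trans ?_
      refine (Ext.comp_assoc (a₁₂ := n) _ _ _ (add_zero n) (zero_add 1) (by omega)).trans ?_
      exact (congrArg (fun z => Ext.comp _ z rfl) (hS.map_of_exact (res Xs k')).comp_extClass).trans
        (Ext.comp_zero _ _ _ _ _)

end Limit

end Groth.EtaleBase.EtLimit
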