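import Groth.Agent.EtaleBase.Limit.StalkMor
import Groth.Agent.EtaleBase.Limit.StalkPush

/-!
Restriction of a system of sheaves to the base changes of an étale scheme over the bases, and the
cohomology of its limit.
-/

set_option autoImplicit false



universe u

open CategoryTheory CategoryTheory.Limits CategoryTheory.Abelian AlgebraicGeometry Opposite

namespace Groth.EtaleBase.EtLimit

attribute [local instance] pull_preservesFiniteLimits

lemma app_congr_iso {C D : Type*} [Category C] [Category D] {P R : C ⥤ D} {e e' : P ≅ R} (he : e = e')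
    (X : C) : e.hom.app X = e'.hom.app X := he ▸ rfl

lemma app_trans_iso {C D : Type*} [Category C] [Category D] {P Q R : C ⥤ D} (e₁ : P ≅ Q) (e₂ : Q ≅ R)
    (X : C) : (e₁ ≪≫ e₂).hom.app X = e₁.hom.app X ≫ e₂.hom.app X := rfl

lemma comp_of_eq {C : Type*} [Category C] {a b c d : C} (x : a ⟶ b) (y : b ⟶ c) (z : c ⟶ d) {w : a ⟶ c}
    (e : w = x ≫ y) : w ≫ z = x ≫ y ≫ z := e ▸ Category.assoc _ _ _

section

variable {ι : Type u} [Preorder ι] {Xs : ιᵒᵖ ⥤ Scheme.{u}}

lemma pullTrans_def {i j k : ι} (h : i ≤ j) (h' : j ≤ k) (p : Xs.map (homOfLE (h.trans h')).op =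
      Xs.map (homOfLE h').op ≫ Xs.map (homOfLE h).op) : EtLim.pullTrans Xs h h' = EtCore.pullCongr p ≪≫
      EtCore.pullComp (Xs.map (homOfLE h').op) (Xs.map (homOfLE h).op) := rfl

lemma pullTrans_app {i j k : ι} (h : i ≤ j) (h' : j ≤ k) (p : Xs.map (homOfLE (h.trans h')).op =
      Xs.map (homOfLE h').op ≫ Xs.map (homOfLE h).op) (G : EtCoh.Ab (Xs.obj (op i))) :
    (EtLim.pullTrans Xs h h').hom.app G = (EtCore.pullCongr p).hom.app G ≫
      (EtCore.pullComp (Xs.map (homOfLE h').op) (Xs.map (homOfLE h).op)).hom.app G :=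
  (app_congr_iso (pullTrans_def h h' p) G).trans (app_trans_iso _ _ G)

lemma pullTransCone_def (c : Cone Xs) {i j : ι} (h : i ≤ j)
    (p : @Eq (c.pt ⟶ Xs.obj (op i)) (c.π.app (op i))
      (@CategoryStruct.comp Scheme.{u} _ c.pt _ _ (c.π.app (op j)) (Xs.map (homOfLE h).op))) : EtLim.pullTransCone Xs c h =
      EtCore.pullCongr p ≪≫ EtCore.pullComp (c.π.app (op j)) (Xs.map (homOfLE h).op) := rfl

lemma pullTransCone_app (c : Cone Xs) {i j : ι} (h : i ≤ j)
    (p : @Eq (c.pt ⟶ Xs.obj (op i)) (c.π.app (op i))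
      (@CategoryStruct.comp Scheme.{u} _ c.pt _ _ (c.π.app (op j)) (Xs.map (homOfLE h).op))) (G : EtCoh.Ab (Xs.obj (op i))) :
    (EtLim.pullTransCone Xs c h).hom.app G = (EtCore.pullCongr p).hom.app G ≫
      (EtCore.pullComp (c.π.app (op j)) (Xs.map (homOfLE h).op)).hom.app G :=
  (app_congr_iso (pullTransCone_def c h p) G).trans (app_trans_iso _ _ G)

end

namespace CHom

variable {A B C : Scheme.{u}} {GA : EtCoh.Ab A} {GB : EtCoh.Ab B} {GC : EtCoh.Ab C}

/-- Postcomposition. -/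
noncomputable def post (f : CHom GB GA) {G' : EtCoh.Ab A} (β : GA ⟶ G') : CHom GB G' := ⟨f.m, f.α ≫ β⟩

lemma comp_post (f : CHom GC GB) (f' : CHom GB GA) {G' : EtCoh.Ab A} (β : GA ⟶ G') :
    (f.comp f').post β = f.comp (f'.post β) := by
  refine congrArg (CHom.mk (f'.m ≫ f.m)) ?_
  exact ((Category.assoc _ _ _).trans (congrArg (_ ≫ ·) (Category.assoc _ _ _)))

lemma post_comp_cart (f : CHom GC GB) {G' : EtCoh.Ab B} (β : GB ⟶ G') (u : A ⟶ B) :
    (f.post β).comp (cart u G') = (f.comp (cart u GB)).post ((EtCoh.pull u).map β) := by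
  refine congrArg (CHom.mk (u ≫ f.m)) ?_
  refine Eq.trans ?_ (Category.assoc _ _ _).symm
  refine congrArg ((EtCore.pullComp u f.m).hom.app GC ≫ ·) ?_
  show (EtCoh.pull u).map (f.α ≫ β) ≫ 𝟙 _ = ((EtCoh.pull u).map f.α ≫ 𝟙 _) ≫ (EtCoh.pull u).map β
  rw [Category.comp_id, Category.comp_id, Functor.map_comp]

lemma cart_comp_lift (f : CHom GC GB) {B' C' : Scheme.{u}} (u' : B' ⟶ B) (u : C' ⟶ C) (k : B' ⟶ C')
    (h : k ≫ u = u' ≫ f.m) :
    (cart u GC).comp ((f.comp (cart u' GB)).factor u k h) = f.comp (cart u' GB) :=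
  cart_comp_factor _ u k h

lemma lift_comp (f : CHom GC GB) (f' : CHom GB GA) {A' B' C' : Scheme.{u}} (u₃ : A' ⟶ A) (u₂ : B' ⟶ B)
    (u₁ : C' ⟶ C) (k : B' ⟶ C') (h : k ≫ u₁ = u₂ ≫ f.m) (k' : A' ⟶ B') (h' : k' ≫ u₂ = u₃ ≫ f'.m)
    (k'' : A' ⟶ C') (hk : k' ≫ k = k'') (h'' : k'' ≫ u₁ = ((f.comp f').comp (cart u₃ GA)).m) :
    ((f.comp (cart u₂ GB)).factor u₁ k h).comp ((f'.comp (cart u₃ GA)).factor u₂ k' h') =
      ((f.comp f').comp (cart u₃ GA)).factor u₁ k'' h'' := by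
  refine cart_cancel hk ?_
  rw [← assoc, cart_comp_lift, assoc, cart_comp_lift, cart_comp_factor, assoc]

lemma factor_post (f : CHom GC GA) (u : B ⟶ C) (k : A ⟶ B) (h : k ≫ u = f.m) {G' : EtCoh.Ab A}
    (β : GA ⟶ G') : (f.factor u k h).post β = (f.post β).factor u k h :=
  congrArg (CHom.mk k) (Category.assoc _ _ _)

lemma lift_post (f : CHom GC GB) {G' : EtCoh.Ab B} (β : GB ⟶ G') {B' C' : Scheme.{u}} (u' : B' ⟶ B)
    (u : C' ⟶ C) (k : B' ⟶ C') (h : k ≫ u = u' ≫ f.m) (h' : k ≫ u = ((f.post β).comp (cart u' G')).m) :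
    ((f.comp (cart u' GB)).factor u k h).post ((EtCoh.pull u').map β) =
      ((f.post β).comp (cart u' G')).factor u k h' := by
  refine (factor_post _ _ _ _ _).trans (cart_cancel rfl ?_)
  rw [cart_comp_factor, cart_comp_factor, post_comp_cart]

lemma factor_congr {f f' : CHom GC GA} (e : f = f') (u : B ⟶ C) (k : A ⟶ B) (h : k ≫ u = f.m)
    (h' : k ≫ u = f'.m) : f.factor u k h = f'.factor u k h' := by subst e; rfl

lemma ext_mk {m m' : A ⟶ B} (h : m = m') {α : (EtCoh.pull m).obj GB ⟶ GA} {α' : (EtCoh.pull m').obj GB ⟶ GA}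
    (hα : α = (EtCore.pullCongr h).hom.app GB ≫ α') : CHom.mk m α = CHom.mk m' α' := by
  subst h
  exact congrArg (CHom.mk m) (hα.trans (Category.id_comp α'))

lemma α_mk {m m' : A ⟶ B} (h : m = m') {α : (EtCoh.pull m).obj GB ⟶ GA} {α' : (EtCoh.pull m').obj GB ⟶ GA}
    (e : CHom.mk m α = CHom.mk m' α') : α = (EtCore.pullCongr h).hom.app GB ≫ α' := by
  subst h
  exact (eq_of_heq (CHom.mk.inj e).2).trans (Category.id_comp α').symm

lemma comp_mk {a : A ⟶ B} {b : B ⟶ C} {m : A ⟶ C} (p : m = a ≫ b) (α : (EtCoh.pull b).obj GC ⟶ GB)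
    (β : (EtCoh.pull a).obj GB ⟶ GA) (x : (EtCoh.pull m).obj GC ⟶ GA)
    (hx : x = (EtCore.pullCongr p).hom.app GC ≫ (EtCore.pullComp a b).hom.app GC ≫
      (EtCoh.pull a).map α ≫ β) :
    (CHom.mk b α).comp (CHom.mk a β) = CHom.mk m x :=
  (ext_mk p hx).symm

lemma α_comp_mk {a : A ⟶ B} {b : B ⟶ C} {m : A ⟶ C} (p : m = a ≫ b) {α : (EtCoh.pull b).obj GC ⟶ GB}
    {β : (EtCoh.pull a).obj GB ⟶ GA} {x : (EtCoh.pull m).obj GC ⟶ GA}
    (e : (CHom.mk b α).comp (CHom.mk a β) = CHom.mk m x) :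
    x = (EtCore.pullCongr p).hom.app GC ≫ (EtCore.pullComp a b).hom.app GC ≫ (EtCoh.pull a).map α ≫ β :=
  α_mk p e.symm

lemma α_eq {f f' : CHom GB GA} (e : f = f') :
    f.α = (EtCore.pullCongr (congrArg CHom.m e)).hom.app GB ≫ f'.α := by
  subst e
  exact (Category.id_comp _).symm

lemma H_post (f : CHom GB GA) {G' : EtCoh.Ab A} (β : GA ⟶ G') (q : ℕ) (x : EtCoh.H B GB q) :
    (f.post β).H q x = (f.H q x).comp (Ext.mk₀ β) (add_zero q) := by
  show (EtCore.Hpull f.m GB q x).comp (Ext.mk₀ (f.α ≫ β)) (add_zero q) =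
    ((EtCore.Hpull f.m GB q x).comp (Ext.mk₀ f.α) (add_zero q)).comp (Ext.mk₀ β) (add_zero q)
  rw [Ext.comp_assoc_of_third_deg_zero, Ext.mk₀_comp_mk₀]

end CHom

section

variable {ι : Type u} [Preorder ι] {Xs : ιᵒᵖ ⥤ Scheme.{u}} (F : ∀ i : ι, EtCoh.Ab (Xs.obj (op i)))
  (φ : ∀ ⦃i j : ι⦄ (h : i ≤ j), (EtCoh.pull (Xs.map (homOfLE h).op)).obj (F i) ⟶ F j)
  (hφ : ∀ ⦃i j k : ι⦄ (hij : i ≤ j) (hjk : j ≤ k),
    φ (hij.trans hjk) = (EtLim.pullTrans Xs hij hjk).hom.app (F i) ≫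
      (EtCoh.pull (Xs.map (homOfLE hjk).op)).map (φ hij) ≫ φ hjk)

/-- The transition morphism. -/
def transC {i j : ι} (h : i ≤ j) : CHom (F i) (F j) := ⟨Xs.map (homOfLE h).op, φ h⟩

include hφ in
lemma transC_comp {i j k : ι} (h : i ≤ j) (h' : j ≤ k) :
    (transC F φ h).comp (transC F φ h') = transC F φ (h.trans h') := by
  have p : Xs.map (homOfLE (h.trans h')).op = Xs.map (homOfLE h').op ≫ Xs.map (homOfLE h).op :=
    (trn_trn Xs h h').symm
  exact CHom.comp_mk p (φ h) (φ h') (φ (h.trans h'))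
    ((hφ h h').trans (comp_of_eq _ _ _ (pullTrans_app h h' p (F i))))

lemma phi_comp_of (hc : ∀ ⦃i j k : ι⦄ (h : i ≤ j) (h' : j ≤ k),
    (transC F φ h).comp (transC F φ h') = transC F φ (h.trans h')) ⦃i j k : ι⦄ (h : i ≤ j) (h' : j ≤ k) :
    φ (h.trans h') = (EtLim.pullTrans Xs h h').hom.app (F i) ≫
      (EtCoh.pull (Xs.map (homOfLE h').op)).map (φ h) ≫ φ h' :=
  have p : Xs.map (homOfLE (h.trans h')).op = Xs.map (homOfLE h').op ≫ Xs.map (homOfLE h).op :=
    (trn_trn Xs h h').symm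
  (CHom.α_comp_mk p (hc h h')).trans (comp_of_eq _ _ _ (pullTrans_app h h' p (F i))).symm

variable (c : Cone Xs) (G : ι ⥤ EtCoh.Ab c.pt)
  (ψ : ∀ i : ι, (EtCoh.pull (c.π.app (op i))).obj (F i) ≅ G.obj i)
  (hψ : ∀ ⦃i j : ι⦄ (hij : i ≤ j), (ψ i).hom ≫ G.map (homOfLE hij) =
    (EtLim.pullTransCone Xs c hij).hom.app (F i) ≫ (EtCoh.pull (c.π.app (op j))).map (φ hij) ≫ (ψ j).hom)

/-- The morphism to a member of the diagram on the limit. -/
def stageC (i : ι) : CHom (F i) (G.obj i) := ⟨c.π.app (op i), (ψ i).hom⟩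

/-- The morphism to the colimit. -/
noncomputable def limC (i : ι) : CHom (F i) (colimit G) := (stageC F c G ψ i).post (colimit.ι G i)

include hψ in
lemma stageC_comp {i j : ι} (h : i ≤ j) :
    (transC F φ h).comp (stageC F c G ψ j) = (stageC F c G ψ i).post (G.map (homOfLE h)) := by
  have p : @Eq (c.pt ⟶ Xs.obj (op i)) (c.π.app (op i))
      (@CategoryStruct.comp Scheme.{u} _ c.pt _ _ (c.π.app (op j)) (Xs.map (homOfLE h).op)) := (proj_trn Xs c h).symm
  exact CHom.comp_mk p (φ h) (ψ j).hom ((ψ i).hom ≫ G.map (homOfLE h))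
    ((hψ h).trans (comp_of_eq _ _ _ (pullTransCone_app c h p (F i))))

include hψ in
lemma limC_comp {i j : ι} (h : i ≤ j) :
    (transC F φ h).comp (limC F c G ψ j) = limC F c G ψ i := by
  show (transC F φ h).comp ((stageC F c G ψ j).post _) = _
  rw [← CHom.comp_post, stageC_comp F φ c G ψ hψ h]
  exact congrArg (CHom.mk (proj Xs c i))
    ((Category.assoc _ _ _).trans (congrArg ((ψ i).hom ≫ ·) (colimit.w G (homOfLE h))))

lemma psi_comp_of (hc : ∀ ⦃i j : ι⦄ (h : i ≤ j),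
    (transC F φ h).comp (stageC F c G ψ j) = (stageC F c G ψ i).post (G.map (homOfLE h))) ⦃i j : ι⦄ (h : i ≤ j) :
    (ψ i).hom ≫ G.map (homOfLE h) = (EtLim.pullTransCone Xs c h).hom.app (F i) ≫
      (EtCoh.pull (c.π.app (op j))).map (φ h) ≫ (ψ j).hom :=
  have p : @Eq (c.pt ⟶ Xs.obj (op i)) (c.π.app (op i))
      (@CategoryStruct.comp Scheme.{u} _ c.pt _ _ (c.π.app (op j)) (Xs.map (homOfLE h).op)) := (proj_trn Xs c h).symm
  (CHom.α_comp_mk (x := (ψ i).hom ≫ G.map (homOfLE h)) p (hc h)).trans (comp_of_eq _ _ _ (pullTransCone_app c h p (F i))).symm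

end

section Slice

variable {ι : Type u} [Preorder ι] {Ts Ss : ιᵒᵖ ⥤ Scheme.{u}} (gN : Ts ⟶ Ss) (i₀ : ι)
  (V : (Ss.obj (op i₀)).Etale)

/-- The indices after a given one. -/
abbrev After : Type u := {j : ι // i₀ ≤ j}

/-- The étale scheme over a later base. -/
noncomputable abbrev laterV (j : After i₀) : (Ss.obj (op j.1)).Etale := (EtCoh.bc (trn Ss j.2)).obj V

/-- Its base change. -/
noncomputable abbrev laterU (j : After i₀) : (Ts.obj (op j.1)).Etale :=
  (EtCoh.bc (gN.app (op j.1))).obj (laterV i₀ V j)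

/-- The projection to the original étale scheme. -/
noncomputable abbrev laterFst (j : After i₀) : (laterU gN i₀ V j).left ⟶ V.left :=
  pullback.fst (laterV i₀ V j).hom (gN.app (op j.1)) ≫ pullback.fst V.hom (trn Ss j.2)

lemma isPullback_later (j : After i₀) :
    IsPullback (laterFst gN i₀ V j) (laterU gN i₀ V j).hom V.hom (gN.app (op j.1) ≫ trn Ss j.2) :=
  (IsPullback.of_hasPullback (laterV i₀ V j).hom (gN.app (op j.1))).paste_horiz
    (IsPullback.of_hasPullback V.hom (trn Ss j.2)) |> fun h => h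

lemma trn_gN {j k : ι} (h : j ≤ k) : trn Ts h ≫ gN.app (op j) = gN.app (op k) ≫ trn Ss h :=
  gN.naturality (homOfLE h).op

lemma later_w {j k : After i₀} (h : j ≤ k) :
    laterFst gN i₀ V k ≫ V.hom =
      ((laterU gN i₀ V k).hom ≫ trn Ts (h : j.1 ≤ k.1)) ≫ gN.app (op j.1) ≫ trn Ss j.2 := by
  refine (isPullback_later gN i₀ V k).w.trans ?_
  refine Eq.trans ?_ (Category.assoc _ _ _).symm
  refine congrArg ((laterU gN i₀ V k).hom ≫ ·) ?_
  rw [← Category.assoc, trn_gN, Category.assoc, trn_trn]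

/-- The transition morphisms. -/
noncomputable def laterMap {j k : After i₀} (h : j ≤ k) :
    (laterU gN i₀ V k).left ⟶ (laterU gN i₀ V j).left :=
  (isPullback_later gN i₀ V j).lift (laterFst gN i₀ V k) ((laterU gN i₀ V k).hom ≫ trn Ts (h : j.1 ≤ k.1))
    (later_w gN i₀ V h)

lemma laterMap_fst {j k : After i₀} (h : j ≤ k) :
    laterMap gN i₀ V h ≫ laterFst gN i₀ V j = laterFst gN i₀ V k :=
  IsPullback.lift_fst _ _ _ _

lemma laterMap_snd {j k : After i₀} (h : j ≤ k) :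
    laterMap gN i₀ V h ≫ (laterU gN i₀ V j).hom = (laterU gN i₀ V k).hom ≫ trn Ts (h : j.1 ≤ k.1) :=
  IsPullback.lift_snd _ _ _ _

/-- The system of base changes. -/
noncomputable def laterSys : (After i₀)ᵒᵖ ⥤ Scheme.{u} where
  obj p := (laterU gN i₀ V p.unop).left
  map m := laterMap gN i₀ V (leOfHom m.unop)
  map_id p := by
    refine (isPullback_later gN i₀ V p.unop).hom_ext ((laterMap_fst gN i₀ V _).trans (Category.id_comp _).symm)
      ((laterMap_snd gN i₀ V _).trans ?_)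
    exact ((congrArg (_ ≫ ·) (trn_refl Ts p.unop.1 le_rfl)).trans (Category.comp_id _)).trans
      (Category.id_comp _).symm
  map_comp {p p' p''} m m' := by
    refine (isPullback_later gN i₀ V p''.unop).hom_ext ?_ ?_
    · exact (laterMap_fst gN i₀ V _).trans ((Category.assoc _ _ _).trans
        ((congrArg (_ ≫ ·) (laterMap_fst gN i₀ V _)).trans (laterMap_fst gN i₀ V _))).symm
    · refine (laterMap_snd gN i₀ V _).trans ((Category.assoc _ _ _).trans
        ((congrArg (_ ≫ ·) (laterMap_snd gN i₀ V _)).trans ((Category.assoc _ _ _).symm.trans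
          ((congrArg (· ≫ _) (laterMap_snd gN i₀ V _)).trans ((Category.assoc _ _ _).trans
            (congrArg (_ ≫ ·) (trn_trn Ts _ _))))))).symm

lemma isPullback_laterMap {j k : After i₀} (h : j ≤ k) :
    IsPullback (laterMap gN i₀ V h) (laterU gN i₀ V k).hom (laterU gN i₀ V j).hom
      (trn Ts (h : j.1 ≤ k.1)) := by
  refine IsPullback.of_right ?_ (laterMap_snd gN i₀ V h) (isPullback_later gN i₀ V j)
  rw [laterMap_fst, show trn Ts (h : j.1 ≤ k.1) ≫ gN.app (op j.1) ≫ trn Ss j.2 =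
    gN.app (op k.1) ≫ trn Ss k.2 by rw [← Category.assoc, trn_gN, Category.assoc, trn_trn]]
  exact isPullback_later gN i₀ V k

lemma isAffineHom_laterSys [∀ (p q : ιᵒᵖ) (m : p ⟶ q), IsAffineHom (Ts.map m)] (p q : (After i₀)ᵒᵖ)
    (m : p ⟶ q) : IsAffineHom ((laterSys gN i₀ V).map m) :=
  MorphismProperty.of_isPullback (P := @IsAffineHom)
    (isPullback_laterMap gN i₀ V (leOfHom m.unop)).flip
    (inferInstanceAs (IsAffineHom (Ts.map (homOfLE (leOfHom m.unop : q.unop.1 ≤ p.unop.1)).op)))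

lemma isAffine_laterV [∀ (p q : ιᵒᵖ) (m : p ⟶ q), IsAffineHom (Ss.map m)] [IsAffine V.left] (j : After i₀) :
    IsAffine (laterV i₀ V j).left :=
  @isAffine_of_isAffineHom _ _ (pullback.fst V.hom (trn Ss j.2))
    (MorphismProperty.pullback_fst (P := @IsAffineHom) V.hom (trn Ss j.2)
      (inferInstanceAs (IsAffineHom (Ss.map (homOfLE j.2).op)))) ‹_›

variable (cT : Cone Ts) (cS : Cone Ss) (g : cT.pt ⟶ cS.pt)
  (hg : ∀ j, g ≫ proj Ss cS j = proj Ts cT j ≫ gN.app (op j))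

/-- The étale scheme over the limit base. -/
noncomputable abbrev limV : cS.pt.Etale := (EtCoh.bc (proj Ss cS i₀)).obj V

/-- Its base change. -/
noncomputable abbrev limU : cT.pt.Etale := (EtCoh.bc g).obj (limV i₀ V cS)

/-- The projection to the original étale scheme. -/
noncomputable abbrev limFst : (limU i₀ V cT cS g).left ⟶ V.left :=
  pullback.fst (limV i₀ V cS).hom g ≫ pullback.fst V.hom (proj Ss cS i₀)

lemma isPullback_lim :
    IsPullback (limFst i₀ V cT cS g) (limU i₀ V cT cS g).hom V.hom (g ≫ proj Ss cS i₀) :=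
  (IsPullback.of_hasPullback (limV i₀ V cS).hom g).paste_horiz
    (IsPullback.of_hasPullback V.hom (proj Ss cS i₀))

include hg in
lemma proj_gN (j : After i₀) :
    proj Ts cT j.1 ≫ gN.app (op j.1) ≫ trn Ss j.2 = g ≫ proj Ss cS i₀ := by
  rw [← Category.assoc, ← hg, Category.assoc, proj_trn]

/-- The projection of the limit. -/
noncomputable def limProj (j : After i₀) : (limU i₀ V cT cS g).left ⟶ (laterU gN i₀ V j).left :=
  (isPullback_later gN i₀ V j).lift (limFst i₀ V cT cS g) ((limU i₀ V cT cS g).hom ≫ proj Ts cT j.1)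
    ((isPullback_lim i₀ V cT cS g).w.trans
      ((congrArg (_ ≫ ·) (proj_gN gN i₀ cT cS g hg j).symm).trans (Category.assoc _ _ _).symm))

lemma limProj_fst (j : After i₀) :
    limProj gN i₀ V cT cS g hg j ≫ laterFst gN i₀ V j = limFst i₀ V cT cS g :=
  IsPullback.lift_fst _ _ _ _

lemma limProj_snd (j : After i₀) :
    limProj gN i₀ V cT cS g hg j ≫ (laterU gN i₀ V j).hom =
      (limU i₀ V cT cS g).hom ≫ proj Ts cT j.1 :=
  IsPullback.lift_snd _ _ _ _

/-- The cone. -/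
noncomputable def laterCone : Cone (laterSys gN i₀ V) where
  pt := (limU i₀ V cT cS g).left
  π :=
    { app := fun p => limProj gN i₀ V cT cS g hg p.unop
      naturality := fun p q m => by
        refine (Category.id_comp _).trans ((isPullback_later gN i₀ V q.unop).hom_ext ?_ ?_)
        · exact (limProj_fst gN i₀ V cT cS g hg _).trans ((Category.assoc _ _ _).trans
            ((congrArg (_ ≫ ·) (laterMap_fst gN i₀ V _)).trans (limProj_fst gN i₀ V cT cS g hg _))).symm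
        · refine (limProj_snd gN i₀ V cT cS g hg _).trans ((Category.assoc _ _ _).trans
            ((congrArg (_ ≫ ·) (laterMap_snd gN i₀ V _)).trans ((Category.assoc _ _ _).symm.trans
              ((congrArg (· ≫ _) (limProj_snd gN i₀ V cT cS g hg _)).trans ((Category.assoc _ _ _).trans
                (congrArg (_ ≫ ·) (proj_trn Ts cT _))))))).symm }

variable [IsDirectedOrder ι]

include i₀ in
omit [IsDirectedOrder ι] in
lemma nonempty_after : Nonempty (After i₀) := ⟨⟨i₀, le_rfl⟩⟩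

lemma directed_after : IsDirectedOrder (After i₀) :=
  ⟨fun p q => by
    obtain ⟨r, h₁, h₂⟩ := exists_ge_ge p.1 q.1
    exact ⟨⟨r, p.2.trans h₁⟩, h₁, h₂⟩⟩

/-- The cone is a limit cone. -/
noncomputable def isLimitLaterCone (hcT : IsLimit cT) : IsLimit (laterCone gN i₀ V cT cS g hg) := by
  haveI : Nonempty ι := ⟨i₀⟩
  haveI := nonempty_after i₀
  haveI := directed_after i₀
  let up : ι → After i₀ := fun p => ⟨(exists_ge_ge i₀ p).choose, (exists_ge_ge i₀ p).choose_spec.1⟩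
  have hup : ∀ p, p ≤ (up p).1 := fun p => (exists_ge_ge i₀ p).choose_spec.2
  let toT : ∀ (s : Cone (laterSys gN i₀ V)) (k : After i₀) (p : ι), p ≤ k.1 → (s.pt ⟶ Ts.obj (op p)) :=
    fun s k p h => (s.π.app (op k) ≫ (laterU gN i₀ V k).hom) ≫ trn Ts h
  have indep : ∀ (s : Cone (laterSys gN i₀ V)) (k k' : After i₀) (p : ι) (h : p ≤ k.1) (h' : p ≤ k'.1),
      toT s k p h = toT s k' p h' := by
    intro s k k' p h h'
    obtain ⟨l, hl, hl'⟩ := exists_ge_ge k k'
    have key : ∀ (k : After i₀) (h : p ≤ k.1) (hl : k ≤ l), toT s k p h = toT s l p (h.trans hl) := by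
      intro k h hl
      show (s.π.app (op k) ≫ _) ≫ _ = (s.π.app (op l) ≫ _) ≫ _
      rw [← s.w (homOfLE hl).op]
      refine ((congrArg (· ≫ trn Ts h) ((Category.assoc _ _ _).trans
        (congrArg (_ ≫ ·) (laterMap_snd gN i₀ V _)))).trans ?_)
      simp only [Category.assoc]
      exact congrArg (_ ≫ ·) (congrArg (_ ≫ ·) (trn_trn Ts h _))
    exact (key k h hl).trans (key k' h' hl').symm
  let tC : Cone (laterSys gN i₀ V) → Cone Ts := fun s =>
    { pt := s.pt
      π :=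
        { app := fun p => toT s (up p.unop) p.unop (hup _)
          naturality := fun p q m => by
            refine (Category.id_comp _).trans ?_
            have hm : q.unop ≤ p.unop := leOfHom m.unop
            refine Eq.trans ?_ (congrArg (toT s (up p.unop) p.unop (hup _) ≫ ·)
              (congrArg Ts.map (Quiver.Hom.unop_inj (Subsingleton.elim (homOfLE hm).op.unop m.unop))))
            refine (indep s (up q.unop) (up p.unop) q.unop (hup _) (hm.trans (hup _))).trans ?_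
            show (s.π.app (op (up p.unop)) ≫ _) ≫ _ = ((s.π.app (op (up p.unop)) ≫ _) ≫ _) ≫ _
            simp only [Category.assoc]
            exact congrArg (_ ≫ ·) (congrArg (_ ≫ ·) (trn_trn Ts _ _).symm) } }
  let k₀ : After i₀ := ⟨i₀, le_rfl⟩
  have hτ : ∀ (s : Cone (laterSys gN i₀ V)) (j : After i₀),
      hcT.lift (tC s) ≫ proj Ts cT j.1 = s.π.app (op j) ≫ (laterU gN i₀ V j).hom := fun s j => by
    refine (hcT.fac (tC s) (op j.1)).trans ((indep s (up j.1) j j.1 (hup _) le_rfl).trans ?_)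
    exact (congrArg (_ ≫ ·) (trn_refl Ts j.1 le_rfl)).trans (Category.comp_id _)
  have hf : ∀ (s : Cone (laterSys gN i₀ V)) (j : After i₀),
      s.π.app (op j) ≫ laterFst gN i₀ V j = s.π.app (op k₀) ≫ laterFst gN i₀ V k₀ := fun s j => by
    have hj : k₀ ≤ j := j.2
    rw [← s.w (homOfLE hj).op]
    exact (Category.assoc _ _ _).trans (congrArg (_ ≫ ·) (laterMap_fst gN i₀ V _)) |>.symm
  have hw : ∀ s : Cone (laterSys gN i₀ V), (s.π.app (op k₀) ≫ laterFst gN i₀ V k₀) ≫ V.hom =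
      hcT.lift (tC s) ≫ g ≫ proj Ss cS i₀ := fun s => by
    refine (Category.assoc _ _ _).trans ((congrArg (_ ≫ ·) (isPullback_later gN i₀ V k₀).w).trans ?_)
    refine (Category.assoc _ _ _).symm.trans ((congrArg (· ≫ _) (hτ s k₀).symm).trans ?_)
    exact (Category.assoc _ _ _).trans (congrArg (_ ≫ ·) (proj_gN gN i₀ cT cS g hg k₀))
  refine
    { lift := fun s => (isPullback_lim i₀ V cT cS g).lift _ (hcT.lift (tC s)) (hw s)
      fac := fun s p => ?_
      uniq := fun s m hm => ?_ }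
  · obtain ⟨j⟩ := p
    refine (isPullback_later gN i₀ V j).hom_ext ?_ ?_
    · refine (Category.assoc _ _ _).trans ((congrArg (_ ≫ ·) (limProj_fst gN i₀ V cT cS g hg j)).trans ?_)
      exact ((isPullback_lim i₀ V cT cS g).lift_fst _ _ _).trans (hf s j).symm
    · refine (Category.assoc _ _ _).trans ((congrArg (_ ≫ ·) (limProj_snd gN i₀ V cT cS g hg j)).trans ?_)
      exact (Category.assoc _ _ _).symm.trans
        ((congrArg (· ≫ _) ((isPullback_lim i₀ V cT cS g).lift_snd _ _ _)).trans (hτ s j))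
  · refine (isPullback_lim i₀ V cT cS g).hom_ext ?_ ?_
    · refine Eq.trans ?_ ((isPullback_lim i₀ V cT cS g).lift_fst _ _ _).symm
      refine Eq.trans ?_ (congrArg (· ≫ laterFst gN i₀ V k₀) (hm (op k₀)))
      exact ((Category.assoc _ _ _).trans (congrArg (m ≫ ·) (limProj_fst gN i₀ V cT cS g hg k₀))).symm
    · refine Eq.trans ?_ ((isPullback_lim i₀ V cT cS g).lift_snd _ _ _).symm
      refine hcT.hom_ext fun p => ?_
      refine Eq.trans ?_ (hcT.fac (tC s) p).symm
      show (m ≫ (limU i₀ V cT cS g).hom) ≫ proj Ts cT p.unop =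
        (s.π.app (op (up p.unop)) ≫ (laterU gN i₀ V (up p.unop)).hom) ≫ trn Ts (hup p.unop)
      rw [← hm (op (up p.unop)), ← proj_trn Ts cT (hup p.unop)]
      simp only [Category.assoc]
      refine congrArg (m ≫ ·) ?_
      exact (Category.assoc _ _ _).symm.trans ((congrArg (· ≫ trn Ts (hup p.unop))
        (limProj_snd gN i₀ V cT cS g hg (up p.unop)).symm).trans (Category.assoc _ _ _))

section System

variable (F : ∀ i : ι, EtCoh.Ab (Ts.obj (op i)))
  (φ : ∀ ⦃i j : ι⦄ (h : i ≤ j), (EtCoh.pull (Ts.map (homOfLE h).op)).obj (F i) ⟶ F j)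
  (hφ : ∀ ⦃i j k : ι⦄ (hij : i ≤ j) (hjk : j ≤ k),
    φ (hij.trans hjk) = (EtLim.pullTrans Ts hij hjk).hom.app (F i) ≫
      (EtCoh.pull (Ts.map (homOfLE hjk).op)).map (φ hij) ≫ φ hjk)
  (G : ι ⥤ EtCoh.Ab cT.pt)
  (ψ : ∀ i : ι, (EtCoh.pull (cT.π.app (op i))).obj (F i) ≅ G.obj i)
  (hψ : ∀ ⦃i j : ι⦄ (hij : i ≤ j), (ψ i).hom ≫ G.map (homOfLE hij) =
    (EtLim.pullTransCone Ts cT hij).hom.app (F i) ≫ (EtCoh.pull (cT.π.app (op j))).map (φ hij) ≫ (ψ j).hom)

/-- The restricted sheaves. -/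
noncomputable abbrev laterF (j : After i₀) : EtCoh.Ab ((laterSys gN i₀ V).obj (op j)) :=
  (EtCoh.pull (laterU gN i₀ V j).hom).obj (F j.1)

/-- The restricted transition morphisms. -/
noncomputable def laterTrans {j k : After i₀} (h : j ≤ k) :
    CHom (laterF gN i₀ V F j) (laterF gN i₀ V F k) :=
  ((transC F φ (h : j.1 ≤ k.1)).comp (CHom.cart (laterU gN i₀ V k).hom (F k.1))).factor
    (laterU gN i₀ V j).hom (laterMap gN i₀ V h) (laterMap_snd gN i₀ V h)

/-- The restricted transition morphism of sheaves. -/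
noncomputable def laterPhi ⦃j k : After i₀⦄ (h : j ≤ k) :
    (EtCoh.pull ((laterSys gN i₀ V).map (homOfLE h).op)).obj (laterF gN i₀ V F j) ⟶ laterF gN i₀ V F k :=
  (laterTrans gN i₀ V F φ h).α

include hφ in
lemma laterTrans_comp {j k l : After i₀} (h : j ≤ k) (h' : k ≤ l) :
    (laterTrans gN i₀ V F φ h).comp (laterTrans gN i₀ V F φ h') = laterTrans gN i₀ V F φ (h.trans h') := by
  have hcomp : laterMap gN i₀ V h' ≫ laterMap gN i₀ V h = laterMap gN i₀ V (h.trans h') :=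
    ((laterSys gN i₀ V).map_comp (X := op l) (Y := op k) (Z := op j) (homOfLE h').op (homOfLE h).op).symm
  refine (CHom.lift_comp (transC F φ (h : j.1 ≤ k.1)) (transC F φ (h' : k.1 ≤ l.1)) _ _ _ _
    (laterMap_snd gN i₀ V h) _ (laterMap_snd gN i₀ V h') _ hcomp ?_).trans (CHom.factor_congr ?_ _ _ _ _)
  · exact (laterMap_snd gN i₀ V (h.trans h')).trans (congrArg (_ ≫ ·) (trn_trn Ts _ _).symm)
  · exact congrArg (fun f => CHom.comp f _) (transC_comp F φ hφ _ _)

include hφ in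
lemma laterPhi_comp ⦃j k l : After i₀⦄ (h : j ≤ k) (h' : k ≤ l) :
    laterPhi gN i₀ V F φ (h.trans h') =
      (EtLim.pullTrans (laterSys gN i₀ V) h h').hom.app (laterF gN i₀ V F j) ≫
        (EtCoh.pull ((laterSys gN i₀ V).map (homOfLE h').op)).map (laterPhi gN i₀ V F φ h) ≫
          laterPhi gN i₀ V F φ h' :=
  phi_comp_of (laterF gN i₀ V F) (laterPhi gN i₀ V F φ)
    (fun _ _ _ a b => laterTrans_comp gN i₀ V F φ hφ a b) h h'

/-- The restricted diagram on the limit. -/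
noncomputable abbrev laterG : After i₀ ⥤ EtCoh.Ab (laterCone gN i₀ V cT cS g hg).pt :=
  (Monotone.functor (f := Subtype.val) fun _ _ h => h) ⋙ G ⋙ EtCoh.pull (limU i₀ V cT cS g).hom

/-- The restricted morphism to a member of the diagram. -/
noncomputable def laterStage (j : After i₀) :
    CHom (laterF gN i₀ V F j) ((laterG gN i₀ V cT cS g hg G).obj j) :=
  ((stageC F cT G ψ j.1).comp (CHom.cart (limU i₀ V cT cS g).hom (G.obj j.1))).factor
    (laterU gN i₀ V j).hom (limProj gN i₀ V cT cS g hg j) (limProj_snd gN i₀ V cT cS g hg j)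

instance isIso_laterStage (j : After i₀) : IsIso (laterStage gN i₀ V cT cS g hg F G ψ j).α :=
  inferInstanceAs (IsIso ((((EtCore.pullComp (limProj gN i₀ V cT cS g hg j) (laterU gN i₀ V j).hom).symm ≪≫
      EtCore.pullCongr (limProj_snd gN i₀ V cT cS g hg j)).app (F j.1)).hom ≫
    (EtCore.pullComp (limU i₀ V cT cS g).hom (proj Ts cT j.1)).hom.app (F j.1) ≫
      (EtCoh.pull (limU i₀ V cT cS g).hom).map (ψ j.1).hom ≫ 𝟙 _))

/-- The identification with the restricted diagram. -/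
noncomputable def laterPsi (j : After i₀) :
    (EtCoh.pull ((laterCone gN i₀ V cT cS g hg).π.app (op j))).obj (laterF gN i₀ V F j) ≅
      (laterG gN i₀ V cT cS g hg G).obj j :=
  @asIso _ _ _ _ (laterStage gN i₀ V cT cS g hg F G ψ j).α (isIso_laterStage gN i₀ V cT cS g hg F G ψ j)

include hψ in
lemma laterPsi_comp ⦃j k : After i₀⦄ (h : j ≤ k) :
    (laterPsi gN i₀ V cT cS g hg F G ψ j).hom ≫ (laterG gN i₀ V cT cS g hg G).map (homOfLE h) =
      (EtLim.pullTransCone (laterSys gN i₀ V) (laterCone gN i₀ V cT cS g hg) h).hom.app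
          (laterF gN i₀ V F j) ≫
        (EtCoh.pull ((laterCone gN i₀ V cT cS g hg).π.app (op k))).map (laterPhi gN i₀ V F φ h) ≫
          (laterPsi gN i₀ V cT cS g hg F G ψ k).hom := by
  refine psi_comp_of (laterF gN i₀ V F) (laterPhi gN i₀ V F φ) (laterCone gN i₀ V cT cS g hg)
    (laterG gN i₀ V cT cS g hg G) (laterPsi gN i₀ V cT cS g hg F G ψ) ?_ h
  intro j k h
  let u := (limU i₀ V cT cS g).hom
  have e : (laterStage gN i₀ V cT cS g hg F G ψ j).post
      ((EtCoh.pull u).map (G.map (homOfLE (h : j.1 ≤ k.1)))) =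
      (laterTrans gN i₀ V F φ h).comp (laterStage gN i₀ V cT cS g hg F G ψ k) := by
    refine (CHom.lift_post (stageC F cT G ψ j.1) (G.map (homOfLE (h : j.1 ≤ k.1))) _ _ _
      (limProj_snd gN i₀ V cT cS g hg j) (limProj_snd gN i₀ V cT cS g hg j)).trans ?_
    refine Eq.trans ?_ (CHom.lift_comp (transC F φ (h : j.1 ≤ k.1)) (stageC F cT G ψ k.1) _ _ _ _
      (laterMap_snd gN i₀ V h) _ (limProj_snd gN i₀ V cT cS g hg k) (limProj gN i₀ V cT cS g hg j)
      ((laterCone gN i₀ V cT cS g hg).w (homOfLE h).op)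
      ((limProj_snd gN i₀ V cT cS g hg j).trans (congrArg (_ ≫ ·) (proj_trn Ts cT _).symm))).symm
    exact CHom.factor_congr (congrArg (fun f => CHom.comp f _)
      (stageC_comp F φ cT G ψ hψ (h : j.1 ≤ k.1)).symm) _ _ _ _
  exact e.symm

variable [∀ (p q : ιᵒᵖ) (m : p ⟶ q), IsAffineHom (Ts.map m)]
  [∀ (p q : ιᵒᵖ) (m : p ⟶ q), IsAffineHom (Ss.map m)] [IsAffine V.left]
  [∀ a : ιᵒᵖ, QuasiCompact (gN.app a)] [∀ a : ιᵒᵖ, QuasiSeparated (gN.app a)]

/-- The morphism to the colimit. -/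
noncomputable def laterLim (j : After i₀) :
    CHom (laterF gN i₀ V F j) ((EtCoh.pull (limU i₀ V cT cS g).hom).obj (colimit G)) :=
  ((limC F cT G ψ j.1).comp (CHom.cart (limU i₀ V cT cS g).hom (colimit G))).factor
    (laterU gN i₀ V j).hom (limProj gN i₀ V cT cS g hg j) (limProj_snd gN i₀ V cT cS g hg j)

include hφ hψ in
/-- Cohomology on the limit. -/
theorem slice_colimit (hcT : IsLimit cT) (n : ℕ) :
    (∀ x : EtCoh.H (limU i₀ V cT cS g).left ((EtCoh.pull (limU i₀ V cT cS g).hom).obj (colimit G)) n,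
      ∃ (j : After i₀) (y : EtCoh.H (laterU gN i₀ V j).left (laterF gN i₀ V F j) n),
        (laterLim gN i₀ V cT cS g hg F G ψ j).H n y = x) ∧
    (∀ (j : After i₀) (y : EtCoh.H (laterU gN i₀ V j).left (laterF gN i₀ V F j) n),
      (laterLim gN i₀ V cT cS g hg F G ψ j).H n y = 0 →
        ∃ (k : After i₀) (hk : j ≤ k), (laterTrans gN i₀ V F φ hk).H n y = 0) := by
  haveI : Nonempty ι := ⟨i₀⟩
  haveI := nonempty_after i₀
  haveI := directed_after i₀
  haveI := isAffineHom_laterSys gN i₀ V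
  haveI : ∀ p, CompactSpace ↥((laterSys gN i₀ V).obj p) := fun p => by
    exact @compactSpace_pullback' _ _ (gN.app (op p.unop.1)) _ (laterV i₀ V p.unop).hom
      (isAffine_laterV i₀ V p.unop) _
  haveI : ∀ p, QuasiSeparatedSpace ↥((laterSys gN i₀ V).obj p) := fun p => by
    exact @quasiSeparatedSpace_pullback' _ _ (gN.app (op p.unop.1)) _ (laterV i₀ V p.unop).hom
      (isAffine_laterV i₀ V p.unop) _
  haveI : ∀ a, PreservesFiniteLimits (EtCoh.pull ((laterCone gN i₀ V cT cS g hg).π.app a)) :=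
    fun a => pull_preservesFiniteLimits _
  haveI : ∀ ⦃a b : (After i₀)ᵒᵖ⦄ (m : a ⟶ b),
      PreservesFiniteLimits (EtCoh.pull ((laterSys gN i₀ V).map m)) :=
    fun a b m => pull_preservesFiniteLimits _
  let u := (limU i₀ V cT cS g).hom
  let incl' : After i₀ ⥤ ι := Monotone.functor (f := Subtype.val) fun _ _ h => h
  haveI : incl'.Final := Functor.final_of_exists_of_isFiltered incl'
    (fun d => by
      obtain ⟨r, h₁, h₂⟩ := exists_ge_ge i₀ d
      exact ⟨⟨r, h₁⟩, ⟨homOfLE h₂⟩⟩)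
    (fun {d c} s s' => ⟨c, 𝟙 c, Subsingleton.elim _ _⟩)
  haveI : (EtCoh.pull u).IsLeftAdjoint := (EtCoh.pullPushAdj u).isLeftAdjoint
  let G' := laterG gN i₀ V cT cS g hg G
  let hC := isColimitOfPreserves (EtCoh.pull u)
    ((Functor.Final.isColimitWhiskerEquiv incl' _).symm (colimit.isColimit G))
  let κ := (colimit.isColimit G').coconePointUniqueUpToIso hC
  have hκ : ∀ j, colimit.ι G' j ≫ κ.hom = (EtCoh.pull u).map (colimit.ι G j.1) := fun j =>
    IsColimit.comp_coconePointUniqueUpToIso_hom _ _ j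
  obtain ⟨hs, hz⟩ := system_colimit (laterF gN i₀ V F) (laterPhi gN i₀ V F φ)
    (laterPhi_comp gN i₀ V F φ hφ) (laterCone gN i₀ V cT cS g hg) G'
    (laterPsi gN i₀ V cT cS g hg F G ψ) (laterPsi_comp gN i₀ V cT cS g hg F φ G ψ hψ)
    (isLimitLaterCone gN i₀ V cT cS g hg hcT) n
  have hrel : ∀ (j : After i₀) (y : EtCoh.H (laterU gN i₀ V j).left (laterF gN i₀ V F j) n),
      (laterLim gN i₀ V cT cS g hg F G ψ j).H n y =
        (EtLim.HpullThen (proj (laterSys gN i₀ V) (laterCone gN i₀ V cT cS g hg) j) (laterF gN i₀ V F j)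
          (colimHom (laterF gN i₀ V F) (laterCone gN i₀ V cT cS g hg) G'
            (laterPsi gN i₀ V cT cS g hg F G ψ) j) n y).comp (Ext.mk₀ κ.hom) (add_zero n) := by
    intro j y
    have e : laterLim gN i₀ V cT cS g hg F G ψ j =
        (laterStage gN i₀ V cT cS g hg F G ψ j).post (colimit.ι G' j ≫ κ.hom) := by
      refine Eq.trans ?_ (congrArg (fun β => (laterStage gN i₀ V cT cS g hg F G ψ j).post β) (hκ j).symm)
      exact (CHom.lift_post (stageC F cT G ψ j.1) (colimit.ι G j.1) _ _ _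
        (limProj_snd gN i₀ V cT cS g hg j) (limProj_snd gN i₀ V cT cS g hg j)).symm
    refine (congrArg (fun f : CHom _ _ => f.H n y) e).trans ?_
    show ((laterStage gN i₀ V cT cS g hg F G ψ j).post (colimit.ι G' j ≫ κ.hom)).H n y =
      ((((laterStage gN i₀ V cT cS g hg F G ψ j).post (colimit.ι G' j))).H n y).comp
        (Ext.mk₀ κ.hom) (add_zero n)
    refine Eq.trans ?_ (CHom.H_post _ κ.hom n y)
    exact congrArg (fun f : CHom _ _ => f.H n y) (congrArg (CHom.mk _) (Category.assoc _ _ _).symm)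
  refine ⟨fun x => ?_, fun j y hy => ?_⟩
  · obtain ⟨j, y, hy⟩ := hs (x.comp (Ext.mk₀ κ.inv) (add_zero n))
    refine ⟨j, y, (hrel j y).trans ((congrArg (fun z => Ext.comp z _ (add_zero n)) hy).trans ?_)⟩
    exact ext_cancel x κ.inv κ.hom κ.inv_hom_id
  · refine hz j y ?_
    refine (ext_cancel _ κ.hom κ.inv κ.hom_inv_id).symm.trans ?_
    exact (congrArg (fun z => Ext.comp z _ (add_zero n)) ((hrel j y).symm.trans hy)).trans
      (Ext.zero_comp _ _ _ _ _)

end System

end Slice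

end Groth.EtaleBase.EtLimit
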