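import Groth.Agent.EtaleBase.Limit.StalkCycle
import Groth.Agent.EtaleBase.Limit.SecClass
import Groth.Agent.DescentBase.HpullViaComp

/-!
The base change morphism on stalks of higher direct images, with a morphism of coefficients, and its
compatibility with pasting of squares.
-/

set_option autoImplicit false

universe u

open CategoryTheory CategoryTheory.Limits CategoryTheory.Abelian AlgebraicGeometry Opposite

namespace Groth.EtaleBase.EtLimit

/-- Composing with a morphism of étale schemes. -/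
lemma lift_w {T P : Scheme.{u}} {W W' : T.Etale} (φ : W' ⟶ W) {p : P ⟶ T} {m : P ⟶ W'.left}
    (hm : m ≫ W'.hom = p) : (m ≫ φ.left) ≫ W.hom = p :=
  (Category.assoc _ _ _).trans ((congrArg (m ≫ ·) (MorphismProperty.Over.w φ)).trans hm)

lemma chase {C : Type*} [Category C] {U A₁ A₂ A₃ A₄ B₀ V₀ V₁ V₂ V₃ V₄ : C} {θ' : U ⟶ A₁} {r : A₁ ⟶ A₂}
    {fk : A₂ ⟶ B₀} {fV : B₀ ⟶ V₀} {pf : A₁ ⟶ V₁} {fV' : V₁ ⟶ V₀} {pf₂ : U ⟶ V₂} {θ : V₂ ⟶ V₁}
    {a : V₂ ⟶ V₃} {b : V₃ ⟶ V₀} {r₂ : U ⟶ A₃} {f₂ : A₃ ⟶ A₄} {r₁ : A₄ ⟶ V₄} {f₁ : V₄ ⟶ B₀}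
    {c : A₄ ⟶ V₃} (a1 : r ≫ fk ≫ fV = pf ≫ fV') (a4 : θ' ≫ pf = pf₂ ≫ θ) (av : θ ≫ fV' = a ≫ b)
    (a2 : r₁ ≫ f₁ ≫ fV = c ≫ b) (a3 : r₂ ≫ f₂ ≫ c = pf₂ ≫ a) :
    ((((𝟙 U ≫ r₂) ≫ f₂) ≫ r₁) ≫ f₁) ≫ fV = (((𝟙 U ≫ θ') ≫ r) ≫ fk) ≫ fV := by
  simp only [Category.assoc, Category.id_comp]
  rw [a1, a2, ← Category.assoc θ', a4, Category.assoc, av, ← Category.assoc pf₂, ← a3]
  simp only [Category.assoc]

section Classes

variable {T S : Scheme.{u}} (g : T ⟶ S) {F : EtCoh.Ab T} (I : InjectiveResolution F)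
  {Ω : Type u} [Field Ω] [IsSepClosed Ω] {ξ : Spec (CommRingCat.of Ω) ⟶ S}

lemma rep_zero_self {q : ℕ} {V : S.Etale} (t : (Scheme.pointSmallEtale ξ).fiber.obj V) :
    Rep g I ξ q V t 0 0 :=
  ⟨0, map_zero _, (congrArg _ (map_zero _)).trans (map_zero _)⟩

/-- Only the class of a representing cycle matters. -/
theorem rep_of_cls_eq {q : ℕ} {V : S.Etale} {t : (Scheme.pointSmallEtale ξ).fiber.obj V}
    {z z' : ((injResn I).X q).obj.obj (op ((EtCoh.bc g).obj V))}
    {e : (EtCoh.stalk ξ).obj ((EtCoh.Rpush g q).obj F)} (h : Rep g I ξ q V t z e)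
    (hz : ((injResn I).d q).hom.app (op ((EtCoh.bc g).obj V)) z = 0)
    (hz' : ((injResn I).d q).hom.app (op ((EtCoh.bc g).obj V)) z' = 0)
    (hc : (injResn I).clsAt z' hz' ((EtCoh.bc g).obj V).hom (𝟙 _) (Category.id_comp _) =
      (injResn I).clsAt z hz ((EtCoh.bc g).obj V).hom (𝟙 _) (Category.id_comp _)) :
    Rep g I ξ q V t z' e := by
  obtain ⟨e', he'⟩ := exists_rep_of_cycle g I ξ q V t z' hz'
  suffices h0 : e' - e = 0 by rw [← sub_eq_zero.1 h0]; exact he'
  have hd : ((injResn I).d q).hom.app (op ((EtCoh.bc g).obj V)) (z' - z) = 0 := by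
    rw [map_sub, hz, hz', sub_zero]
  have hc0 : (injResn I).clsAt (z' - z) hd ((EtCoh.bc g).obj V).hom (𝟙 _) (Category.id_comp _) = 0 :=
    ((injResn I).clsAt_sub hz' hz hd).trans (sub_eq_zero.2 hc)
  have hs := he'.sub h
  cases q with
  | zero =>
    have hzero := clsAt_zero_eq_zero I _ hd hc0
    exact hs.unique (hzero ▸ rep_zero_self g I t)
  | succ n =>
    obtain ⟨b, hb⟩ := exists_boundary_of_clsAt I _ hd hc0
    exact hs.unique (hb ▸ rep_boundary g I ξ n V t b)

/-- A cycle of class zero represents zero. -/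
theorem eq_zero_of_cls {q : ℕ} {V : S.Etale} {t : (Scheme.pointSmallEtale ξ).fiber.obj V}
    {z : ((injResn I).X q).obj.obj (op ((EtCoh.bc g).obj V))}
    {e : (EtCoh.stalk ξ).obj ((EtCoh.Rpush g q).obj F)} (h : Rep g I ξ q V t z e)
    (hz : ((injResn I).d q).hom.app (op ((EtCoh.bc g).obj V)) z = 0)
    (hc : (injResn I).clsAt z hz ((EtCoh.bc g).obj V).hom (𝟙 _) (Category.id_comp _) = 0) :
    e = 0 := by
  have h0 := rep_of_cls_eq g I h hz (map_zero _) (((injResn I).clsAt_zero (map_zero _)).trans hc.symm)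
  exact h0.unique (rep_zero_self g I t)

/-- A cycle representing zero has class zero on a neighbourhood. -/
theorem exists_cls_eq_zero {q : ℕ} {V : S.Etale} {t : (Scheme.pointSmallEtale ξ).fiber.obj V}
    {z : ((injResn I).X q).obj.obj (op ((EtCoh.bc g).obj V))} (h : Rep g I ξ q V t z 0)
    (hz : ((injResn I).d q).hom.app (op ((EtCoh.bc g).obj V)) z = 0) :
    ∃ (V' : S.Etale) (m : V' ⟶ V) (t' : (Scheme.pointSmallEtale ξ).fiber.obj V'),
      (Scheme.pointSmallEtale ξ).fiber.map m t' = t ∧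
        ∀ {P : Scheme.{u}} (p : P ⟶ T) (m₀ : P ⟶ ((EtCoh.bc g).obj V').left)
          (hm₀ : m₀ ≫ ((EtCoh.bc g).obj V').hom = p),
          (injResn I).clsAt z hz p (m₀ ≫ ((EtCoh.bc g).map m).left)
            (lift_w _ hm₀) = 0 := by
  cases q with
  | zero =>
    obtain ⟨V', m, t', ht, hm⟩ := rep_zero_degree_zero g I ξ h
    refine ⟨V', m, t', ht, fun p m₀ hm₀ => ?_⟩
    have hd : ((injResn I).d 0).hom.app (op ((EtCoh.bc g).obj V'))
        (((injResn I).X 0).obj.map ((EtCoh.bc g).map m).op z) = 0 :=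
      (congrArg (((injResn I).d 0).hom.app _) hm).trans (map_zero _)
    refine ((injResn I).clsAt_res hz _ m₀ hm₀ rfl hd).symm.trans ?_
    exact ((injResn I).clsAt_congr hm hd (map_zero _)).trans ((injResn I).clsAt_zero (map_zero _))
  | succ n =>
    obtain ⟨V', m, t', b, ht, hb⟩ := rep_zero g I ξ h
    refine ⟨V', m, t', ht, fun p m₀ hm₀ => ?_⟩
    have hd : ((injResn I).d (n + 1)).hom.app (op ((EtCoh.bc g).obj V'))
        (((injResn I).X (n + 1)).obj.map ((EtCoh.bc g).map m).op z) = 0 :=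
      (NatTrans.naturality_apply ((injResn I).d (n + 1)).hom _ z).trans
        ((congrArg _ hz).trans (map_zero _))
    refine ((injResn I).clsAt_res hz _ m₀ hm₀ rfl hd).symm.trans ?_
    exact ((injResn I).clsAt_congr hb.symm hd
      ((congrArg _ hb).trans hd)).trans ((injResn I).clsAt_boundary b _)

/-- A morphism of coefficients on representatives. -/
theorem rep_map {F' : EtCoh.Ab T} (J : InjectiveResolution F') (α : F ⟶ F') {q : ℕ} {V : S.Etale}
    {t : (Scheme.pointSmallEtale ξ).fiber.obj V}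
    {z : (I.cocomplex.X q).obj.obj (op ((EtCoh.bc g).obj V))}
    {e : (EtCoh.stalk ξ).obj ((EtCoh.Rpush g q).obj F)} (h : Rep g I ξ q V t z e) :
    Rep g J ξ q V t (((InjectiveResolution.desc α J I).f q).hom.app (op ((EtCoh.bc g).obj V)) z)
      ((EtCoh.stalk ξ).map ((EtCoh.Rpush g q).map α) e) := by
  obtain ⟨c, hc, he⟩ := h
  let Φ : pushCx g I ⟶ pushCx g J :=
    ((EtCoh.push g).mapHomologicalComplex (ComplexShape.up ℕ)).map (InjectiveResolution.desc α J I)
  refine ⟨(HomologicalComplex.cyclesMap Φ q).hom.app (op V) c, ?_, ?_⟩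
  · refine (ConcreteCategory.congr_hom (congrArg (fun ψ => ψ.hom.app (op V))
      (HomologicalComplex.cyclesMap_i Φ q)) c).trans ?_
    exact congrArg ((Φ.f q).hom.app (op V)) hc
  · have hn : ((pushCx g I).homologyπ q ≫ (I.isoRightDerivedObj (EtCoh.push g) q).inv) ≫
        (EtCoh.Rpush g q).map α =
        HomologicalComplex.cyclesMap Φ q ≫
          ((pushCx g J).homologyπ q ≫ (J.isoRightDerivedObj (EtCoh.push g) q).inv) := by
      refine (Category.assoc _ _ _).trans ((congrArg ((pushCx g I).homologyπ q ≫ ·)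
        (InjectiveResolution.isoRightDerivedObj_inv_naturality α I J (InjectiveResolution.desc α J I)
          (InjectiveResolution.desc_commutes_zero _ J I) (EtCoh.push g) q)).trans ?_)
      exact (Category.assoc _ _ _).symm.trans
        ((congrArg (· ≫ _) (HomologicalComplex.homologyπ_naturality Φ q)).trans (Category.assoc _ _ _))
    rw [← he, germ_map, germ_map, germ_map]
    exact congrArg _ (ConcreteCategory.congr_hom (congrArg (fun ψ => ψ.hom.app (op V)) hn) c).symm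

end Classes

section BaseChange

variable {X S S' X' : Scheme.{u}} (f : X ⟶ S) (g : S' ⟶ S) (f' : X' ⟶ S') (g' : X' ⟶ X)
  (w : g' ≫ f = f' ≫ g) [PreservesFiniteLimits (EtCoh.pull g')] {F : EtCoh.Ab X} {F' : EtCoh.Ab X'}
  (α : (EtCoh.pull g').obj F ⟶ F')
  {Ω : Type u} [Field Ω] [IsSepClosed Ω] (ξ : Spec (CommRingCat.of Ω) ⟶ S')

/-- The base change morphism on stalks, with a morphism of coefficients. -/
noncomputable def stalkBC (q : ℕ) : (EtCoh.stalk (ξ ≫ g)).obj ((EtCoh.Rpush f q).obj F) ⟶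
    (EtCoh.stalk ξ).obj ((EtCoh.Rpush f' q).obj F') :=
  (stalkPullIso g ξ).hom.app _ ≫
    (EtCoh.stalk ξ).map (EtBC.bcQ f g f' g' w q F ≫ (EtCoh.Rpush f' q).map α)

/-- A morphism of resolutions over a morphism of coefficients. -/
noncomputable def bcHom : Resn.Hom g' (injResn (injectiveResolution F))
    (injResn (injectiveResolution F')) α where
  f n := (resUnitHom g' F).f n ≫ (InjectiveResolution.desc α (injectiveResolution F')
    (injectiveResolution ((EtCoh.pull g').obj F))).f n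
  comm n := by
    refine (Category.assoc _ _ _).symm.trans ((congrArg (· ≫ _) ((resUnitHom g' F).comm n)).trans ?_)
    refine (Category.assoc _ _ _).trans (Eq.trans ?_ (Category.assoc _ _ _).symm)
    exact congrArg (_ ≫ ·) ((InjectiveResolution.desc α (injectiveResolution F')
      (injectiveResolution ((EtCoh.pull g').obj F))).comm n (n + 1)).symm
  comm_ε := by
    refine (Category.assoc _ _ _).symm.trans ((congrArg (· ≫ _) (resUnitHom g' F).comm_ε).trans ?_)
    refine (congrArg (· ≫ _) (Category.id_comp _)).trans ?_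
    exact InjectiveResolution.desc_commutes_zero _ _ _

/-- The point of the base change over a point. -/
noncomputable abbrev liftPt (V : S.Etale) (t : (Scheme.pointSmallEtale (ξ ≫ g)).fiber.obj V) :
    (Scheme.pointSmallEtale ξ).fiber.obj ((EtCoh.bc g).obj V) :=
  pushLift g ξ rfl V t

/-- The base change morphism is computed by any morphism of resolutions. -/
theorem rep_stalkBC {q : ℕ} {V : S.Etale} {t : (Scheme.pointSmallEtale (ξ ≫ g)).fiber.obj V}
    {z : ((injResn (injectiveResolution F)).X q).obj.obj (op ((EtCoh.bc f).obj V))}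
    {e : (EtCoh.stalk (ξ ≫ g)).obj ((EtCoh.Rpush f q).obj F)}
    (h : Rep f (injectiveResolution F) (ξ ≫ g) q V t z e)
    (φ : Resn.Hom g' (injResn (injectiveResolution F)) (injResn (injectiveResolution F')) α) :
    Rep f' (injectiveResolution F') ξ q ((EtCoh.bc g).obj V) (liftPt g ξ V t)
      (((injResn (injectiveResolution F')).X q).obj.map (bcSq f g f' g' w V).op
        (((EtCoh.pullPushAdj g').homEquiv _ _ (φ.f q)).hom.app (op ((EtCoh.bc f).obj V)) z))
      (stalkBC f g f' g' w α ξ q e) := by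
  let R := injResn (injectiveResolution F)
  let R' := injResn (injectiveResolution F')
  let U := (EtCoh.bc f').obj ((EtCoh.bc g).obj V)
  let ψ := InjectiveResolution.desc α (injectiveResolution F')
    (injectiveResolution ((EtCoh.pull g').obj F))
  have h1 := rep_map f' (injectiveResolution ((EtCoh.pull g').obj F)) (injectiveResolution F') α
    (rep_bcQ f g f' g' w F h)
  have hφ : ((EtCoh.pullPushAdj g').homEquiv _ _ ((bcHom g' α).f q)).hom.app (op ((EtCoh.bc f).obj V)) z =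
      (ψ.f q).hom.app (op ((EtCoh.bc g').obj ((EtCoh.bc f).obj V)))
        (((resUnit g' F).f q).hom.app (op ((EtCoh.bc f).obj V)) z) := by
    refine ConcreteCategory.congr_hom (congrArg (fun ν => ν.hom.app (op ((EtCoh.bc f).obj V)))
      (((EtCoh.pullPushAdj g').homEquiv_naturality_right _ _).trans
        (congrArg (· ≫ (EtCoh.push g').map (ψ.f q)) (Equiv.apply_symm_apply _ _)))) z
  have he : (EtCoh.stalk ξ).map ((EtCoh.Rpush f' q).map α)
      ((EtCoh.stalk ξ).map (EtBC.bcQ f g f' g' w q F) ((stalkPullIso g ξ).hom.app _ e)) =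
        stalkBC f g f' g' w α ξ q e :=
    (ConcreteCategory.congr_hom ((EtCoh.stalk ξ).map_comp _ _) _).symm
  have h2 : Rep f' (injectiveResolution F') ξ q ((EtCoh.bc g).obj V) (liftPt g ξ V t)
      ((R'.X q).obj.map (bcSq f g f' g' w V).op
        (((EtCoh.pullPushAdj g').homEquiv _ _ ((bcHom g' α).f q)).hom.app (op ((EtCoh.bc f).obj V)) z))
      (stalkBC f g f' g' w α ξ q e) := by
    rw [← he]
    have e2 := NatTrans.naturality_apply (ψ.f q).hom (bcSq f g f' g' w V).op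
      (((resUnit g' F).f q).hom.app (op ((EtCoh.bc f).obj V)) z)
    exact (congrArg (R'.X q |>.obj.map (bcSq f g f' g' w V).op) hφ).trans e2.symm ▸ h1
  have hcyc : ∀ φ : Resn.Hom g' R R' α, (R'.d q).hom.app (op U) ((R'.X q).obj.map (bcSq f g f' g' w V).op
      (((EtCoh.pullPushAdj g').homEquiv _ _ (φ.f q)).hom.app (op ((EtCoh.bc f).obj V)) z)) = 0 := fun φ => by
    refine (NatTrans.naturality_apply (R'.d q).hom _ _).trans ?_
    have e3 := ConcreteCategory.congr_hom (congrArg (fun ν => ν.hom.app (op ((EtCoh.bc f).obj V)))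
      (((EtCoh.pullPushAdj g').homEquiv_naturality_left (R.d q) (φ.f (q + 1))).symm.trans
        ((congrArg _ (φ.comm q)).trans ((EtCoh.pullPushAdj g').homEquiv_naturality_right _ _)))) z
    exact (congrArg _ (e3.symm.trans ((congrArg (fun y =>
      (((EtCoh.pullPushAdj g').homEquiv _ _ (φ.f (q + 1))).hom.app (op ((EtCoh.bc f).obj V))) y)
        h.cycle).trans (map_zero _)))).trans (map_zero _)
  refine rep_of_cls_eq f' (injectiveResolution F') h2 (hcyc _) (hcyc _) ?_
  let r := bcSq f g f' g' w V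
  let m₀ : U.left ⟶ ((EtCoh.bc f).obj V).left := (𝟙 U.left ≫ r.left) ≫ pullback.fst _ g'
  have hm₀ : m₀ ≫ ((EtCoh.bc f).obj V).hom = U.hom ≫ g' :=
    (Category.assoc _ _ _).trans ((congrArg (_ ≫ ·) pullback.condition).trans
      ((Category.assoc _ _ _).symm.trans (congrArg (· ≫ g')
        ((congrArg (· ≫ _) (Category.id_comp r.left)).trans (MorphismProperty.Over.w r)))))
  exact (R'.clsAt_hom φ r rfl m₀ hm₀ rfl h.cycle (hcyc φ)).trans
    (R'.clsAt_hom (bcHom g' α) r rfl m₀ hm₀ rfl h.cycle (hcyc (bcHom g' α))).symm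

end BaseChange

section Comp

variable {X S S' X' S'' X'' : Scheme.{u}} (f : X ⟶ S) (g : S' ⟶ S) (f' : X' ⟶ S') (g' : X' ⟶ X)
  (w : g' ≫ f = f' ≫ g) [PreservesFiniteLimits (EtCoh.pull g')]
  (f'' : X'' ⟶ S'') (h : S'' ⟶ S') (k : X'' ⟶ X') (w' : k ≫ f' = f'' ≫ h)
  [PreservesFiniteLimits (EtCoh.pull k)] [PreservesFiniteLimits (EtCoh.pull (k ≫ g'))]
  (w'' : (k ≫ g') ≫ f = f'' ≫ (h ≫ g))
  {F : EtCoh.Ab X} {F' : EtCoh.Ab X'} {F'' : EtCoh.Ab X''}
  (α : (EtCoh.pull g').obj F ⟶ F') (β : (EtCoh.pull k).obj F' ⟶ F'')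
  {Ω : Type u} [Field Ω] [IsSepClosed Ω] (ξ : Spec (CommRingCat.of Ω) ⟶ S'')

/-- The morphism of coefficients of a pasted square. -/
noncomputable abbrev coeffComp : (EtCoh.pull (k ≫ g')).obj F ⟶ F'' :=
  (EtCore.pullComp k g').hom.app F ≫ (EtCoh.pull k).map α ≫ β

/-- The morphism of resolutions of a pasted square. -/
noncomputable def homComp {R : Resn F} {R' : Resn F'} {R'' : Resn F''} (φ : Resn.Hom g' R R' α)
    (ψ : Resn.Hom k R' R'' β) : Resn.Hom (k ≫ g') R R'' (coeffComp g' k α β) where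
  f n := (EtCore.pullComp k g').hom.app (R.X n) ≫ (EtCoh.pull k).map (φ.f n) ≫ ψ.f n
  comm n := by
    refine ((Category.assoc _ _ _).symm.trans (congrArg (· ≫ _)
      ((EtCore.pullComp k g').hom.naturality (R.d n)))).trans ?_
    simp only [Category.assoc]
    refine congrArg (_ ≫ ·) ?_
    refine (Category.assoc _ _ _).symm.trans ((congrArg (· ≫ _) (((EtCoh.pull k).map_comp _ _).symm.trans
      ((congrArg _ (φ.comm n)).trans ((EtCoh.pull k).map_comp _ _)))).trans ?_)
    exact (Category.assoc _ _ _).trans (congrArg (_ ≫ ·) (ψ.comm n))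
  comm_ε := by
    refine ((Category.assoc _ _ _).symm.trans (congrArg (· ≫ _)
      ((EtCore.pullComp k g').hom.naturality R.ε))).trans ?_
    simp only [coeffComp, Category.assoc]
    refine congrArg (_ ≫ ·) ?_
    refine (Category.assoc _ _ _).symm.trans ((congrArg (· ≫ _) (((EtCoh.pull k).map_comp _ _).symm.trans
      ((congrArg _ φ.comm_ε).trans ((EtCoh.pull k).map_comp _ _)))).trans ?_)
    exact (Category.assoc _ _ _).trans (congrArg (_ ≫ ·) ψ.comm_ε)

omit [PreservesFiniteLimits (EtCoh.pull g')] [PreservesFiniteLimits (EtCoh.pull k)]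
  [PreservesFiniteLimits (EtCoh.pull (k ≫ g'))] in
lemma coeff_assoc {P : Scheme.{u}} (p : P ⟶ X'') :
    ((((EtCore.pullComp (p ≫ k) g').symm ≪≫ EtCore.pullCongr rfl).app F).inv ≫
        (EtCoh.pull (p ≫ k)).map α) ≫
      (((EtCore.pullComp p k).symm ≪≫ EtCore.pullCongr rfl).app F').inv ≫ (EtCoh.pull p).map β =
    (((EtCore.pullComp p (k ≫ g')).symm ≪≫ EtCore.pullCongr rfl).app F).inv ≫
      (EtCoh.pull p).map (coeffComp g' k α β) := by
  have e1 : ∀ {A B C : Scheme.{u}} (a : A ⟶ B) (b : B ⟶ C) (G : EtCoh.Ab C),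
      (((EtCore.pullComp a b).symm ≪≫ EtCore.pullCongr rfl).app G).inv =
        (EtCore.pullComp a b).hom.app G := fun a b G => Category.id_comp _
  rw [e1, e1, e1, coeffComp, Functor.map_comp, Functor.map_comp]
  have hn : (EtCoh.pull (p ≫ k)).map α ≫ (EtCore.pullComp p k).hom.app F' =
      (EtCore.pullComp p k).hom.app ((EtCoh.pull g').obj F) ≫ (EtCoh.pull p).map ((EtCoh.pull k).map α) :=
    (EtCore.pullComp p k).hom.naturality α
  have ha := Groth.DescentBase.pullComp_assoc p k g' F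
  have hb : (EtCore.pullComp (p ≫ k) g').hom.app F ≫ (EtCore.pullComp p k).hom.app ((EtCoh.pull g').obj F) =
      (EtCore.pullComp p (k ≫ g')).hom.app F ≫ (EtCoh.pull p).map ((EtCore.pullComp k g').hom.app F) := by
    let a1 : (EtCoh.pull p).obj ((EtCoh.pull k).obj ((EtCoh.pull g').obj F)) ≅
        (EtCoh.pull (p ≫ k ≫ g')).obj F :=
      (EtCoh.pull p).mapIso ((EtCore.pullComp k g').symm.app F) ≪≫ (EtCore.pullComp p (k ≫ g')).symm.app F
    let a2 : (EtCoh.pull p).obj ((EtCoh.pull k).obj ((EtCoh.pull g').obj F)) ≅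
        (EtCoh.pull (p ≫ k ≫ g')).obj F :=
      (EtCore.pullComp p k).symm.app ((EtCoh.pull g').obj F) ≪≫ (EtCore.pullComp (p ≫ k) g').symm.app F
    exact (congrArg Iso.inv (Iso.ext ha : a1 = a2)).symm
  refine (Category.assoc _ _ _).trans ((congrArg (_ ≫ ·) ((Category.assoc _ _ _).symm.trans
    ((congrArg (· ≫ _) hn).trans (Category.assoc _ _ _)))).trans ?_)
  exact (Category.assoc _ _ _).symm.trans ((congrArg (· ≫ _) hb).trans (Category.assoc _ _ _))

/-- The base change morphism of a pasted square on stalks. -/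
theorem stalkBC_comp (q : ℕ) (e : (EtCoh.stalk (ξ ≫ h ≫ g)).obj ((EtCoh.Rpush f q).obj F)) :
    stalkBC f' h f'' k w' β ξ q (stalkBC f g f' g' w α (ξ ≫ h) q e) =
      stalkBC f (h ≫ g) f'' (k ≫ g') w'' (coeffComp g' k α β) ξ q e := by
  obtain ⟨V, t, z, hz⟩ := exists_rep f (injectiveResolution F) (ξ ≫ h ≫ g) q e
  let φ := bcHom g' α
  let ψ := bcHom k β
  let χ := homComp g' k α β φ ψ
  have r1 := rep_stalkBC f g f' g' w α (ξ ≫ h) hz φ
  have r2 := rep_stalkBC f' h f'' k w' β ξ r1 ψ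
  have r12 := rep_stalkBC f (h ≫ g) f'' (k ≫ g') w'' (coeffComp g' k α β) ξ hz χ
  let V₂ := (EtCoh.bc h).obj ((EtCoh.bc g).obj V)
  let θ : V₂ ⟶ (EtCoh.bc (h ≫ g)).obj V := bcVia h g rfl V
  let t₂ := liftPt h ξ ((EtCoh.bc g).obj V) (liftPt g (ξ ≫ h) V t)
  have ht : (Scheme.pointSmallEtale ξ).fiber.map θ t₂ = liftPt (h ≫ g) ξ V t := by
    refine fiber_bc_ext (h ≫ g) V ξ _ _ ?_
    refine ((Category.assoc _ _ _).trans ((congrArg (t₂.left ≫ ·) (bcVia_fst h g rfl V)).trans ?_)).trans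
      (pullback.lift_fst _ _ _).symm
    exact (Category.assoc _ _ _).symm.trans ((congrArg (· ≫ _) (pullback.lift_fst _ _ _)).trans
      (pullback.lift_fst _ _ _))
  have r12' := r12.res θ t₂ ht
  refine r2.unique (rep_of_cls_eq f'' (injectiveResolution F'') r12' r12'.cycle r2.cycle ?_)
  let R := injResn (injectiveResolution F)
  let R' := injResn (injectiveResolution F')
  let R'' := injResn (injectiveResolution F'')
  let U := (EtCoh.bc f'').obj V₂
  let p : U.left ⟶ X'' := U.hom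
  let θ' := (EtCoh.bc f'').map θ
  let r₂ := bcSq f' h f'' k w' ((EtCoh.bc g).obj V)
  let r₁ := bcSq f g f' g' w V
  let r := bcSq f (h ≫ g) f'' (k ≫ g') w'' V
  let n₁ : U.left ⟶ ((EtCoh.bc f').obj ((EtCoh.bc g).obj V)).left := (𝟙 U.left ≫ r₂.left) ≫ pullback.fst _ k
  have hn₁ : n₁ ≫ ((EtCoh.bc f').obj ((EtCoh.bc g).obj V)).hom = p ≫ k :=
    (Category.assoc _ _ _).trans ((congrArg (_ ≫ ·) pullback.condition).trans
      ((Category.assoc _ _ _).symm.trans (congrArg (· ≫ k)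
        ((congrArg (· ≫ _) (Category.id_comp r₂.left)).trans (MorphismProperty.Over.w r₂)))))
  let n : U.left ⟶ ((EtCoh.bc f).obj V).left :=
    ((𝟙 U.left ≫ θ'.left) ≫ r.left) ≫ pullback.fst _ (k ≫ g')
  have hn : n ≫ ((EtCoh.bc f).obj V).hom = (p ≫ k) ≫ g' := by
    refine (Category.assoc _ _ _).trans ((congrArg (_ ≫ ·) pullback.condition).trans
      ((Category.assoc _ _ _).symm.trans (congrArg (· ≫ (k ≫ g')) ?_)))
    exact (Category.assoc _ _ _).trans ((congrArg (_ ≫ ·) (MorphismProperty.Over.w r)).trans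
      ((congrArg (· ≫ _) (Category.id_comp θ'.left)).trans (MorphismProperty.Over.w θ')))
  have hfst : ((n₁ ≫ r₁.left) ≫ pullback.fst _ g') ≫ pullback.fst V.hom f = n ≫ pullback.fst V.hom f :=
    chase (bcSq_fst f (h ≫ g) f'' (k ≫ g') w'' V) (EtCoh.isPullback_bc_map f'' θ).w
      (bcVia_fst h g rfl V) (bcSq_fst f g f' g' w V) (bcSq_fst f' h f'' k w' ((EtCoh.bc g).obj V))
  have hm0 : (n₁ ≫ r₁.left) ≫ pullback.fst _ g' = n := by
    refine pullback.hom_ext hfst ?_
    refine ((Category.assoc _ _ _).trans ((congrArg (_ ≫ ·) pullback.condition).trans ?_)).trans hn.symm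
    exact (Category.assoc _ _ _).symm.trans (congrArg (· ≫ g')
      ((Category.assoc _ _ _).trans ((congrArg (n₁ ≫ ·) (MorphismProperty.Over.w r₁)).trans hn₁)))
  refine (R''.clsAt_hom ψ r₂ rfl n₁ hn₁ rfl r1.cycle r2.cycle).trans ?_
  refine (congrArg (fun x => Ext.comp x _ (add_zero q))
    (R'.clsAt_hom φ r₁ rfl n hn hm0 hz.cycle r1.cycle)).trans ?_
  refine Eq.trans ?_ ((R''.clsAt_res (hm := lift_w θ' (Category.id_comp _)) r12.cycle θ' (𝟙 U.left) (Category.id_comp _) rfl r12'.cycle).trans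
    (R''.clsAt_hom (hm := lift_w θ' (Category.id_comp _)) χ r rfl n hn rfl hz.cycle r12.cycle)).symm
  rw [Ext.comp_assoc_of_third_deg_zero, Ext.mk₀_comp_mk₀]
  exact congrArg (fun x => Ext.comp _ (Ext.mk₀ x) (add_zero q)) (coeff_assoc g' k α β p)

end Comp

end Groth.EtaleBase.EtLimit
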