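import Groth.Agent.EtaleBase.Limit.StalkLimitAux

/-!
Stalks of higher direct images along the limit of a system of morphisms.
-/

set_option autoImplicit false

universe u

open CategoryTheory CategoryTheory.Limits CategoryTheory.Abelian AlgebraicGeometry Opposite

namespace Groth.EtaleBase.EtLimit

attribute [local instance] pull_preservesFiniteLimits

lemma bc_map_fst_comp {T S : Scheme.{u}} (g : T ⟶ S) {V W : S.Etale} (f : V ⟶ W) {Z : Scheme.{u}}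
    (r : W.left ⟶ Z) :
    (((EtCoh.bc g).map f).left ≫ pullback.fst W.hom g) ≫ r = pullback.fst V.hom g ≫ f.left ≫ r :=
  (congrArg (· ≫ r) (EtCoh.isPullback_bc_map g f).w).trans (Category.assoc _ _ _)

lemma pt_chase {C : Type*} [Category C] {P L W₂ W₁ V₀ A₁ A₂ X₁ : C} {s : P ⟶ L} {n : L ⟶ A₁} {m : A₁ ⟶ A₂}
    {t'' : P ⟶ A₁} {t' : P ⟶ A₂} {f : A₂ ⟶ V₀} {t₀ : P ⟶ V₀} (hs : s ≫ n = t'') (htm : t'' ≫ m = t')
    (ht' : t' ≫ f = t₀) {u : L ⟶ X₁} {p : X₁ ⟶ W₂} {v : W₂ ⟶ W₁}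
    {π : W₁ ⟶ V₀} {w : L ⟶ W₁} (hw : (u ≫ p) ≫ v = w)
    (hstar : w ≫ π = (n ≫ m) ≫ f) : ((s ≫ u) ≫ p) ≫ v ≫ π = t₀ := by
  rw [← ht', ← htm, ← hs]
  simp only [Category.assoc] at *
  rw [reassoc_of% hw, hstar]

lemma map₂_chase {C : Type*} [Category C] {A₀ A₁ A₂ B₀ B₁ B₂ Z : C} {a : A₀ ⟶ A₁} {a' : A₁ ⟶ A₂}
    {p₀ : A₀ ⟶ B₀} {p₁ : A₁ ⟶ B₁} {p₂ : A₂ ⟶ B₂} {b : B₀ ⟶ B₁} {b' : B₁ ⟶ B₂} {c : B₂ ⟶ Z} {r : B₀ ⟶ Z}
    (h : a ≫ p₁ = p₀ ≫ b) (h' : a' ≫ p₂ = p₁ ≫ b') (er : r = (b ≫ b') ≫ c) :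
    p₀ ≫ r = ((a ≫ a') ≫ p₂) ≫ c := by
  subst er
  simp only [Category.assoc]
  rw [reassoc_of% h', reassoc_of% h]

lemma map_chase {C : Type*} [Category C] {A₀ A₁ B₀ B₁ Z : C} {a : A₀ ⟶ A₁} {p₀ : A₀ ⟶ B₀} {p₁ : A₁ ⟶ B₁}
    {b : B₀ ⟶ B₁} {c : B₁ ⟶ Z} {r : B₀ ⟶ Z} (h : a ≫ p₁ = p₀ ≫ b) (er : b ≫ c = r) :
    p₀ ≫ r = (a ≫ p₁) ≫ c := by
  subst er
  simp only [Category.assoc]
  rw [reassoc_of% h]

variable {ι : Type u} [Preorder ι] {Ts Ss : ιᵒᵖ ⥤ Scheme.{u}} (gN : Ts ⟶ Ss) (cT : Cone Ts) (cS : Cone Ss)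
  (g : cT.pt ⟶ cS.pt) (hg : ∀ j, g ≫ proj Ss cS j = proj Ts cT j ≫ gN.app (op j))
  (F : ∀ i : ι, EtCoh.Ab (Ts.obj (op i)))
  (φ : ∀ ⦃i j : ι⦄ (h : i ≤ j), (EtCoh.pull (Ts.map (homOfLE h).op)).obj (F i) ⟶ F j)
  (hφ : ∀ ⦃i j k : ι⦄ (hij : i ≤ j) (hjk : j ≤ k),
    φ (hij.trans hjk) = (EtLim.pullTrans Ts hij hjk).hom.app (F i) ≫
      (EtCoh.pull (Ts.map (homOfLE hjk).op)).map (φ hij) ≫ φ hjk)
  (G : ι ⥤ EtCoh.Ab cT.pt)
  (ψ : ∀ i : ι, (EtCoh.pull (cT.π.app (op i))).obj (F i) ≅ G.obj i)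
  (hψ : ∀ ⦃i j : ι⦄ (hij : i ≤ j), (ψ i).hom ≫ G.map (homOfLE hij) =
    (EtLim.pullTransCone Ts cT hij).hom.app (F i) ≫ (EtCoh.pull (cT.π.app (op j))).map (φ hij) ≫ (ψ j).hom)

/-- The transition morphism of a system of morphisms with sheaves. -/
noncomputable def transS {i j : ι} (h : i ≤ j) :
    SMor (gN.app (op i)) (F i) (gN.app (op j)) (F j) :=
  ⟨trn Ss h, transC F φ h, trn_gN gN h⟩

/-- The morphism to the limit. -/
noncomputable def toLimS (i : ι) : SMor (gN.app (op i)) (F i) g (colimit G) :=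
  ⟨proj Ss cS i, limC F cT G ψ i, (hg i).symm⟩

lemma pt_trn {Ω : Type u} [Field Ω] (η : Spec (CommRingCat.of Ω) ⟶ cS.pt) {i j : ι} (h : i ≤ j) :
    (η ≫ proj Ss cS j) ≫ trn Ss h = η ≫ proj Ss cS i :=
  (Category.assoc _ _ _).trans (congrArg (η ≫ ·) (proj_trn Ss cS h))

variable [Nonempty ι] [IsDirectedOrder ι] [∀ (p q : ιᵒᵖ) (m : p ⟶ q), IsAffineHom (Ts.map m)]
  [∀ (p q : ιᵒᵖ) (m : p ⟶ q), IsAffineHom (Ss.map m)] [∀ a : ιᵒᵖ, QuasiCompact (gN.app a)]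
  [∀ a : ιᵒᵖ, QuasiSeparated (gN.app a)] {Ω : Type u} [Field Ω] [IsSepClosed Ω]
  (η : Spec (CommRingCat.of Ω) ⟶ cS.pt) (q : ℕ)

include hφ hψ in
/-- Every element of the stalk at the limit comes from a stage. -/
theorem stalk_limit_surj (hcT : IsLimit cT) (hcS : IsLimit cS)
    (e : (EtCoh.stalk η).obj ((EtCoh.Rpush g q).obj (colimit G))) :
    ∃ (i : ι) (y : (EtCoh.stalk (η ≫ proj Ss cS i)).obj ((EtCoh.Rpush (gN.app (op i)) q).obj (F i))),
      (toLimS gN cT cS g hg F G ψ i).st η (η ≫ proj Ss cS i) rfl q y = e := by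
  let I := injectiveResolution (colimit G)
  obtain ⟨V, t, z, hrep⟩ := exists_rep g I η q e
  obtain ⟨a, m, ha, v, hv⟩ := exists_affine_nhd hcS V (fiberPoint η t)
  obtain ⟨s, hs, -⟩ := exists_fiber_lift η m t v hv
  have hrep' := hrep.res m s hs
  obtain ⟨i₀, V₀⟩ := a
  haveI : IsAffine V₀.left := ha
  obtain ⟨j, y, hy⟩ := (slice_colimit gN i₀ V₀ cT cS g hg F φ hφ G ψ hψ hcT q).1
    ((injResn I).clsAt _ hrep'.cycle (limU i₀ V₀ cT cS g).hom (𝟙 _) (Category.id_comp _))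
  obtain ⟨zj, hzj, hclsj⟩ := exists_clsAt_eq (injectiveResolution (F j.1)) (laterU gN i₀ V₀ j) y
  let t' := (Scheme.pointSmallEtale η).fiber.map (limToLater i₀ V₀ cS j) s
  let tj := ptDown (proj Ss cS j.1) rfl (laterV i₀ V₀ j) t'
  obtain ⟨ej, hej⟩ := exists_rep_of_cycle (gN.app (op j.1)) (injectiveResolution (F j.1))
    (η ≫ proj Ss cS j.1) q (laterV i₀ V₀ j) tj zj hzj
  let a := toLimS gN cT cS g hg F G ψ j.1
  have hA := a.st_rep rfl hej t' rfl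
  have hA' := hA.res (limToLater i₀ V₀ cS j) s rfl
  refine ⟨j.1, ej, Rep.unique (rep_of_cls_eq g I hA' hA'.cycle hrep'.cycle ?_) hrep'⟩
  refine hy.symm.trans ?_
  rw [← hclsj]
  refine Eq.trans ?_ ((injResn I).clsAt_res (W := (EtCoh.bc g).obj ((EtCoh.bc a.bS).obj (laterV i₀ V₀ j)))
    (p := (limU i₀ V₀ cT cS g).hom) (hm := MorphismProperty.Over.w _) hA.cycle
    ((EtCoh.bc g).map (limToLater i₀ V₀ cS j)) (𝟙 _) (Category.id_comp _) (Category.id_comp _)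
    hA'.cycle).symm
  refine (a.clsAt_stCycle' hzj hA.cycle (limU i₀ V₀ cT cS g).hom _ (MorphismProperty.Over.w _)
    (limProj gN i₀ V₀ cT cS g hg j) (limProj_snd gN i₀ V₀ cT cS g hg j) ?_).symm
  exact (limProj_limVProj gN i₀ V₀ cS cT g hg j).trans
    (bc_map_fst_comp g (limToLater i₀ V₀ cS j) _).symm

lemma exists_descend (hcS : IsLimit cS) (i₀ : ι) (B : (Ss.obj (op i₀)).Etale) [IsAffine B.left] {i : ι}
    (V₀ : (Ss.obj (op i)).Etale) (f : limV i₀ B cS ⟶ limV i V₀ cS) :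
    ∃ (j : After i₀) (hij : i ≤ j.1) (π : (laterV i₀ B j).left ⟶ V₀.left),
      π ≫ V₀.hom = (laterV i₀ B j).hom ≫ trn Ss hij ∧
        limVProj i₀ B cS j ≫ π = f.left ≫ pullback.fst V₀.hom (proj Ss cS i) := by
  haveI : CompactSpace ↥(Obj.mk i₀ B : Obj Ss).obj.left := inferInstanceAs (CompactSpace ↥B.left)
  haveI : QuasiSeparatedSpace ↥(Obj.mk i₀ B : Obj Ss).obj.left :=
    inferInstanceAs (QuasiSeparatedSpace ↥B.left)
  obtain ⟨k, hk, ψm, hψm⟩ := exists_map_eq hcS (a := ⟨i₀, B⟩) (b := ⟨i, V₀⟩) f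
  have hik : i ≤ k := Obj.idx_le ψm
  let j₁ : After i₀ := ⟨k, hk⟩
  refine ⟨j₁, hik, ψm.1, Obj.w ψm hik, ?_⟩
  have hu : (limToLater i₀ B cS j₁).left ≫ ((toPt Ss cS).map (ext Ss ⟨i₀, B⟩ hk)).left = 𝟙 _ := by
    refine pullback.hom_ext ?_ ?_
    · exact (Category.assoc _ _ _).trans ((congrArg (_ ≫ ·) (toPt_map_fst Ss cS _)).trans
        ((Category.assoc _ _ _).symm.trans ((limVProj_fst i₀ B cS j₁).trans (Category.id_comp _).symm)))
    · exact (Category.assoc _ _ _).trans ((congrArg (_ ≫ ·) (toPt_map_snd Ss cS _)).trans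
        ((MorphismProperty.Over.w (limToLater i₀ B cS j₁)).trans (Category.id_comp _).symm))
  have e2 : ((toPt Ss cS).map ψm).left = ((toPt Ss cS).map (ext Ss ⟨i₀, B⟩ hk)).left ≫ f.left :=
    congrArg (fun r => r.left) hψm
  refine (Category.assoc _ _ _).trans ((congrArg (_ ≫ ·) (toPt_map_fst Ss cS ψm).symm).trans ?_)
  refine (Category.assoc _ _ _).symm.trans (congrArg (· ≫ _) ?_)
  exact (congrArg (_ ≫ ·) e2).trans ((Category.assoc _ _ _).symm.trans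
    ((congrArg (· ≫ _) hu).trans (Category.id_comp _)))

section Stage

variable (i₀ : ι) (B : (Ss.obj (op i₀)).Etale) {i : ι} (V₀ : (Ss.obj (op i)).Etale)

/-- The morphism on stages induced by a morphism of étale schemes. -/
noncomputable def stageMap (j : After i₀) (hij : i ≤ j.1) (π : (laterV i₀ B j).left ⟶ V₀.left)
    (hπ : π ≫ V₀.hom = (laterV i₀ B j).hom ≫ trn Ss hij) :
    (laterU gN i₀ B j).left ⟶ ((EtCoh.bc (gN.app (op i))).obj V₀).left :=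
  pullback.lift (pullback.fst (laterV i₀ B j).hom (gN.app (op j.1)) ≫ π)
    ((laterU gN i₀ B j).hom ≫ trn Ts hij)
    ((Category.assoc _ _ _).trans ((congrArg (_ ≫ ·) hπ).trans ((Category.assoc _ _ _).symm.trans
      ((congrArg (· ≫ trn Ss hij) pullback.condition).trans ((Category.assoc _ _ _).trans
        ((congrArg (_ ≫ ·) (trn_gN gN hij).symm).trans (Category.assoc _ _ _).symm))))))

omit [Nonempty ι] [IsDirectedOrder ι] in
lemma stageMap_fst (j : After i₀) (hij : i ≤ j.1) (π : (laterV i₀ B j).left ⟶ V₀.left)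
    (hπ : π ≫ V₀.hom = (laterV i₀ B j).hom ≫ trn Ss hij) :
    stageMap gN i₀ B V₀ j hij π hπ ≫ pullback.fst V₀.hom (gN.app (op i)) =
      pullback.fst (laterV i₀ B j).hom (gN.app (op j.1)) ≫ π :=
  pullback.lift_fst _ _ _

lemma stageMap_snd (j : After i₀) (hij : i ≤ j.1) (π : (laterV i₀ B j).left ⟶ V₀.left)
    (hπ : π ≫ V₀.hom = (laterV i₀ B j).hom ≫ trn Ss hij) :
    stageMap gN i₀ B V₀ j hij π hπ ≫ ((EtCoh.bc (gN.app (op i))).obj V₀).hom =
      (laterU gN i₀ B j).hom ≫ trn Ts hij :=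
  pullback.lift_snd _ _ _

/-- The induced morphism of sheaves. -/
noncomputable def stagePull (j : After i₀) (hij : i ≤ j.1) (π : (laterV i₀ B j).left ⟶ V₀.left)
    (hπ : π ≫ V₀.hom = (laterV i₀ B j).hom ≫ trn Ss hij) :
    CHom ((EtCoh.pull ((EtCoh.bc (gN.app (op i))).obj V₀).hom).obj (F i)) (laterF gN i₀ B F j) :=
  ((transC F φ hij).comp (CHom.cart (laterU gN i₀ B j).hom (F j.1))).factor
    ((EtCoh.bc (gN.app (op i))).obj V₀).hom (stageMap gN i₀ B V₀ j hij π hπ)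
    (stageMap_snd gN i₀ B V₀ j hij π hπ)

lemma later_π {j k : After i₀} (h : j ≤ k) (hij : i ≤ j.1) {π : (laterV i₀ B j).left ⟶ V₀.left}
    (hπ : π ≫ V₀.hom = (laterV i₀ B j).hom ≫ trn Ss hij) :
    (laterVMap i₀ B h ≫ π) ≫ V₀.hom =
      (laterV i₀ B k).hom ≫ trn Ss (hij.trans (h : j.1 ≤ k.1)) :=
  (Category.assoc _ _ _).trans ((congrArg (_ ≫ ·) hπ).trans ((Category.assoc _ _ _).symm.trans
    ((congrArg (· ≫ _) (laterVMap_snd i₀ B h)).trans ((Category.assoc _ _ _).trans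
      (congrArg (_ ≫ ·) (trn_trn Ss hij _))))))

lemma laterMap_stageMap {j k : After i₀} (h : j ≤ k) (hij : i ≤ j.1)
    (π : (laterV i₀ B j).left ⟶ V₀.left) (hπ : π ≫ V₀.hom = (laterV i₀ B j).hom ≫ trn Ss hij) :
    laterMap gN i₀ B h ≫ stageMap gN i₀ B V₀ j hij π hπ =
      stageMap gN i₀ B V₀ k (hij.trans h) (laterVMap i₀ B h ≫ π) (later_π i₀ B V₀ h hij hπ) := by
  refine pullback.hom_ext ?_ ?_
  · refine (Category.assoc _ _ _).trans ((congrArg (_ ≫ ·) (stageMap_fst gN i₀ B V₀ j hij π hπ)).trans ?_)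
    refine Eq.trans ?_ (stageMap_fst gN i₀ B V₀ k _ _ _).symm
    exact (Category.assoc _ _ _).symm.trans
      ((congrArg (· ≫ π) (laterMap_laterVMap gN i₀ B h)).trans (Category.assoc _ _ _))
  · refine (Category.assoc _ _ _).trans ((congrArg (_ ≫ ·) (stageMap_snd gN i₀ B V₀ j hij π hπ)).trans ?_)
    refine Eq.trans ?_ (stageMap_snd gN i₀ B V₀ k _ _ _).symm
    exact (Category.assoc _ _ _).symm.trans ((congrArg (· ≫ _) (laterMap_snd gN i₀ B h)).trans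
      ((Category.assoc _ _ _).trans (congrArg (_ ≫ ·) (trn_trn Ts hij _))))

include hφ in
lemma stagePull_trans {j k : After i₀} (h : j ≤ k) (hij : i ≤ j.1)
    (π : (laterV i₀ B j).left ⟶ V₀.left) (hπ : π ≫ V₀.hom = (laterV i₀ B j).hom ≫ trn Ss hij) :
    (stagePull gN F φ i₀ B V₀ j hij π hπ).comp (laterTrans gN i₀ B F φ h) =
      stagePull gN F φ i₀ B V₀ k (hij.trans h) (laterVMap i₀ B h ≫ π) (later_π i₀ B V₀ h hij hπ) :=
  (CHom.lift_comp (transC F φ hij) (transC F φ (h : j.1 ≤ k.1)) _ _ _ _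
    (stageMap_snd gN i₀ B V₀ j hij π hπ) _ (laterMap_snd gN i₀ B h) _
    (laterMap_stageMap gN i₀ B V₀ h hij π hπ)
    ((stageMap_snd gN i₀ B V₀ k _ _ _).trans (congrArg (_ ≫ ·) (trn_trn Ts hij _).symm))).trans
    (CHom.factor_congr (congrArg (fun f => CHom.comp f _) (transC_comp F φ hφ hij _)) _ _ _ _)

/-- The morphism from the limit to a stage. -/
noncomputable def limStageMap (r : (limV i₀ B cS).left ⟶ V₀.left)
    (hr : r ≫ V₀.hom = (limV i₀ B cS).hom ≫ proj Ss cS i) :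
    (limU i₀ B cT cS g).left ⟶ ((EtCoh.bc (gN.app (op i))).obj V₀).left :=
  pullback.lift (pullback.fst (limV i₀ B cS).hom g ≫ r) ((limU i₀ B cT cS g).hom ≫ proj Ts cT i)
    ((Category.assoc _ _ _).trans ((congrArg (_ ≫ ·) hr).trans ((Category.assoc _ _ _).symm.trans
      ((congrArg (· ≫ proj Ss cS i) pullback.condition).trans ((Category.assoc _ _ _).trans
        ((congrArg (_ ≫ ·) (hg i)).trans (Category.assoc _ _ _).symm))))))

lemma limStageMap_fst (r : (limV i₀ B cS).left ⟶ V₀.left)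
    (hr : r ≫ V₀.hom = (limV i₀ B cS).hom ≫ proj Ss cS i) :
    limStageMap gN cT cS g hg i₀ B V₀ r hr ≫ pullback.fst V₀.hom (gN.app (op i)) =
      pullback.fst (limV i₀ B cS).hom g ≫ r :=
  pullback.lift_fst _ _ _

lemma limStageMap_snd (r : (limV i₀ B cS).left ⟶ V₀.left)
    (hr : r ≫ V₀.hom = (limV i₀ B cS).hom ≫ proj Ss cS i) :
    limStageMap gN cT cS g hg i₀ B V₀ r hr ≫ ((EtCoh.bc (gN.app (op i))).obj V₀).hom =
      (limU i₀ B cT cS g).hom ≫ proj Ts cT i :=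
  pullback.lift_snd _ _ _

include hψ in
lemma stagePull_lim (j : After i₀) (hij : i ≤ j.1) (π : (laterV i₀ B j).left ⟶ V₀.left)
    (hπ : π ≫ V₀.hom = (laterV i₀ B j).hom ≫ trn Ss hij) (r : (limV i₀ B cS).left ⟶ V₀.left)
    (hr : r ≫ V₀.hom = (limV i₀ B cS).hom ≫ proj Ss cS i) (e : limVProj i₀ B cS j ≫ π = r) :
    (stagePull gN F φ i₀ B V₀ j hij π hπ).comp (laterLim gN i₀ B cT cS g hg F G ψ j) =
      ((limC F cT G ψ i).comp (CHom.cart (limU i₀ B cT cS g).hom (colimit G))).factor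
        ((EtCoh.bc (gN.app (op i))).obj V₀).hom (limStageMap gN cT cS g hg i₀ B V₀ r hr)
        (limStageMap_snd gN cT cS g hg i₀ B V₀ r hr) := by
  refine (CHom.lift_comp (transC F φ hij) (limC F cT G ψ j.1) _ _ _ _
    (stageMap_snd gN i₀ B V₀ j hij π hπ) _ (limProj_snd gN i₀ B cT cS g hg j)
    (limStageMap gN cT cS g hg i₀ B V₀ r hr) ?_ ?_).trans
    (CHom.factor_congr (congrArg (fun f => CHom.comp f _) (limC_comp F φ cT G ψ hψ hij)) _ _ _ _)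
  · refine pullback.hom_ext ?_ ?_
    · refine (Category.assoc _ _ _).trans ((congrArg (_ ≫ ·) (stageMap_fst gN i₀ B V₀ j hij π hπ)).trans ?_)
      refine Eq.trans ?_ (limStageMap_fst gN cT cS g hg i₀ B V₀ r hr).symm
      exact (Category.assoc _ _ _).symm.trans ((congrArg (· ≫ π) (limProj_limVProj gN i₀ B cS cT g hg j)).trans
        ((Category.assoc _ _ _).trans (congrArg (_ ≫ ·) e)))
    · refine (Category.assoc _ _ _).trans ((congrArg (_ ≫ ·) (stageMap_snd gN i₀ B V₀ j hij π hπ)).trans ?_)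
      refine Eq.trans ?_ (limStageMap_snd gN cT cS g hg i₀ B V₀ r hr).symm
      exact (Category.assoc _ _ _).symm.trans ((congrArg (· ≫ _) (limProj_snd gN i₀ B cT cS g hg j)).trans
        ((Category.assoc _ _ _).trans (congrArg (_ ≫ ·) (proj_trn Ts cT hij))))
  · exact (limStageMap_snd gN cT cS g hg i₀ B V₀ r hr).trans
      (congrArg (_ ≫ ·) (proj_trn Ts cT hij).symm)

/-- A class vanishing after restriction vanishes on the limit. -/
lemma lim_class_zero {z₀ : ((injResn (injectiveResolution (F i))).X q).obj.obj (op ((EtCoh.bc (gN.app (op i))).obj V₀))}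
    (hz : ((injResn (injectiveResolution (F i))).d q).hom.app (op ((EtCoh.bc (gN.app (op i))).obj V₀)) z₀ = 0)
    {V' : cS.pt.Etale} (n : limV i₀ B cS ⟶ V') (m : V' ⟶ limV i V₀ cS)
    (hA : ((injResn (injectiveResolution (colimit G))).d q).hom.app
      (op ((EtCoh.bc g).obj ((EtCoh.bc (toLimS gN cT cS g hg F G ψ i).bS).obj V₀)))
        ((toLimS gN cT cS g hg F G ψ i).stCycle q z₀) = 0)
    (hcls : (injResn (injectiveResolution (colimit G))).clsAt ((toLimS gN cT cS g hg F G ψ i).stCycle q z₀) hA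
      (limU i₀ B cT cS g).hom (((EtCoh.bc g).map n).left ≫ ((EtCoh.bc g).map m).left)
      (lift_w _ (MorphismProperty.Over.w ((EtCoh.bc g).map n))) = 0)
    (r : (limV i₀ B cS).left ⟶ V₀.left) (hr : r ≫ V₀.hom = (limV i₀ B cS).hom ≫ proj Ss cS i)
    (er : r = (n.left ≫ m.left) ≫ pullback.fst V₀.hom (proj Ss cS i)) :
    (((limC F cT G ψ i).comp (CHom.cart (limU i₀ B cT cS g).hom (colimit G))).factor
        ((EtCoh.bc (gN.app (op i))).obj V₀).hom (limStageMap gN cT cS g hg i₀ B V₀ r hr)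
        (limStageMap_snd gN cT cS g hg i₀ B V₀ r hr)).H q
      ((injResn (injectiveResolution (F i))).clsAt z₀ hz
        ((EtCoh.bc (gN.app (op i))).obj V₀).hom (𝟙 _) (Category.id_comp _)) = 0 := by
  refine ((toLimS gN cT cS g hg F G ψ i).clsAt_stCycle' hz hA (limU i₀ B cT cS g).hom
    (((EtCoh.bc g).map n).left ≫ ((EtCoh.bc g).map m).left)
    (lift_w _ (MorphismProperty.Over.w ((EtCoh.bc g).map n)))
    (limStageMap gN cT cS g hg i₀ B V₀ r hr) (limStageMap_snd gN cT cS g hg i₀ B V₀ r hr) ?_).symm.trans hcls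
  exact (limStageMap_fst gN cT cS g hg i₀ B V₀ r hr).trans (map₂_chase
    (EtCoh.isPullback_bc_map g n).w (EtCoh.isPullback_bc_map g m).w er)

/-- Vanishing of the class at a stage gives vanishing in the stalk. -/
lemma vanish_of_trans {z₀ : ((injResn (injectiveResolution (F i))).X q).obj.obj (op ((EtCoh.bc (gN.app (op i))).obj V₀))}
    {y : (EtCoh.stalk (η ≫ proj Ss cS i)).obj ((EtCoh.Rpush (gN.app (op i)) q).obj (F i))}
    {t₀ : (Scheme.pointSmallEtale (η ≫ proj Ss cS i)).fiber.obj V₀}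
    (hrep : Rep (gN.app (op i)) (injectiveResolution (F i)) (η ≫ proj Ss cS i) q V₀ t₀ z₀ y)
    (j : After i₀) (hij : i ≤ j.1) (π : (laterV i₀ B j).left ⟶ V₀.left)
    (hπ : π ≫ V₀.hom = (laterV i₀ B j).hom ≫ trn Ss hij)
    (s : (Scheme.pointSmallEtale (η ≫ proj Ss cS j.1)).fiber.obj (laterV i₀ B j)) (hs : s.left ≫ π = t₀.left)
    (h0 : (stagePull gN F φ i₀ B V₀ j hij π hπ).H q
      ((injResn (injectiveResolution (F i))).clsAt z₀ hrep.cycle
        ((EtCoh.bc (gN.app (op i))).obj V₀).hom (𝟙 _) (Category.id_comp _)) = 0) :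
    (transS gN F φ hij).st (η ≫ proj Ss cS j.1) (η ≫ proj Ss cS i) (pt_trn cS η hij) q y = 0 := by
  let Ψ : laterV i₀ B j ⟶ (EtCoh.bc (trn Ss hij)).obj V₀ :=
    MorphismProperty.Over.homMk
      (pullback.lift π (laterV i₀ B j).hom hπ : (laterV i₀ B j).left ⟶ pullback V₀.hom (trn Ss hij))
      (pullback.lift_snd _ _ _)
  have hΨ : Ψ.left ≫ pullback.fst V₀.hom (trn Ss hij) = π := pullback.lift_fst _ _ _
  let t₂ := (Scheme.pointSmallEtale (η ≫ proj Ss cS j.1)).fiber.map Ψ s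
  have ht₂ : t₂.left ≫ pullback.fst V₀.hom (trn Ss hij) = t₀.left :=
    (Category.assoc _ _ _).trans ((congrArg (_ ≫ ·) hΨ).trans hs)
  have hB := (transS gN F φ hij).st_rep (pt_trn cS η hij) hrep t₂ ht₂
  have hB' := hB.res Ψ s rfl
  refine eq_zero_of_cls _ _ hB' hB'.cycle ?_
  refine ((injResn (injectiveResolution (F j.1))).clsAt_res
    (W := (EtCoh.bc (gN.app (op j.1))).obj ((EtCoh.bc (trn Ss hij)).obj V₀))
    (p := (laterU gN i₀ B j).hom) (hm := MorphismProperty.Over.w _) hB.cycle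
    ((EtCoh.bc (gN.app (op j.1))).map Ψ) (𝟙 _) (Category.id_comp _) (Category.id_comp _) hB'.cycle).trans ?_
  refine ((transS gN F φ hij).clsAt_stCycle' hrep.cycle hB.cycle (laterU gN i₀ B j).hom _
    (MorphismProperty.Over.w _)
    (stageMap gN i₀ B V₀ j hij π hπ) (stageMap_snd gN i₀ B V₀ j hij π hπ) ?_).trans h0
  exact (stageMap_fst gN i₀ B V₀ j hij π hπ).trans
    (map_chase (EtCoh.isPullback_bc_map (gN.app (op j.1)) Ψ).w hΨ)

end Stage

include hφ hψ in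
/-- An element vanishing at the limit vanishes at a stage. -/
theorem stalk_limit_inj (hcT : IsLimit cT) (hcS : IsLimit cS) (i : ι)
    (y : (EtCoh.stalk (η ≫ proj Ss cS i)).obj ((EtCoh.Rpush (gN.app (op i)) q).obj (F i)))
    (hy : (toLimS gN cT cS g hg F G ψ i).st η (η ≫ proj Ss cS i) rfl q y = 0) :
    ∃ (k : ι) (h : i ≤ k),
      (transS gN F φ h).st (η ≫ proj Ss cS k) (η ≫ proj Ss cS i) (pt_trn cS η h) q y = 0 := by
  obtain ⟨V₀, t₀, z₀, hrep⟩ := exists_rep (gN.app (op i)) (injectiveResolution (F i)) (η ≫ proj Ss cS i) q y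
  let t' := pushLift (proj Ss cS i) η rfl V₀ t₀
  have ht' : t'.left ≫ pullback.fst V₀.hom (proj Ss cS i) = t₀.left := pushLift_fst _ _ _ _ _
  have hA₀ := (toLimS gN cT cS g hg F G ψ i).st_rep rfl hrep t' ht'
  have hA := (congrArg (Rep g (injectiveResolution (colimit G)) η q _ t'
    ((toLimS gN cT cS g hg F G ψ i).stCycle q z₀)) hy).mp hA₀
  obtain ⟨V', m, t'', htm, hcls⟩ := exists_cls_eq_zero g _ hA hA.cycle
  obtain ⟨b, n, hb, v, hv⟩ := exists_affine_nhd hcS V' (fiberPoint η t'')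
  obtain ⟨s, hs, -⟩ := exists_fiber_lift η n t'' v hv
  obtain ⟨i₀, B⟩ := b
  haveI : IsAffine B.left := hb
  obtain ⟨j₁, hik, π₁, hπ₁, hstar⟩ := exists_descend cS hcS i₀ B V₀ (n ≫ m)
  have hr : ((n ≫ m).left ≫ pullback.fst V₀.hom (proj Ss cS i)) ≫ V₀.hom =
      (limV i₀ B cS).hom ≫ proj Ss cS i :=
    (Category.assoc _ _ _).trans ((congrArg (_ ≫ ·) pullback.condition).trans
      ((Category.assoc _ _ _).symm.trans (congrArg (· ≫ _) (MorphismProperty.Over.w (n ≫ m)))))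
  let x₀ := (injResn (injectiveResolution (F i))).clsAt z₀ hrep.cycle
    ((EtCoh.bc (gN.app (op i))).obj V₀).hom (𝟙 _) (Category.id_comp _)
  let f₁ := stagePull gN F φ i₀ B V₀ j₁ hik π₁ hπ₁
  have hzero : (laterLim gN i₀ B cT cS g hg F G ψ j₁).H q (f₁.H q x₀) = 0 :=
    (CHom.H_comp f₁ (laterLim gN i₀ B cT cS g hg F G ψ j₁) q x₀).symm.trans
      ((congrArg (fun f : CHom _ _ => f.H q x₀)
        (stagePull_lim gN cT cS g hg F φ G ψ hψ i₀ B V₀ j₁ hik π₁ hπ₁ _ hr hstar)).trans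
        (lim_class_zero gN cT cS g hg F G ψ q i₀ B V₀ hrep.cycle n m hA.cycle
          (hcls (limU i₀ B cT cS g).hom ((EtCoh.bc g).map n).left (MorphismProperty.Over.w _)) _ hr rfl))
  obtain ⟨j₂, h₁₂, hy₂⟩ := (slice_colimit gN i₀ B cT cS g hg F φ hφ G ψ hψ hcT q).2 j₁ (f₁.H q x₀) hzero
  refine ⟨j₂.1, hik.trans h₁₂, vanish_of_trans gN cS F φ η q i₀ B V₀ hrep j₂ _ _
    (later_π i₀ B V₀ h₁₂ hik hπ₁)
    (ptDown (proj Ss cS j₂.1) rfl (laterV i₀ B j₂)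
      ((Scheme.pointSmallEtale η).fiber.map (limToLater i₀ B cS j₂) s)) ?_ ?_⟩
  · exact pt_chase (congrArg (fun r => r.left) hs) (congrArg (fun r => r.left) htm) ht'
      (limVProj_laterVMap i₀ B cS h₁₂) hstar
  · exact (congrArg (fun f : CHom _ _ => f.H q x₀)
      (stagePull_trans gN F φ hφ i₀ B V₀ h₁₂ hik π₁ hπ₁)).symm.trans
      ((CHom.H_comp f₁ (laterTrans gN i₀ B F φ h₁₂) q x₀).trans hy₂)

end Groth.EtaleBase.EtLimit
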