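import Groth.Agent.EtaleBase.Limit.Slice
import Groth.Agent.EtaleBase.Limit.HpullFunctorial
import Groth.Agent.EtaleBase.Limit.AffineDescent

/-!
Auxiliary morphisms for stalks of higher direct images of a limit.
-/

set_option autoImplicit false

universe u

open CategoryTheory CategoryTheory.Limits CategoryTheory.Abelian AlgebraicGeometry Opposite

namespace Groth.EtaleBase.EtLimit

attribute [local instance] pull_preservesFiniteLimits

section Points

variable {S S' : Scheme.{u}} {Ω : Type u} [Field Ω] [IsSepClosed Ω]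
  {ξ : Spec (CommRingCat.of Ω) ⟶ S'} {η : Spec (CommRingCat.of Ω) ⟶ S}

/-- The image of a point of a base change. -/
noncomputable def ptDown (bS : S' ⟶ S) (h : ξ ≫ bS = η) (V : S.Etale)
    (t : (Scheme.pointSmallEtale ξ).fiber.obj ((EtCoh.bc bS).obj V)) :
    (Scheme.pointSmallEtale η).fiber.obj V :=
  Over.homMk (t.left ≫ pullback.fst V.hom bS)
    ((Category.assoc _ _ _).trans ((congrArg (t.left ≫ ·) pullback.condition).trans
      ((Category.assoc _ _ _).symm.trans ((congrArg (· ≫ bS) (Over.w t)).trans h))))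

lemma ptDown_left (bS : S' ⟶ S) (h : ξ ≫ bS = η) (V : S.Etale)
    (t : (Scheme.pointSmallEtale ξ).fiber.obj ((EtCoh.bc bS).obj V)) :
    (ptDown bS h V t).left = t.left ≫ pullback.fst V.hom bS := rfl

lemma fiber_map_left' {X : Scheme.{u}} {ζ : Spec (CommRingCat.of Ω) ⟶ X} {W U : X.Etale} (f : W ⟶ U)
    (t : (Scheme.pointSmallEtale ζ).fiber.obj W) :
    ((Scheme.pointSmallEtale ζ).fiber.map f t).left = t.left ≫ f.left := rfl

end Points

lemma assoc_chase {C : Type*} [Category C] {P A B X Y B' : C} (m : P ⟶ A) {b : A ⟶ B} {f₁ : B ⟶ X}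
    {f₂ : X ⟶ Y} {a₁ : A ⟶ B'} {a₂ : B' ⟶ Y} (h : b ≫ f₁ ≫ f₂ = a₁ ≫ a₂) :
    ((m ≫ b) ≫ f₁) ≫ f₂ = (m ≫ a₁) ≫ a₂ := by
  rw [Category.assoc, Category.assoc, h, Category.assoc]

section Cycle

variable {T S T' S' : Scheme.{u}} {g : T ⟶ S} {F : EtCoh.Ab T} {g' : T' ⟶ S'} {F' : EtCoh.Ab T'}

/-- The class of the image cycle, with the comparison morphism given by its coordinates. -/
theorem SMor.clsAt_stCycle' (a : SMor g F g' F') {q : ℕ} {V : S.Etale}
    {z : ((injResn (injectiveResolution F)).X q).obj.obj (op ((EtCoh.bc g).obj V))}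
    (h : ((injResn (injectiveResolution F)).d q).hom.app (op ((EtCoh.bc g).obj V)) z = 0)
    (h' : ((injResn (injectiveResolution F')).d q).hom.app
      (op ((EtCoh.bc g').obj ((EtCoh.bc a.bS).obj V))) (a.stCycle q z) = 0)
    {P : Scheme.{u}} (p : P ⟶ T') (m : P ⟶ ((EtCoh.bc g').obj ((EtCoh.bc a.bS).obj V)).left)
    (hm : m ≫ ((EtCoh.bc g').obj ((EtCoh.bc a.bS).obj V)).hom = p)
    (k : P ⟶ ((EtCoh.bc g).obj V).left) (hk : k ≫ ((EtCoh.bc g).obj V).hom = p ≫ a.c.m)
    (hk₁ : k ≫ pullback.fst V.hom g =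
      (m ≫ pullback.fst (pullback.snd V.hom a.bS) g') ≫ pullback.fst V.hom a.bS) :
    (injResn (injectiveResolution F')).clsAt (a.stCycle q z) h' p m hm =
      ((a.c.comp (CHom.cart p F')).factor ((EtCoh.bc g).obj V).hom k hk).H q
        ((injResn (injectiveResolution F)).clsAt z h ((EtCoh.bc g).obj V).hom (𝟙 _) (Category.id_comp _)) := by
  refine a.clsAt_stCycle h h' p m hm k hk ?_
  refine pullback.hom_ext ?_ ?_
  · refine Eq.trans ?_ hk₁.symm
    exact assoc_chase m (bcSq_fst g a.bS g' a.c.m a.w V)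
  · refine Eq.trans ?_ hk.symm
    refine (Category.assoc _ _ _).trans ((congrArg (_ ≫ ·) pullback.condition).trans ?_)
    refine (Category.assoc _ _ _).symm.trans (congrArg (· ≫ a.c.m) ?_)
    exact (Category.assoc _ _ _).trans
      ((congrArg (m ≫ ·) (MorphismProperty.Over.w (bcSq g a.bS g' a.c.m a.w V))).trans hm)

end Cycle

section Maps

variable {ι : Type u} [Preorder ι] {Ts Ss : ιᵒᵖ ⥤ Scheme.{u}} (gN : Ts ⟶ Ss) (i₀ : ι)
  (V : (Ss.obj (op i₀)).Etale)

/-- The transition morphism of the étale schemes over later bases. -/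
noncomputable def laterVMap {j k : After i₀} (h : j ≤ k) : (laterV i₀ V k).left ⟶ (laterV i₀ V j).left :=
  pullback.lift (pullback.fst V.hom (trn Ss k.2))
    (pullback.snd V.hom (trn Ss k.2) ≫ trn Ss (h : j.1 ≤ k.1))
    (pullback.condition.trans ((congrArg (_ ≫ ·) (trn_trn Ss j.2 (h : j.1 ≤ k.1)).symm).trans
      (Category.assoc _ _ _).symm))

lemma laterVMap_fst {j k : After i₀} (h : j ≤ k) :
    laterVMap i₀ V h ≫ pullback.fst V.hom (trn Ss j.2) = pullback.fst V.hom (trn Ss k.2) :=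
  pullback.lift_fst _ _ _

lemma laterVMap_snd {j k : After i₀} (h : j ≤ k) :
    laterVMap i₀ V h ≫ (laterV i₀ V j).hom = (laterV i₀ V k).hom ≫ trn Ss (h : j.1 ≤ k.1) :=
  pullback.lift_snd _ _ _

lemma laterMap_laterVMap {j k : After i₀} (h : j ≤ k) :
    laterMap gN i₀ V h ≫ pullback.fst (laterV i₀ V j).hom (gN.app (op j.1)) =
      pullback.fst (laterV i₀ V k).hom (gN.app (op k.1)) ≫ laterVMap i₀ V h := by
  refine pullback.hom_ext ?_ ?_
  · exact ((Category.assoc _ _ _).trans (laterMap_fst gN i₀ V h)).trans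
      ((congrArg (_ ≫ ·) (laterVMap_fst i₀ V h)).symm.trans (Category.assoc _ _ _).symm)
  · refine (Category.assoc _ _ _).trans ((congrArg (_ ≫ ·) pullback.condition).trans ?_)
    refine ((Category.assoc _ _ _).symm.trans ((congrArg (· ≫ _) (laterMap_snd gN i₀ V h)).trans ?_))
    refine Eq.trans ?_ ((congrArg (_ ≫ ·) (laterVMap_snd i₀ V h)).symm.trans (Category.assoc _ _ _).symm)
    refine Eq.trans ?_ ((congrArg (· ≫ _) pullback.condition).symm.trans (Category.assoc _ _ _))
    exact (Category.assoc _ _ _).trans ((congrArg (_ ≫ ·) (trn_gN gN (h : j.1 ≤ k.1))).trans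
      (Category.assoc _ _ _).symm)

variable (cS : Cone Ss)

/-- The comparison of the étale scheme over the limit with the base change of a later one. -/
noncomputable def limToLater (j : After i₀) : limV i₀ V cS ⟶ (EtCoh.bc (proj Ss cS j.1)).obj (laterV i₀ V j) :=
  MorphismProperty.Over.homMk
    (pullback.lift
      (pullback.lift (pullback.fst V.hom (proj Ss cS i₀)) ((limV i₀ V cS).hom ≫ proj Ss cS j.1)
        (pullback.condition.trans ((congrArg (_ ≫ ·) (proj_trn Ss cS j.2).symm).trans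
          (Category.assoc _ _ _).symm)))
      (limV i₀ V cS).hom (pullback.lift_snd _ _ _) :
      (limV i₀ V cS).left ⟶ pullback (laterV i₀ V j).hom (proj Ss cS j.1))
    (pullback.lift_snd _ _ _)

/-- Its first component. -/
noncomputable def limVProj (j : After i₀) : (limV i₀ V cS).left ⟶ (laterV i₀ V j).left :=
  (limToLater i₀ V cS j).left ≫ pullback.fst (laterV i₀ V j).hom (proj Ss cS j.1)

lemma limVProj_fst (j : After i₀) :
    limVProj i₀ V cS j ≫ pullback.fst V.hom (trn Ss j.2) = pullback.fst V.hom (proj Ss cS i₀) :=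
  (congrArg (· ≫ _) (pullback.lift_fst _ _ _)).trans (pullback.lift_fst _ _ _)

lemma limVProj_snd (j : After i₀) :
    limVProj i₀ V cS j ≫ (laterV i₀ V j).hom = (limV i₀ V cS).hom ≫ proj Ss cS j.1 :=
  (congrArg (· ≫ _) (pullback.lift_fst _ _ _)).trans (pullback.lift_snd _ _ _)

lemma limVProj_laterVMap {j k : After i₀} (h : j ≤ k) :
    limVProj i₀ V cS k ≫ laterVMap i₀ V h = limVProj i₀ V cS j := by
  refine pullback.hom_ext ?_ ?_
  · exact (Category.assoc _ _ _).trans ((congrArg (_ ≫ ·) (laterVMap_fst i₀ V h)).trans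
      ((limVProj_fst i₀ V cS k).trans (limVProj_fst i₀ V cS j).symm))
  · refine (Category.assoc _ _ _).trans ((congrArg (_ ≫ ·) (laterVMap_snd i₀ V h)).trans ?_)
    refine (Category.assoc _ _ _).symm.trans ((congrArg (· ≫ _) (limVProj_snd i₀ V cS k)).trans ?_)
    exact (Category.assoc _ _ _).trans ((congrArg (_ ≫ ·) (proj_trn Ss cS (h : j.1 ≤ k.1))).trans
      (limVProj_snd i₀ V cS j).symm)

variable (cT : Cone Ts) (g : cT.pt ⟶ cS.pt) (hg : ∀ j, g ≫ proj Ss cS j = proj Ts cT j ≫ gN.app (op j))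

lemma limProj_limVProj (j : After i₀) :
    limProj gN i₀ V cT cS g hg j ≫ pullback.fst (laterV i₀ V j).hom (gN.app (op j.1)) =
      pullback.fst (limV i₀ V cS).hom g ≫ limVProj i₀ V cS j := by
  refine pullback.hom_ext ?_ ?_
  · exact ((Category.assoc _ _ _).trans (limProj_fst gN i₀ V cT cS g hg j)).trans
      ((congrArg (_ ≫ ·) (limVProj_fst i₀ V cS j)).symm.trans (Category.assoc _ _ _).symm)
  · refine (Category.assoc _ _ _).trans ((congrArg (_ ≫ ·) pullback.condition).trans ?_)
    refine ((Category.assoc _ _ _).symm.trans ((congrArg (· ≫ _) (limProj_snd gN i₀ V cT cS g hg j)).trans ?_))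
    refine Eq.trans ?_ ((congrArg (_ ≫ ·) (limVProj_snd i₀ V cS j)).symm.trans (Category.assoc _ _ _).symm)
    refine Eq.trans ?_ ((congrArg (· ≫ _) pullback.condition).symm.trans (Category.assoc _ _ _))
    exact (Category.assoc _ _ _).trans ((congrArg (_ ≫ ·) (hg j.1).symm).trans (Category.assoc _ _ _).symm)

end Maps

end Groth.EtaleBase.EtLimit
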