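import Groth.Agent.EtaleBase.Limit.StalkEtale

/-!
The base change morphism can be checked étale locally.
-/

set_option autoImplicit false

universe u

open CategoryTheory CategoryTheory.Limits AlgebraicGeometry Opposite

namespace Groth.EtaleBase.EtLimit

lemma isIso_stalk_bcQ_congr {X S S' X' : Scheme.{u}} (f : X ⟶ S) {g₁ g₂ : S' ⟶ S} (f' : X' ⟶ S')
    {e₁ e₂ : X' ⟶ X} (hg : g₁ = g₂) (he : e₁ = e₂) (w₁ : e₁ ≫ f = f' ≫ g₁) (w₂ : e₂ ≫ f = f' ≫ g₂)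
    [PreservesFiniteLimits (EtCoh.pull e₁)] [PreservesFiniteLimits (EtCoh.pull e₂)] (F : EtCoh.Ab X)
    {Ω : Type u} [Field Ω] [IsSepClosed Ω] (ξ : Spec (CommRingCat.of Ω) ⟶ S') (q : ℕ) :
    IsIso ((EtCoh.stalk ξ).map (EtBC.bcQ f g₁ f' e₁ w₁ q F)) ↔
      IsIso ((EtCoh.stalk ξ).map (EtBC.bcQ f g₂ f' e₂ w₂ q F)) := by
  subst hg he
  exact Iff.rfl

variable {X S Y T : Scheme.{u}} (f : X ⟶ S) (g : T ⟶ S) (h : Y ⟶ X) (e : Y ⟶ T)
  (c : IsPullback e h g f) [PreservesFiniteLimits (EtCoh.pull e)] (F : EtCoh.Ab T) (q : ℕ)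

/-- The base change morphism is bijective on stalks over a point with a local witness. -/
theorem bijective_stalkBC_of_local (U : X.Etale) (V : S.Etale) (a : U.left ⟶ V.left)
    (ha : a ≫ V.hom = U.hom ≫ f) {Ti Yi : Scheme.{u}} (gi : Ti ⟶ V.left) (ti : Ti ⟶ T)
    (cT : IsPullback ti gi g V.hom) (hi : Yi ⟶ U.left) (ei : Yi ⟶ Ti) (cY : IsPullback ei hi gi a)
    [PreservesFiniteLimits (EtCoh.pull ei)]
    (hloc : IsIso (EtBC.bcQ gi a hi ei cY.w q ((EtCoh.pull ti).obj F)))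
    {Ω : Type u} [Field Ω] [IsSepClosed Ω] (ξ : Spec (CommRingCat.of Ω) ⟶ U.left) :
    Function.Bijective (stalkBC g f h e c.w (𝟙 ((EtCoh.pull e).obj F)) (ξ ≫ U.hom) q) := by
  haveI : AlgebraicGeometry.Etale U.hom := U.prop
  haveI : AlgebraicGeometry.Etale V.hom := V.prop
  have big : IsPullback (ei ≫ ti) hi g (U.hom ≫ f) := ha ▸ cY.paste_horiz cT
  let y : Yi ⟶ Y := c.lift (ei ≫ ti) (hi ≫ U.hom) (big.w.trans (Category.assoc _ _ _).symm)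
  have hy : y ≫ e = ei ≫ ti := c.lift_fst _ _ _
  have hy2 : y ≫ h = hi ≫ U.hom := c.lift_snd _ _ _
  have cA : IsPullback y hi h U.hom := IsPullback.of_right (hy.symm ▸ big) hy2 c
  haveI := pull_preservesFiniteLimits y
  haveI := pull_preservesFiniteLimits ti
  haveI := pull_preservesFiniteLimits (y ≫ e)
  haveI := pull_preservesFiniteLimits (ei ≫ ti)
  let β₁ := 𝟙 ((EtCoh.pull y).obj ((EtCoh.pull e).obj F))
  let β₂ := 𝟙 ((EtCoh.pull ei).obj ((EtCoh.pull ti).obj F))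
  haveI i₁ : IsIso (coeffComp e y (𝟙 ((EtCoh.pull e).obj F)) β₁) := by
    unfold coeffComp; infer_instance
  haveI i₂ : IsIso (coeffComp ti ei (𝟙 ((EtCoh.pull ti).obj F)) β₂) := by
    unfold coeffComp; infer_instance
  have w₁ : (y ≫ e) ≫ g = hi ≫ U.hom ≫ f := (congrArg (· ≫ g) hy).trans big.w
  have w₂ : (ei ≫ ti) ≫ g = hi ≫ a ≫ V.hom := big.w.trans (congrArg (hi ≫ ·) ha.symm)
  have hB := bijective_stalkBC_etale cT (𝟙 ((EtCoh.pull ti).obj F)) (ξ ≫ a) q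
  have h2 : Function.Bijective
      (stalkBC g (a ≫ V.hom) hi (ei ≫ ti) w₂ (coeffComp ti ei (𝟙 _) β₂) ξ q) :=
    (funext fun x => stalkBC_comp g V.hom gi ti cT.w hi a ei cY.w w₂ (𝟙 _) β₂ ξ q x) ▸
      (bijective_stalkBC gi a hi ei cY.w ξ β₂ q hloc).comp hB
  have h1 : Function.Bijective
      (stalkBC g (U.hom ≫ f) hi (y ≫ e) w₁ (coeffComp e y (𝟙 _) β₁) ξ q) :=
    (bijective_stalkBC_iff _ _ _ _ w₁ ξ _ q).2
      ((isIso_stalk_bcQ_congr g hi ha hy.symm w₂ w₁ F ξ q).1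
        ((bijective_stalkBC_iff _ _ _ _ w₂ ξ _ q).1 h2))
  have hA := bijective_stalkBC_etale cA β₁ ξ q
  have hcomp : (stalkBC h U.hom hi y cA.w β₁ ξ q).hom ∘
      (stalkBC g f h e c.w (𝟙 ((EtCoh.pull e).obj F)) (ξ ≫ U.hom) q).hom =
      (stalkBC g (U.hom ≫ f) hi (y ≫ e) w₁ (coeffComp e y (𝟙 _) β₁) ξ q).hom :=
    funext fun x => stalkBC_comp g f h e c.w hi U.hom y cA.w w₁ (𝟙 _) β₁ ξ q x
  exact (Function.Bijective.of_comp_iff' hA _).1 (hcomp.symm ▸ h1)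

/-- Étale locality. -/
theorem isIso_bcQ_of_etale_local {ι : Type u} (U : ι → X.Etale) (hU : EtCoh.Covers U) (V : ι → S.Etale)
    (a : ∀ i, (U i).left ⟶ (V i).left) (ha : ∀ i, a i ≫ (V i).hom = (U i).hom ≫ f)
    (Ti Yi : ι → Scheme.{u}) (gi : ∀ i, Ti i ⟶ (V i).left) (ti : ∀ i, Ti i ⟶ T)
    (cT : ∀ i, IsPullback (ti i) (gi i) g (V i).hom)
    (hi : ∀ i, Yi i ⟶ (U i).left) (ei : ∀ i, Yi i ⟶ Ti i)
    (cY : ∀ i, IsPullback (ei i) (hi i) (gi i) (a i))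
    [∀ i, PreservesFiniteLimits (EtCoh.pull (ei i))]
    (hloc : ∀ i, IsIso (EtBC.bcQ (gi i) (a i) (hi i) (ei i) (cY i).w q ((EtCoh.pull (ti i)).obj F))) :
    IsIso (EtBC.bcQ g f h e c.w q F) := by
  refine isIso_bcQ g f h e c.w q fun s => ?_
  obtain ⟨i, v, hv⟩ := hU s
  subst hv
  obtain ⟨t, -⟩ := exists_geomPoint_lift (U i) v
  have hb := bijective_stalkBC_of_local f g h e c F q (U i) (V i) (a i) (ha i) (gi i) (ti i) (cT i) (hi i)
    (ei i) (cY i) (hloc i) t.left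
  have key : ∀ (η : Spec (CommRingCat.of _) ⟶ X) (_ : t.left ≫ (U i).hom = η),
      Function.Bijective (stalkBC g f h e c.w (𝟙 ((EtCoh.pull e).obj F)) η q) := fun η hη => hη ▸ hb
  exact key _ (Over.w t)

end Groth.EtaleBase.EtLimit
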