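import Groth.Agent.EtaleBase.Limit.StrictLoc
import Groth.Agent.EtaleBase.Limit.StalkEtale
import Groth.Agent.EtaleBase.Limit.StalkPush

/-!
Evaluation of the stalk of a higher direct image on the base change to the spectrum of a strictly
henselian ring, and its bijectivity for strict henselizations.
-/

set_option autoImplicit false

universe u

open CategoryTheory CategoryTheory.Limits CategoryTheory.Abelian AlgebraicGeometry Opposite IsLocalRing
open Groth.EtaleBase

namespace Groth.EtaleBase.EtLimit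

lemma sec_congr {P T : Scheme.{u}} (p : P ⟶ T) (W : T.Etale) {m m' : P ⟶ W.left} (e : m = m')
    (hm : m ≫ W.hom = p) (hm' : m' ≫ W.hom = p) (A : EtCoh.Ab T) :
    sec p W m hm A = sec p W m' hm' A := by subst e; rfl

variable {T S : Scheme.{u}} (g : T ⟶ S) (R : Type u) [CommRing R] [HenselianLocalRing R]
  [IsSepClosed (ResidueField R)] {Ω : Type u} [Field Ω] [IsSepClosed Ω] (ρ : R →+* Ω) [IsLocalHom ρ]
  (σ : Spec (CommRingCat.of R) ⟶ S) (η : Spec (CommRingCat.of Ω) ⟶ S) (hη : locPt R ρ ≫ σ = η)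
  {P : Scheme.{u}} (a : P ⟶ T) (b : P ⟶ Spec (CommRingCat.of R)) (hw : a ≫ g = b ≫ σ)

/-- The point of a base change of a neighbourhood. -/
noncomputable def evPt (V : S.Etale) (t : (Scheme.pointSmallEtale η).fiber.obj V) :
    P ⟶ ((EtCoh.bc g).obj V).left :=
  pullback.lift (b ≫ locLift R ρ σ η hη V t) a
    ((Category.assoc _ _ _).trans ((congrArg (b ≫ ·) (locLift_hom R ρ σ η hη V t)).trans hw.symm))

lemma evPt_hom (V : S.Etale) (t : (Scheme.pointSmallEtale η).fiber.obj V) :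
    evPt g R ρ σ η hη a b hw V t ≫ ((EtCoh.bc g).obj V).hom = a :=
  pullback.lift_snd _ _ _

lemma evPt_fst (V : S.Etale) (t : (Scheme.pointSmallEtale η).fiber.obj V) :
    evPt g R ρ σ η hη a b hw V t ≫ pullback.fst V.hom g = b ≫ locLift R ρ σ η hη V t :=
  pullback.lift_fst _ _ _

lemma evPt_map {V V' : S.Etale} (m : V' ⟶ V) (t' : (Scheme.pointSmallEtale η).fiber.obj V')
    {t : (Scheme.pointSmallEtale η).fiber.obj V} (ht : (Scheme.pointSmallEtale η).fiber.map m t' = t) :
    evPt g R ρ σ η hη a b hw V' t' ≫ ((EtCoh.bc g).map m).left = evPt g R ρ σ η hη a b hw V t := by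
  refine pullback.hom_ext ?_ ((Category.assoc _ _ _).trans ((congrArg (_ ≫ ·)
    (MorphismProperty.Over.w ((EtCoh.bc g).map m))).trans ((evPt_hom g R ρ σ η hη a b hw V' t').trans
      (evPt_hom g R ρ σ η hη a b hw V t).symm)))
  refine (Category.assoc _ _ _).trans ((congrArg (_ ≫ ·) (EtCoh.isPullback_bc_map g m).w).trans ?_)
  refine (Category.assoc _ _ _).symm.trans ((congrArg (· ≫ m.left)
    (evPt_fst g R ρ σ η hη a b hw V' t')).trans ?_)
  exact ((Category.assoc _ _ _).trans (congrArg (b ≫ ·) (locLift_map R ρ σ η hη m t' ht))).trans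
    (evPt_fst g R ρ σ η hη a b hw V t).symm

variable {F : EtCoh.Ab T}

/-- The class of a representative. -/
noncomputable abbrev evCls {q : ℕ} {V : S.Etale} (t : (Scheme.pointSmallEtale η).fiber.obj V)
    (z : ((injResn (injectiveResolution F)).X q).obj.obj (op ((EtCoh.bc g).obj V)))
    (h : ((injResn (injectiveResolution F)).d q).hom.app (op ((EtCoh.bc g).obj V)) z = 0) :
    EtCoh.H P ((EtCoh.pull a).obj F) q :=
  (injResn (injectiveResolution F)).clsAt z h a (evPt g R ρ σ η hη a b hw V t)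
    (evPt_hom g R ρ σ η hη a b hw V t)

lemma evCls_eq {q : ℕ} {e : (EtCoh.stalk η).obj ((EtCoh.Rpush g q).obj F)} {V₁ V₂ : S.Etale}
    {t₁ : (Scheme.pointSmallEtale η).fiber.obj V₁} {t₂ : (Scheme.pointSmallEtale η).fiber.obj V₂}
    {z₁ : ((injResn (injectiveResolution F)).X q).obj.obj (op ((EtCoh.bc g).obj V₁))}
    {z₂ : ((injResn (injectiveResolution F)).X q).obj.obj (op ((EtCoh.bc g).obj V₂))}
    (h₁ : Rep g (injectiveResolution F) η q V₁ t₁ z₁ e) (h₂ : Rep g (injectiveResolution F) η q V₂ t₂ z₂ e) :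
    evCls g R ρ σ η hη a b hw t₁ z₁ h₁.cycle = evCls g R ρ σ η hη a b hw t₂ z₂ h₂.cycle := by
  let I := injResn (injectiveResolution F)
  obtain ⟨V, p₁, p₂, t, ht₁, ht₂⟩ := exists_common_nbhd V₁ t₁ V₂ t₂
  have r₁ := h₁.res p₁ t ht₁
  have r₂ := h₂.res p₂ t ht₂
  have hd := r₁.sub r₂
  rw [sub_self] at hd
  obtain ⟨V', m, t', ht, hz⟩ := exists_cls_eq_zero g (injectiveResolution F) hd hd.cycle
  have e₁ := I.clsAt_res (hm := evPt_hom g R ρ σ η hη a b hw V₁ t₁) h₁.cycle _ _
    (evPt_hom g R ρ σ η hη a b hw V t) (evPt_map g R ρ σ η hη a b hw p₁ t ht₁) r₁.cycle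
  have e₂ := I.clsAt_res (hm := evPt_hom g R ρ σ η hη a b hw V₂ t₂) h₂.cycle _ _
    (evPt_hom g R ρ σ η hη a b hw V t) (evPt_map g R ρ σ η hη a b hw p₂ t ht₂) r₂.cycle
  refine e₁.symm.trans (Eq.trans (sub_eq_zero.1 ?_) e₂)
  refine (I.clsAt_sub r₁.cycle r₂.cycle hd.cycle).symm.trans ?_
  have hz' := hz a (evPt g R ρ σ η hη a b hw V' t') (evPt_hom g R ρ σ η hη a b hw V' t')
  have hev : ∀ (m₁ m₂ : P ⟶ ((EtCoh.bc g).obj V).left) (hm₁ : m₁ ≫ ((EtCoh.bc g).obj V).hom = a)
      (hm₂ : m₂ ≫ ((EtCoh.bc g).obj V).hom = a) (_ : m₁ = m₂),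
      I.clsAt _ hd.cycle a m₁ hm₁ = I.clsAt _ hd.cycle a m₂ hm₂ := by
    intros _ _ _ _ e; subst e; rfl
  exact (hev _ _ _ _ (evPt_map g R ρ σ η hη a b hw m t' ht).symm).trans hz'

lemma exists_eval (q : ℕ) (e : (EtCoh.stalk η).obj ((EtCoh.Rpush g q).obj F)) :
    ∃ x : EtCoh.H P ((EtCoh.pull a).obj F) q, ∀ (V : S.Etale) (t : (Scheme.pointSmallEtale η).fiber.obj V)
      (z : ((injResn (injectiveResolution F)).X q).obj.obj (op ((EtCoh.bc g).obj V)))
      (h : Rep g (injectiveResolution F) η q V t z e), evCls g R ρ σ η hη a b hw t z h.cycle = x := by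
  obtain ⟨V, t, z, h⟩ := exists_rep g (injectiveResolution F) η q e
  exact ⟨_, fun V' t' z' h' => evCls_eq g R ρ σ η hη a b hw h' h⟩

/-- Evaluation. -/
noncomputable def eval (q : ℕ) :
    (EtCoh.stalk η).obj ((EtCoh.Rpush g q).obj F) →+ EtCoh.H P ((EtCoh.pull a).obj F) q :=
  AddMonoidHom.ofMapSub (fun e => (exists_eval g R ρ σ η hη a b hw q e).choose) fun e₁ e₂ => by
    let I := injResn (injectiveResolution F)
    obtain ⟨V₁, t₁, z₁, h₁⟩ := exists_rep g (injectiveResolution F) η q e₁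
    obtain ⟨V₂, t₂, z₂, h₂⟩ := exists_rep g (injectiveResolution F) η q e₂
    obtain ⟨V, p₁, p₂, t, ht₁, ht₂⟩ := exists_common_nbhd V₁ t₁ V₂ t₂
    have r₁ := h₁.res p₁ t ht₁
    have r₂ := h₂.res p₂ t ht₂
    rw [← (exists_eval g R ρ σ η hη a b hw q (e₁ - e₂)).choose_spec _ _ _ (r₁.sub r₂),
      ← (exists_eval g R ρ σ η hη a b hw q e₁).choose_spec _ _ _ r₁,
      ← (exists_eval g R ρ σ η hη a b hw q e₂).choose_spec _ _ _ r₂]
    exact I.clsAt_sub r₁.cycle r₂.cycle (r₁.sub r₂).cycle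

/-- Evaluation of a representative. -/
theorem eval_rep {q : ℕ} {e : (EtCoh.stalk η).obj ((EtCoh.Rpush g q).obj F)} {V : S.Etale}
    {t : (Scheme.pointSmallEtale η).fiber.obj V}
    {z : ((injResn (injectiveResolution F)).X q).obj.obj (op ((EtCoh.bc g).obj V))}
    (h : Rep g (injectiveResolution F) η q V t z e) :
    eval g R ρ σ η hη a b hw q e = evCls g R ρ σ η hη a b hw t z h.cycle :=
  ((exists_eval g R ρ σ η hη a b hw q e).choose_spec V t z h).symm

section Bijective

variable {s : S} [Algebra (S.presheaf.stalk s) R] [IsLocalHom (algebraMap (S.presheaf.stalk s) R)]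
  [Hensel.IsStrictHenselization (S.presheaf.stalk s) R] [QuasiCompact g] [QuasiSeparated g]
  (hη' : locPt R ρ ≫ Hens2.specOf S s R = η) (hP : IsPullback a b g (Hens2.specOf S s R))

set_option synthInstance.maxHeartbeats 400000 in
/-- For a strict henselization, evaluation is bijective. -/
theorem bijective_eval (q : ℕ) :
    Function.Bijective (eval (F := F) g R ρ (Hens2.specOf S s R) η hη' a b hP.w q) := by
  obtain ⟨ι, _, _, _, K, _, hK⟩ := exists_affine_system η
  haveI := hK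
  let V := nbhdSystem η K
  haveI : ∀ p, IsAffine (V.obj p).left := fun p => hK p.unop
  let σ₀ := Hens2.specOf S s R
  let cV := liftCone R ρ σ₀ η hη' K
  let hcV : IsLimit cV := isLimitLiftCone R ρ η hη' K
  have hσ : ∀ j, cV.π.app (op j) ≫ struct V j = σ₀ := liftCone_hom R ρ σ₀ η hη' K
  let c₀ := bcCone g V cV σ₀ hσ
  let iP : P ⟶ c₀.pt := hP.isoPullback.hom
  haveI : IsIso iP := inferInstanceAs (IsIso hP.isoPullback.hom)
  let c : Cone (schemes (V ⋙ EtCoh.bc g)) := c₀.extend iP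
  let hc : IsLimit c := @IsLimit.extendIso _ _ _ _ _ _ _ iP ‹IsIso iP› (isLimitBcCone g V cV σ₀ hσ hcV)
  have hm : ∀ j, proj (schemes (V ⋙ EtCoh.bc g)) c j =
      evPt g R ρ σ₀ η hη' a b hP.w (K.obj j).unop.1 (K.obj j).unop.2 := fun j => by
    refine pullback.hom_ext ?_ ?_
    · refine ((Category.assoc _ _ _).trans ((congrArg (hP.isoPullback.hom ≫ ·) (pullback.lift_fst _ _ _)).trans
        ((Category.assoc _ _ _).symm.trans (congrArg (· ≫ cV.π.app (op j)) hP.isoPullback_hom_snd)))).trans ?_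
      exact (evPt_fst g R ρ σ₀ η hη' a b hP.w _ _).symm
    · exact ((Category.assoc _ _ _).trans ((congrArg (hP.isoPullback.hom ≫ ·) (pullback.lift_snd _ _ _)).trans
        hP.isoPullback_hom_fst)).trans (evPt_hom g R ρ σ₀ η hη' a b hP.w _ _).symm
  have hg : ∀ j, proj (schemes (V ⋙ EtCoh.bc g)) c j ≫ struct (V ⋙ EtCoh.bc g) j = a := fun j =>
    (congrArg (· ≫ struct (V ⋙ EtCoh.bc g) j) (hm j)).trans (evPt_hom g R ρ σ₀ η hη' a b hP.w _ _)
  haveI : ∀ p, PreservesFiniteLimits (EtCoh.pull (c.π.app p)) := fun p => pull_preservesFiniteLimits _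
  haveI : ∀ ⦃p p' : ιᵒᵖ⦄ (h : p ⟶ p'),
      PreservesFiniteLimits (EtCoh.pull ((schemes (V ⋙ EtCoh.bc g)).map h)) :=
    fun p p' h => pull_preservesFiniteLimits _
  let I := injResn (injectiveResolution F)
  have hacyc : ∀ n k, Subsingleton (EtCoh.H P ((I.pullback a).X n) (k + 1)) := fun n k => by
    haveI : Injective (I.X n) := (injectiveResolution F).injective n
    exact H_pull_injective (V ⋙ EtCoh.bc g) c a hg hc (I.X n) k
  let W : ι → T.Etale := fun j => (EtCoh.bc g).obj (K.obj j).unop.1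
  have hsec : ∀ (j : ι) (A : EtCoh.Ab T) (y : A.obj.obj (op (W j))),
      sectTo (V ⋙ EtCoh.bc g) c a hg j A y =
        sec a (W j) (evPt g R ρ σ₀ η hη' a b hP.w _ _) (evPt_hom g R ρ σ₀ η hη' a b hP.w _ _) A y :=
    fun j A y => ConcreteCategory.congr_hom
      (sec_congr a (W j) (hm j) (hg j) (evPt_hom g R ρ σ₀ η hη' a b hP.w _ _) A) y
  have hW : ∀ {j k : ι} (h : j ≤ k), (Scheme.pointSmallEtale η).fiber.map (K.map (homOfLE h)).unop.1
      (K.obj k).unop.2 = (K.obj j).unop.2 := fun {j k} h => (K.map (homOfLE h)).unop.2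
  refine ⟨(injective_iff_map_eq_zero _).2 fun e he => ?_, fun x => ?_⟩
  · obtain ⟨V₀, t₀, z, hz⟩ := exists_rep g (injectiveResolution F) η q e
    haveI : IsConnected (StructuredArrow (op (Functor.elementsMk (Scheme.pointSmallEtale η).fiber V₀ t₀)) K) := Functor.Final.out _
    obtain ⟨arr⟩ := (inferInstance : Nonempty (StructuredArrow (op (Functor.elementsMk (Scheme.pointSmallEtale η).fiber V₀ t₀)) K))
    let i := arr.right
    have r := hz.res arr.hom.unop.1 (K.obj i).unop.2 arr.hom.unop.2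
    rw [eval_rep g R ρ σ₀ η hη' a b hP.w r] at he
    change (I.pullback a).scls q _ _ = 0 at he
    cases q with
    | zero =>
      have hs := (I.pullback a).scls_zero_eq_zero _ _ he
      obtain ⟨k, hk, hzk⟩ := exists_sectTo_eq_zero (V ⋙ EtCoh.bc g) c a hg hc (I.X 0) i _
        ((hsec i _ _).trans hs)
      have rk := r.res _ _ (hW hk)
      exact rk.unique ((congrArg (fun z => Rep g (injectiveResolution F) η 0 (K.obj k).unop.1
        (K.obj k).unop.2 z 0) hzk).mpr (rep_zero_self g (injectiveResolution F) _))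
    | succ n =>
      obtain ⟨s', hs'⟩ := (I.pullback a).exists_sboundary n hacyc _ _ he
      obtain ⟨j, y, hy⟩ := exists_sectTo_eq (V ⋙ EtCoh.bc g) c a hg hc (I.X n) s'
      obtain ⟨k, hi, hj⟩ := exists_ge_ge i j
      let W' := V ⋙ EtCoh.bc g
      let zk := (I.X (n + 1)).obj.map (W'.map (homOfLE hi).op).op
        (((injResn (injectiveResolution F)).X (n + 1)).obj.map ((EtCoh.bc g).map arr.hom.unop.1).op z)
      let bk := (I.X n).obj.map (W'.map (homOfLE hj).op).op y
      have h0 : sectTo W' c a hg k (I.X (n + 1))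
          (zk - (I.d n).hom.app (op (W'.obj (op k))) bk) = 0 := by
        rw [map_sub, sub_eq_zero]
        refine (sectTo_res W' c a hg hi _ _).trans (((hsec i _ _).trans hs'.symm).trans ?_)
        refine Eq.trans ?_ (sectTo_map W' c a hg k (I.d n) bk).symm
        exact congrArg (((I.pullback a).d n).hom.app (op (EtCoh.top P)))
          (hy.symm.trans (sectTo_res W' c a hg hj _ y).symm)
      obtain ⟨l, hl, hzl⟩ := exists_sectTo_eq_zero W' c a hg hc (I.X (n + 1)) k _ h0
      have rk := ((r.res _ _ (hW hi)).sub (rep_boundary g (injectiveResolution F) η n _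
        (K.obj k).unop.2 bk)).res _ _ (hW hl)
      rw [sub_zero] at rk
      exact rk.unique ((congrArg (fun z => Rep g (injectiveResolution F) η (n + 1) (K.obj l).unop.1
        (K.obj l).unop.2 z 0) hzl).mpr (rep_zero_self g (injectiveResolution F) _))
  · obtain ⟨s', hs', rfl⟩ := (I.pullback a).exists_scls_eq q hacyc x
    let W' := V ⋙ EtCoh.bc g
    obtain ⟨j, y, hy⟩ := exists_sectTo_eq W' c a hg hc (I.X q) s'
    have h0 : sectTo W' c a hg j (I.X (q + 1)) ((I.d q).hom.app (op (W'.obj (op j))) y) = 0 :=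
      (sectTo_map W' c a hg j (I.d q) y).trans ((congrArg _ hy).trans hs')
    obtain ⟨k, hk, hzk⟩ := exists_sectTo_eq_zero W' c a hg hc (I.X (q + 1)) j _ h0
    let z := (I.X q).obj.map (W'.map (homOfLE hk).op).op y
    have hz : (I.d q).hom.app (op (W'.obj (op k))) z = 0 :=
      (NatTrans.naturality_apply (I.d q).hom _ y).trans hzk
    obtain ⟨e, he⟩ := exists_rep_of_cycle g (injectiveResolution F) η q (K.obj k).unop.1
      (K.obj k).unop.2 z hz
    refine ⟨e, (eval_rep g R ρ σ₀ η hη' a b hP.w he).trans ?_⟩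
    exact (I.pullback a).scls_congr
      ((hsec k _ z).symm.trans ((sectTo_res W' c a hg hk _ y).trans hy)) _ hs'

end Bijective

end Groth.EtaleBase.EtLimit
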