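import Groth.Agent.EtaleBase.Limit.StrictLocalization
import Groth.Agent.EtaleBase.StrictSection
import Mathlib.AlgebraicGeometry.Morphisms.FormallyUnramified

/-!
Lifting the spectrum of a strictly henselian ring, with a geometric point over its closed point, to
étale neighbourhoods of the geometric point; for a strict henselization of a local ring of `S` this
gives a limit cone.
-/

set_option autoImplicit false

universe u

open CategoryTheory CategoryTheory.Limits AlgebraicGeometry Opposite IsLocalRing
open Groth.EtaleBase Groth.EtaleBase.EtLocalRing Groth.AlgSpEt.StrictLocal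

namespace Groth.EtaleBase.EtLimit

set_option backward.isDefEq.respectTransparency.types false in
/-- A point over the closed point with values in a field comes from a point with values in the residue
field, if there is one at the same place. -/
lemma eq_comp_of_residue_point {R : Type u} [CommRing R] [IsLocalRing R] {Z : Scheme.{u}}
    (v : Z ⟶ Spec (CommRingCat.of R)) (t : Spec (CommRingCat.of (ResidueField R)) ⟶ Z)
    (ht : t ≫ v = closedGeom R) {Ω : Type u} [Field Ω] (τ : ResidueField R →+* Ω)
    (a : Spec (CommRingCat.of Ω) ⟶ Z) (ha : a ≫ v = Spec.map (CommRingCat.ofHom τ) ≫ closedGeom R)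
    (hz : a default = t default) : a = Spec.map (CommRingCat.ofHom τ) ≫ t := by
  obtain ⟨⟨z, φ⟩, rfl⟩ := (Scheme.SpecToEquivOfField Ω Z).symm.surjective a
  obtain ⟨⟨z', ψ⟩, rfl⟩ := (Scheme.SpecToEquivOfField (ResidueField R) Z).symm.surjective t
  have hzz : z = z' := by
    have h1 : (Spec.map φ ≫ Z.fromSpecResidueField z) default = z := by
      rw [Scheme.Hom.comp_apply, Scheme.fromSpecResidueField_apply]
    have h2 : (Spec.map ψ ≫ Z.fromSpecResidueField z') default = z' := by
      rw [Scheme.Hom.comp_apply, Scheme.fromSpecResidueField_apply]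
    exact h1.symm.trans (hz.trans h2)
  subst hzz
  change Spec.map φ ≫ Z.fromSpecResidueField z =
    Spec.map (CommRingCat.ofHom τ) ≫ Spec.map ψ ≫ Z.fromSpecResidueField z
  change (Spec.map ψ ≫ Z.fromSpecResidueField z) ≫ v = _ at ht
  change (Spec.map φ ≫ Z.fromSpecResidueField z) ≫ v = _ at ha
  let χ := Spec.preimage (Z.fromSpecResidueField z ≫ v)
  have hψ : χ ≫ ψ = CommRingCat.ofHom (residue R) := by
    apply Spec.map_injective
    rw [Spec.map_comp, Spec.map_preimage, ← Category.assoc]
    exact ht
  have hsurj : Function.Surjective ψ.hom := fun x => by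
    obtain ⟨r, rfl⟩ := residue_surjective x
    exact ⟨χ r, ConcreteCategory.congr_hom hψ r⟩
  have : φ = ψ ≫ CommRingCat.ofHom τ := by
    have hφ : χ ≫ φ = χ ≫ ψ ≫ CommRingCat.ofHom τ := by
      rw [← Category.assoc, hψ]
      apply Spec.map_injective
      rw [Spec.map_comp, Spec.map_preimage, Spec.map_comp, ← Category.assoc]
      exact ha
    refine CommRingCat.hom_ext (RingHom.ext fun x => ?_)
    obtain ⟨r, hr⟩ := residue_surjective (ψ x)
    have hx : x = χ r := ψ.hom.injective (hr.symm.trans (ConcreteCategory.congr_hom hψ r).symm)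
    rw [hx]
    exact ConcreteCategory.congr_hom hφ r
  rw [this, Spec.map_comp, Category.assoc]

section Lift

variable (R : Type u) [CommRing R] [HenselianLocalRing R]
  {Ω : Type u} [Field Ω] [IsSepClosed Ω] (ρ : R →+* Ω)

/-- The geometric point over the closed point. -/
noncomputable abbrev locPt : Spec (CommRingCat.of Ω) ⟶ Spec (CommRingCat.of R) :=
  Spec.map (CommRingCat.ofHom ρ)

omit [IsSepClosed Ω] in
lemma locPt_apply [IsLocalHom ρ] : (locPt R ρ) default = closedPoint R := by
  rw [show (default : Spec (CommRingCat.of Ω)) = closedPoint Ω from Subsingleton.elim _ _]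
  exact comap_closedPoint ρ

variable [IsLocalHom ρ] {S : Scheme.{u}} (σ : Spec (CommRingCat.of R) ⟶ S)
  (η : Spec (CommRingCat.of Ω) ⟶ S) (hη : locPt R ρ ≫ σ = η)

omit [IsSepClosed Ω] in
/-- Two lifts to an étale scheme agreeing at the geometric point agree. -/
theorem lift_ext {V : Scheme.{u}} (v : V ⟶ S) [Etale v] {l l' : Spec (CommRingCat.of R) ⟶ V}
    (h : l ≫ v = σ) (h' : l' ≫ v = σ) (he : locPt R ρ ≫ l = locPt R ρ ≫ l') : l = l' := by
  let p : Spec (CommRingCat.of R) ⟶ pullback v v := pullback.lift l l' (h.trans h'.symm)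
  let d := pullback.diagonal v
  have hp : locPt R ρ ≫ p = (locPt R ρ ≫ l) ≫ d := by
    refine pullback.hom_ext ?_ ?_
    · rw [Category.assoc, pullback.lift_fst, Category.assoc, pullback.diagonal_fst, Category.comp_id]
    · rw [Category.assoc, pullback.lift_snd, Category.assoc, pullback.diagonal_snd, Category.comp_id, ← he]
  have hc : closedPoint R ∈ p ⁻¹ᵁ d.opensRange := by
    show p (closedPoint R) ∈ Set.range d
    rw [← locPt_apply R ρ, ← Scheme.Hom.comp_apply, hp, Scheme.Hom.comp_apply]
    exact Set.mem_range_self _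
  have htop := (IsLocalRing.closedPoint_mem_iff (p ⁻¹ᵁ d.opensRange)).1 hc
  have hr : Set.range p ⊆ Set.range d := by
    rintro _ ⟨x, rfl⟩
    exact (htop ▸ TopologicalSpace.Opens.mem_top x : x ∈ p ⁻¹ᵁ d.opensRange)
  have hk := IsOpenImmersion.lift_fac d p hr
  have e1 := congrArg (· ≫ pullback.fst v v) hk
  have e2 := congrArg (· ≫ pullback.snd v v) hk
  simp only [Category.assoc, d, p, pullback.diagonal_fst, pullback.diagonal_snd, Category.comp_id,
    pullback.lift_fst, pullback.lift_snd] at e1 e2
  exact e1.symm.trans e2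

include hη in
/-- Lifts to neighbourhoods exist. -/
theorem exists_locLift [IsSepClosed (ResidueField R)] (V : S.Etale)
    (t : (Scheme.pointSmallEtale η).fiber.obj V) :
    ∃ l : Spec (CommRingCat.of R) ⟶ V.left, l ≫ V.hom = σ ∧ locPt R ρ ≫ l = t.left := by
  let VL := (EtCoh.bc σ).obj V
  haveI : Etale VL.hom := VL.prop
  let tL : Spec (CommRingCat.of Ω) ⟶ VL.left :=
    pullback.lift t.left (locPt R ρ) ((Over.w t).trans hη.symm)
  have htL : tL ≫ VL.hom = locPt R ρ := pullback.lift_snd _ _ _
  have hz : VL.hom (tL default) = (closedGeom R) default := by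
    rw [← Scheme.Hom.comp_apply, htL, closedGeom_apply, locPt_apply]
  obtain ⟨tk, htk⟩ := exists_fiber_of_point (closedGeom R) VL (tL default) hz
  obtain ⟨s, hs, hst⟩ := exists_section_of_point R VL.hom tk.left (Over.w tk)
  have hρ : locPt R ρ = Spec.map (CommRingCat.ofHom (ResidueField.lift ρ)) ≫ closedGeom R :=
    (Spec.map_comp (CommRingCat.ofHom (residue R)) (CommRingCat.ofHom (ResidueField.lift ρ)))
  have hkey : tL = Spec.map (CommRingCat.ofHom (ResidueField.lift ρ)) ≫ tk.left :=
    eq_comp_of_residue_point VL.hom tk.left (Over.w tk) _ tL (htL.trans hρ) htk.symm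
  refine ⟨s ≫ pullback.fst V.hom σ, ?_, ?_⟩
  · exact (Category.assoc _ _ _).trans ((congrArg (s ≫ ·) pullback.condition).trans
      ((Category.assoc _ _ _).symm.trans ((congrArg (· ≫ σ) hs).trans (Category.id_comp σ))))
  · have h1 : locPt R ρ ≫ s = tL :=
      ((congrArg (· ≫ s) hρ).trans ((Category.assoc _ _ _).trans
        (congrArg (Spec.map (CommRingCat.ofHom (ResidueField.lift ρ)) ≫ ·) hst))).trans hkey.symm
    exact (Category.assoc _ _ _).symm.trans ((congrArg (· ≫ pullback.fst V.hom σ) h1).trans
      (pullback.lift_fst _ _ _))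

variable [IsSepClosed (ResidueField R)]

/-- The lift to a neighbourhood. -/
noncomputable def locLift (V : S.Etale) (t : (Scheme.pointSmallEtale η).fiber.obj V) :
    Spec (CommRingCat.of R) ⟶ V.left :=
  (exists_locLift R ρ σ η hη V t).choose

lemma locLift_hom (V : S.Etale) (t : (Scheme.pointSmallEtale η).fiber.obj V) :
    locLift R ρ σ η hη V t ≫ V.hom = σ :=
  (exists_locLift R ρ σ η hη V t).choose_spec.1

lemma locPt_locLift (V : S.Etale) (t : (Scheme.pointSmallEtale η).fiber.obj V) :
    locPt R ρ ≫ locLift R ρ σ η hη V t = t.left :=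
  (exists_locLift R ρ σ η hη V t).choose_spec.2

lemma locLift_map {V V' : S.Etale} (m : V' ⟶ V) (t' : (Scheme.pointSmallEtale η).fiber.obj V')
    {t : (Scheme.pointSmallEtale η).fiber.obj V} (ht : (Scheme.pointSmallEtale η).fiber.map m t' = t) :
    locLift R ρ σ η hη V' t' ≫ m.left = locLift R ρ σ η hη V t := by
  subst ht
  haveI : Etale V.hom := V.prop
  refine lift_ext R ρ σ V.hom ?_ (locLift_hom R ρ σ η hη V _) ?_
  · exact (Category.assoc _ _ _).trans ((congrArg (_ ≫ ·) (MorphismProperty.Over.w m)).trans
      (locLift_hom R ρ σ η hη V' t'))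
  · exact ((Category.assoc _ _ _).symm.trans (congrArg (· ≫ m.left) (locPt_locLift R ρ σ η hη V' t'))).trans
      (locPt_locLift R ρ σ η hη V ((Scheme.pointSmallEtale η).fiber.map m t')).symm

variable {ι : Type u} [Preorder ι] (K : ι ⥤ (Nbhd η)ᵒᵖ)

/-- The cone of lifts. -/
noncomputable def liftCone : Cone (nbhdSystem η K ⋙ Scheme.Etale.forget S ⋙ Over.forget S) where
  pt := Spec (CommRingCat.of R)
  π :=
    { app := fun p => locLift R ρ σ η hη (K.obj p.unop).unop.1 (K.obj p.unop).unop.2
      naturality := fun p q f => (Category.id_comp _).trans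
        (locLift_map R ρ σ η hη ((K.map f.unop).unop.1) _ (K.map f.unop).unop.2).symm }

lemma liftCone_hom (i : ι) :
    (liftCone R ρ σ η hη K).π.app (op i) ≫ ((nbhdSystem η K).obj (op i)).hom = σ :=
  locLift_hom R ρ σ η hη _ _

end Lift

/-- A local homomorphism over the base between strict henselizations is bijective. -/
theorem bijective_of_strictHenselization (A : Type u) [CommRing A] [IsLocalRing A]
    (R R' : Type u) [CommRing R] [IsLocalRing R] [Algebra A R] [IsLocalHom (algebraMap A R)]
    [hR : Hensel.IsStrictHenselization A R] [CommRing R'] [IsLocalRing R'] [Algebra A R']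
    [IsLocalHom (algebraMap A R')] [hR' : Hensel.IsStrictHenselization A R']
    (g : R →+* R') [IsLocalHom g] (hg : g.comp (algebraMap A R) = algebraMap A R') :
    Function.Bijective g := by
  have := hR.henselian
  have := hR'.henselian
  have := hR.isSepClosure
  have := hR'.isSepClosure
  have : IsSepClosed (ResidueField R) := IsSepClosure.sep_closed (ResidueField A)
  let τ : ResidueField R →ₐ[ResidueField A] ResidueField R' :=
    { ResidueField.map g with
      commutes' := fun x => by
        obtain ⟨a, rfl⟩ := residue_surjective x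
        exact congrArg (residue R') (RingHom.congr_fun hg a) }
  have hτ : Function.Bijective τ := ⟨τ.toRingHom.injective, fun y => by
    let _ := τ.toRingHom.toAlgebra
    haveI : IsScalarTower (ResidueField A) (ResidueField R) (ResidueField R') :=
      IsScalarTower.of_algebraMap_eq fun x => (τ.commutes x).symm
    haveI := (hR'.isSepClosure).separable
    haveI : Algebra.IsSeparable (ResidueField R) (ResidueField R') :=
      Algebra.isSeparable_tower_top_of_isSeparable (ResidueField A) _ _
    exact IsSepClosed.algebraMap_surjective (ResidueField R) (ResidueField R') y⟩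
  let e := AlgEquiv.ofBijective τ hτ
  obtain ⟨h, ⟨hh, hhr⟩, -⟩ := hR'.universal R (algebraMap A R) e.symm.toRingEquiv.toRingHom
    (RingHom.ext fun x => e.symm.commutes x)
  obtain ⟨i, -, hi⟩ := hR.universal R (algebraMap A R) (RingHom.id _) (RingHom.ext fun _ => rfl)
  obtain ⟨i', -, hi'⟩ := hR'.universal R' (algebraMap A R') (RingHom.id _) (RingHom.ext fun _ => rfl)
  have e1 : h.comp g = RingHom.id R :=
    (hi _ ⟨by rw [RingHom.comp_assoc, hg, hh], fun x => by
      rw [RingHom.comp_apply, hhr]; exact e.symm_apply_apply (residue R x)⟩).trans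
      (hi _ ⟨RingHom.id_comp _, fun _ => rfl⟩).symm
  have e2 : g.comp h = RingHom.id R' :=
    (hi' _ ⟨by rw [RingHom.comp_assoc, hh, hg], fun x => by
      rw [RingHom.comp_apply]
      exact (congrArg τ (hhr x)).trans (e.apply_symm_apply (residue R' x))⟩).trans
      (hi' _ ⟨RingHom.id_comp _, fun _ => rfl⟩).symm
  exact (RingEquiv.ofRingHom g h e2 e1).bijective

/-- A point of an affine scheme is given by its evaluation. -/
lemma eq_SpecMap_appTop_isoSpec_inv {A : CommRingCat.{u}} {Y : Scheme.{u}} [IsAffine Y] (f : Spec A ⟶ Y) :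
    f = Spec.map (f.appTop ≫ (Scheme.ΓSpecIso A).hom) ≫ Y.isoSpec.inv := by
  rw [Iso.eq_comp_inv, Spec.map_comp]
  simp [Scheme.isoSpec, Scheme.toSpecΓ_naturality]

section Limit

variable {S : Scheme.{u}} {s : S} (R : Type u) [CommRing R] [IsLocalRing R]
  [Algebra (S.presheaf.stalk s) R] [IsLocalHom (algebraMap (S.presheaf.stalk s) R)]
  [Hensel.IsStrictHenselization (S.presheaf.stalk s) R]

lemma isIso_of_over {y : S} (hy : y = s) (R' : Type u) [CommRing R'] [IsLocalRing R']
    [Algebra (S.presheaf.stalk y) R'] [IsLocalHom (algebraMap (S.presheaf.stalk y) R')]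
    [Hensel.IsStrictHenselization (S.presheaf.stalk y) R'] (φ : R' →+* R) [IsLocalHom φ]
    (h : Spec.map (CommRingCat.ofHom φ) ≫ Spec.map (CommRingCat.ofHom (algebraMap (S.presheaf.stalk y) R')) ≫
      S.fromSpecStalk y = Hens2.specOf S s R) :
    IsIso (Spec.map (CommRingCat.ofHom φ)) := by
  subst hy
  rw [← Category.assoc, cancel_mono, ← Spec.map_comp] at h
  have hb := bijective_of_strictHenselization (S.presheaf.stalk y) R' R φ
    (congrArg CommRingCat.Hom.hom (Spec.map_injective h))
  haveI : IsIso (CommRingCat.ofHom φ) :=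
    (RingEquiv.ofBijective φ hb).toCommRingCatIso.isIso_hom
  infer_instance

variable {Ω : Type u} [Field Ω] [IsSepClosed Ω] (ρ : R →+* Ω) [IsLocalHom ρ]
  (η : Spec (CommRingCat.of Ω) ⟶ S) (hη : locPt R ρ ≫ Hens2.specOf S s R = η)
  [HenselianLocalRing R] [IsSepClosed (ResidueField R)]
  {ι : Type u} [Preorder ι] [Nonempty ι] (K : ι ⥤ (Nbhd η)ᵒᵖ) [hK : ∀ i, IsAffine (K.obj i).unop.1.left]
  [K.Final]

set_option backward.isDefEq.respectTransparency.types false in
/-- For a strict henselization the cone of lifts is a limit cone. -/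
noncomputable def isLimitLiftCone : IsLimit (liftCone R ρ (Hens2.specOf S s R) η hη K) := by
  let c := liftCone R ρ (Hens2.specOf S s R) η hη K
  let e : Spec (CommRingCat.of R) ⟶ Spec (EtBase.etaleLocalRing η) := (isLimitLocalCone η K).lift c
  have hpt : locPt R ρ ≫ e = Spec.map (ev η) := by
    refine (isLimitLocalCone η K).hom_ext fun p => ?_
    refine (Category.assoc _ _ _).trans ((congrArg (locPt R ρ ≫ ·) ((isLimitLocalCone η K).fac c p)).trans ?_)
    refine (locPt_locLift R ρ _ η hη _ _).trans ?_
    let U := (K.obj p.unop).unop.1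
    let t := (K.obj p.unop).unop.2
    have h1 : Spec.map (gm η U t) ≫ U.left.isoSpec.inv = (localCone η K).π.app p := rfl
    refine Eq.trans ?_ (congrArg (Spec.map (ev η) ≫ ·) h1)
    refine Eq.trans ?_ (Category.assoc _ _ _)
    refine Eq.trans ?_ (congrArg (· ≫ U.left.isoSpec.inv) ((congrArg Spec.map
      (ConcreteCategory.hom_ext _ _ (ev_gm η U t) : gm η U t ≫ ev η = evAt η U t)).symm.trans
        (Spec.map_comp (gm η U t) (ev η))))
    haveI : IsAffine U.left := hK p.unop
    exact @eq_SpecMap_appTop_isoSpec_inv _ U.left (hK p.unop) t.left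
  let φ : EtBase.etaleLocalRing η ⟶ CommRingCat.of R := Spec.preimage e
  have hφ : φ ≫ CommRingCat.ofHom ρ = ev η := by
    apply Spec.map_injective
    rw [Spec.map_comp, Spec.map_preimage]
    exact hpt
  haveI : IsLocalHom φ.hom := ⟨fun a ha => by
    rw [isUnit_iff_ev_ne_zero, ← hφ]
    exact (ha.map ρ).ne_zero⟩
  have hover : e ≫ Spec.map (toEtale η) ≫ S.fromSpecStalk (η default) = Hens2.specOf S s R := by
    let i := Classical.arbitrary ι
    refine (congrArg (e ≫ ·) (localCone_hom η K i).symm).trans ((Category.assoc _ _ _).symm.trans ?_)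
    exact (congrArg (· ≫ ((nbhdSystem η K).obj (op i)).hom) ((isLimitLocalCone η K).fac c (op i))).trans
      (liftCone_hom R ρ _ η hη K i)
  have hy : η default = s := by
    have h1 : (Spec.map (CommRingCat.ofHom ρ)).base default = closedPoint R := locPt_apply R ρ
    rw [← hη, Scheme.Hom.comp_apply, h1, Scheme.Hom.comp_apply]
    show S.fromSpecStalk s ((Spec.map (CommRingCat.ofHom (algebraMap (S.presheaf.stalk s) R))).base
      (closedPoint R)) = s
    rw [show (Spec.map (CommRingCat.ofHom (algebraMap (S.presheaf.stalk s) R))).base (closedPoint R) =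
      closedPoint (S.presheaf.stalk s) from comap_closedPoint (algebraMap (S.presheaf.stalk s) R)]
    exact Scheme.fromSpecStalk_closedPoint
  haveI : IsIso e := by
    letI := (toEtale η).hom.toAlgebra
    obtain ⟨_, _⟩ := Groth.AlgSpEt.StrictHens.isStrictHenselization η
    rw [← Spec.map_preimage e]
    refine isIso_of_over R hy (EtBase.etaleLocalRing η) φ.hom ?_
    exact (congrArg (· ≫ _) (Spec.map_preimage e)).trans hover
  exact (isLimitLocalCone η K).ofIsoLimit
    (Cone.ext (asIso e).symm fun p => ((Iso.inv_comp_eq _).2 ((isLimitLocalCone η K).fac c p).symm).symm)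

end Limit

end Groth.EtaleBase.EtLimit
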