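import Groth.Agent.EtaleBase.Limit.Systems
import Groth.Agent.EtaleBase.Limit.Slice

/-!
Transition morphisms and cones of systems of sheaves as morphisms of sheaves along morphisms of
schemes; the universal property of the inverse image to the cone point.
-/

set_option autoImplicit false

universe u

open CategoryTheory CategoryTheory.Limits AlgebraicGeometry Opposite

namespace Groth.EtaleBase.EtLimit

attribute [local instance] pull_preservesFiniteLimits

namespace CHom

variable {A B C : Scheme.{u}} {GA : EtCoh.Ab A} {GB : EtCoh.Ab B} {GC : EtCoh.Ab C}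

/-- The adjoint form. -/
noncomputable def T (f : CHom GB GA) : GB ⟶ (EtCoh.push f.m).obj GA :=
  (EtCoh.pullPushAdj f.m).homEquiv _ _ f.α

/-- A morphism from its adjoint form. -/
noncomputable def ofT (m : A ⟶ B) (τ : GB ⟶ (EtCoh.push m).obj GA) : CHom GB GA :=
  ⟨m, ((EtCoh.pullPushAdj m).homEquiv _ _).symm τ⟩

lemma T_ofT (m : A ⟶ B) (τ : GB ⟶ (EtCoh.push m).obj GA) : (ofT m τ).T = τ :=
  Equiv.apply_symm_apply _ _

lemma ext_T {m : A ⟶ B} {α α' : (EtCoh.pull m).obj GB ⟶ GA} (h : (CHom.mk m α).T = (CHom.mk m α').T) :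
    CHom.mk m α = CHom.mk m α' :=
  congrArg (CHom.mk m) (((EtCoh.pullPushAdj m).homEquiv _ _).injective h)

/-- Precomposition. -/
noncomputable def pre {GB' : EtCoh.Ab B} (f : CHom GB GA) (g : GB' ⟶ GB) : CHom GB' GA :=
  ⟨f.m, (EtCoh.pull f.m).map g ≫ f.α⟩

lemma T_pre {GB' : EtCoh.Ab B} (f : CHom GB GA) (g : GB' ⟶ GB) : (f.pre g).T = g ≫ f.T :=
  (EtCoh.pullPushAdj f.m).homEquiv_naturality_left _ _

lemma T_post {GA' : EtCoh.Ab A} (f : CHom GB GA) (β : GA ⟶ GA') :
    (f.post β).T = f.T ≫ (EtCoh.push f.m).map β :=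
  (EtCoh.pullPushAdj f.m).homEquiv_naturality_right _ _

lemma pre_comp {GC' : EtCoh.Ab C} (f : CHom GC GB) (g : GC' ⟶ GC) (f' : CHom GB GA) :
    (f.pre g).comp f' = (f.comp f').pre g := by
  refine congrArg (CHom.mk (f'.m ≫ f.m)) ?_
  show (EtCore.pullComp f'.m f.m).hom.app GC' ≫
      (EtCoh.pull f'.m).map ((EtCoh.pull f.m).map g ≫ f.α) ≫ f'.α =
    (EtCoh.pull (f'.m ≫ f.m)).map g ≫
      (EtCore.pullComp f'.m f.m).hom.app GC ≫ (EtCoh.pull f'.m).map f.α ≫ f'.α
  rw [Functor.map_comp, Category.assoc]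
  exact ((Category.assoc _ _ _).symm.trans (congrArg (· ≫ _)
    ((EtCore.pullComp f'.m f.m).hom.naturality g).symm)).trans (Category.assoc _ _ _)

lemma post_comp {GB' : EtCoh.Ab B} (f : CHom GC GB) (β : GB ⟶ GB') (f' : CHom GB' GA) :
    (f.post β).comp f' = f.comp (f'.pre β) := by
  refine congrArg (CHom.mk (f'.m ≫ f.m)) ?_
  show (EtCore.pullComp f'.m f.m).hom.app GC ≫ (EtCoh.pull f'.m).map (f.α ≫ β) ≫ f'.α =
    (EtCore.pullComp f'.m f.m).hom.app GC ≫ (EtCoh.pull f'.m).map f.α ≫ (EtCoh.pull f'.m).map β ≫ f'.α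
  rw [Functor.map_comp, Category.assoc]

lemma post_pre {GB' : EtCoh.Ab B} {GA' : EtCoh.Ab A} (f : CHom GB GA) (g : GB' ⟶ GB) (β : GA ⟶ GA') :
    (f.pre g).post β = (f.post β).pre g :=
  congrArg (CHom.mk f.m) (Category.assoc _ _ _)

lemma eq_post_cart (f : CHom GB GA) : f = (cart f.m GB).post f.α :=
  congrArg (CHom.mk f.m) (Category.id_comp f.α).symm

lemma cart_post_injective (m : A ⟶ B) {G' : EtCoh.Ab A} {β β' : (EtCoh.pull m).obj GB ⟶ G'}
    (h : (cart m GB).post β = (cart m GB).post β') : β = β' := by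
  have h' := eq_of_heq (CHom.mk.inj h).2
  exact (Category.id_comp β).symm.trans (h'.trans (Category.id_comp β'))

instance isIso_pushVia {X Y Z : Scheme.{u}} (f : X ⟶ Y) (t : Y ⟶ Z) {f₀ : X ⟶ Z} (w : f ≫ t = f₀)
    (G : EtCoh.Ab X) : IsIso (pushVia f t w G) := by
  unfold pushVia
  infer_instance

/-- The adjoint form of a composite. -/
theorem T_comp (f : CHom GC GB) (f' : CHom GB GA) :
    f.T ≫ (EtCoh.push f.m).map f'.T = (f.comp f').T ≫ pushVia f'.m f.m rfl GA := by
  refine transpose_via f'.m f.m rfl _ f.α f'.α ?_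
  simp [CHom.comp, coeffComp, EtCore.pullCongr]

/-- The criterion for being a composite. -/
theorem comp_eq_iff (f : CHom GC GB) (f' : CHom GB GA) (x : CHom GC GA) (w : f'.m ≫ f.m = x.m) :
    f.comp f' = x ↔ f.T ≫ (EtCoh.push f.m).map f'.T = x.T ≫ pushVia f'.m f.m w GA := by
  obtain ⟨m, α⟩ := x
  dsimp at w
  subst w
  constructor
  · intro h
    exact (T_comp f f').trans (congrArg (fun z => (CHom.mk (f'.m ≫ f.m) z).T ≫ pushVia f'.m f.m rfl GA)
      (eq_of_heq (CHom.mk.inj h).2))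
  · intro h
    exact ext_T ((cancel_mono (pushVia f'.m f.m rfl GA)).1 ((T_comp f f').symm.trans h))

/-- The universal morphism from a direct image. -/
noncomputable def counitC (u : A ⟶ B) (GA : EtCoh.Ab A) : CHom ((EtCoh.push u).obj GA) GA :=
  ⟨u, (EtCoh.pullPushAdj u).counit.app GA⟩

lemma T_counitC (u : A ⟶ B) (GA : EtCoh.Ab A) : (counitC u GA).T = 𝟙 _ :=
  (EtCoh.pullPushAdj u).homEquiv_unit _ _ _ |>.trans
    ((EtCoh.pullPushAdj u).right_triangle_components GA)

lemma exists_counitC (f : CHom GC GA) (p : B ⟶ C) (u : A ⟶ B) (w : u ≫ p = f.m) :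
    ∃ x : CHom GC ((EtCoh.push u).obj GA), x.m = p ∧ x.comp (counitC u GA) = f := by
  refine ⟨ofT p (f.T ≫ pushVia u p w GA), rfl, (comp_eq_iff _ _ _ w).2 ?_⟩
  rw [T_counitC, T_ofT]
  exact (congrArg (_ ≫ ·) ((EtCoh.push p).map_id _)).trans (Category.comp_id _)

lemma counitC_cancel {u : A ⟶ B} {p : B ⟶ C} {α α' : (EtCoh.pull p).obj GC ⟶ (EtCoh.push u).obj GA}
    (h : (CHom.mk p α).comp (counitC u GA) = (CHom.mk p α').comp (counitC u GA)) : α = α' := by
  have h1 := T_comp (CHom.mk p α) (counitC u GA)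
  have h2 := T_comp (CHom.mk p α') (counitC u GA)
  have h12 := h1.trans ((congrArg (fun z => (CHom.mk (u ≫ p) z).T ≫ pushVia u p rfl GA)
    (eq_of_heq (CHom.mk.inj h).2)).trans h2.symm)
  rw [T_counitC] at h12
  refine ((EtCoh.pullPushAdj p).homEquiv _ _).injective ?_
  have e := fun (τ : GC ⟶ (EtCoh.push p).obj ((EtCoh.push u).obj GA)) =>
    (congrArg (τ ≫ ·) ((EtCoh.push p).map_id ((EtCoh.push u).obj GA))).trans (Category.comp_id τ)
  exact (e _).symm.trans (h12.trans (e _))

lemma counitC_cancel' {u : A ⟶ B} {y z : CHom GC ((EtCoh.push u).obj GA)} (hm : y.m = z.m)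
    (h : y.comp (counitC u GA) = z.comp (counitC u GA)) : y = z := by
  obtain ⟨m, α⟩ := y
  obtain ⟨m', α'⟩ := z
  dsimp at hm
  subst hm
  exact congrArg (CHom.mk m) (counitC_cancel h)

end CHom

variable {ι : Type u} [Preorder ι] {Xs : ιᵒᵖ ⥤ Scheme.{u}}

/-- Morphisms of systems are determined stagewise. -/
lemma abSys_hom_ext {M N : AbSys Xs} {f g : M ⟶ N} (h : ∀ j, (res Xs j).map f = (res Xs j).map g) :
    f = g := by
  apply (sheafToPresheaf _ _).map_injective
  ext a : 2
  exact congrArg (fun m => m.hom.app (op a.unop.obj)) (h a.unop.idx)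

/-- A morphism of systems given stagewise. -/
noncomputable def abSysHomMk {M N : AbSys Xs} (δ : ∀ j, (res Xs j).obj M ⟶ (res Xs j).obj N)
    (h : ∀ ⦃i j : ι⦄ (hij : i ≤ j), transHom M hij ≫ (EtCoh.push (trn Xs hij)).map (δ j) =
      δ i ≫ transHom N hij) : M ⟶ N :=
  ObjectProperty.homMk
    { app := fun a => (δ a.unop.idx).hom.app (op a.unop.obj)
      naturality := fun b a f => by
        have hf := Obj.idx_le f.unop
        ext y
        have e : f = (ext Xs b.unop hf).op ≫ ((incl Xs a.unop.idx).map (factor Xs f.unop hf)).op :=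
          Quiver.Hom.unop_inj (factor_ext Xs f.unop hf).symm
        have h1 : (δ a.unop.idx).hom.app (op ((EtCoh.bc (trn Xs hf)).obj b.unop.obj))
            (M.obj.map (ext Xs b.unop hf).op y) =
            N.obj.map (ext Xs b.unop hf).op ((δ b.unop.idx).hom.app (op b.unop.obj) y) :=
          ConcreteCategory.congr_hom (congrArg (fun m => m.hom.app (op b.unop.obj)) (h hf)) y
        show (δ a.unop.idx).hom.app (op a.unop.obj) (M.obj.map f y) =
          N.obj.map f ((δ b.unop.idx).hom.app (op b.unop.obj) y)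
        rw [e]
        refine (congrArg ((δ a.unop.idx).hom.app (op a.unop.obj))
          (Functor.map_comp_apply M.obj _ _ y)).trans (Eq.trans ?_ (Functor.map_comp_apply N.obj _ _ _).symm)
        refine (NatTrans.naturality_apply (δ a.unop.idx).hom (factor Xs f.unop hf).op _).trans ?_
        exact congrArg (N.obj.map ((incl Xs a.unop.idx).map (factor Xs f.unop hf)).op) h1 }

lemma res_abSysHomMk {M N : AbSys Xs} (δ : ∀ j, (res Xs j).obj M ⟶ (res Xs j).obj N)
    (h : ∀ ⦃i j : ι⦄ (hij : i ≤ j), transHom M hij ≫ (EtCoh.push (trn Xs hij)).map (δ j) =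
      δ i ≫ transHom N hij) (j : ι) : (res Xs j).map (abSysHomMk δ h) = δ j := by
  apply (sheafToPresheaf _ _).map_injective
  ext V : 2
  rfl

/-- The transition morphism of a system of sheaves. -/
noncomputable def trC (M : AbSys Xs) {i j : ι} (h : i ≤ j) :
    CHom ((res Xs i).obj M) ((res Xs j).obj M) :=
  CHom.ofT (trn Xs h) (transHom M h)

theorem trC_comp (M : AbSys Xs) {i j k : ι} (h : i ≤ j) (h' : j ≤ k) :
    (trC M h).comp (trC M h') = trC M (h.trans h') :=
  (CHom.comp_eq_iff _ _ _ (trn_trn Xs h h')).2 (by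
    simp only [trC, CHom.T_ofT]
    exact transHom_transHom M h h')

theorem trC_natural {M N : AbSys Xs} (f : M ⟶ N) {i j : ι} (h : i ≤ j) :
    (trC M h).post ((res Xs j).map f) = (trC N h).pre ((res Xs i).map f) :=
  CHom.ext_T (((trC M h).T_post _).trans ((congrArg (· ≫ _) (CHom.T_ofT _ _)).trans
    ((transHom_natural f h).symm.trans ((congrArg (_ ≫ ·) (CHom.T_ofT _ _).symm).trans
      ((trC N h).T_pre _).symm))))

variable [Nonempty ι] [IsDirectedOrder ι] (c : Cone Xs)

/-- The morphism from a stage to the inverse image. -/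
noncomputable def coneC (M : AbSys Xs) (j : ι) : CHom ((res Xs j).obj M) ((pullSys Xs c).obj M) :=
  CHom.ofT (proj Xs c j) (coneHom c M j)

theorem trC_coneC (M : AbSys Xs) {i j : ι} (h : i ≤ j) :
    (trC M h).comp (coneC c M j) = coneC c M i :=
  (CHom.comp_eq_iff _ _ _ (proj_trn Xs c h)).2 (by
    simp only [trC, coneC, CHom.T_ofT]
    exact transHom_coneHom c M h)

theorem coneC_natural {M N : AbSys Xs} (f : M ⟶ N) (j : ι) :
    (coneC c M j).post ((pullSys Xs c).map f) = (coneC c N j).pre ((res Xs j).map f) :=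
  CHom.ext_T (((coneC c M j).T_post _).trans ((congrArg (· ≫ _) (CHom.T_ofT _ _)).trans
    ((coneHom_natural c f j).symm.trans ((congrArg (_ ≫ ·) (CHom.T_ofT _ _).symm).trans
      ((coneC c N j).T_pre _).symm))))

set_option backward.isDefEq.respectTransparency.types false in
omit [Nonempty ι] [IsDirectedOrder ι] in
lemma transHom_pushSys [Nonempty ι] [IsDirectedOrder ι] (N : EtCoh.Ab c.pt) {i j : ι} (h : i ≤ j) :
    transHom ((pushSys Xs c).obj N) h ≫ (EtCoh.push (trn Xs h)).map ((resPushIso Xs c j).hom.app N) =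
      (resPushIso Xs c i).hom.app N ≫ pushVia (proj Xs c j) (trn Xs h) (proj_trn Xs c h) N := by
  apply (sheafToPresheaf _ _).map_injective
  ext V y
  show N.obj.map ((toPt Xs c).map (st h V.unop)).op y =
    (pushVia (proj Xs c j) (trn Xs h) (proj_trn Xs c h) N).hom.app (op V.unop) y
  refine Eq.trans ?_ (pushVia_app (proj Xs c j) (trn Xs h) (proj_trn Xs c h) N V.unop _).symm
  refine congrArg (fun m => N.obj.map (Quiver.Hom.op m) y) ?_
  refine MorphismProperty.Over.Hom.ext (pullback.hom_ext ?_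
    ((MorphismProperty.Over.w ((toPt Xs c).map (st h V.unop))).trans (MorphismProperty.Over.w
      (bcVia (proj Xs c j) (trn Xs h) (proj_trn Xs c h) V.unop)).symm))
  exact (toPt_map_fst Xs c (st h V.unop)).trans
    (bcVia_fst (proj Xs c j) (trn Xs h) (proj_trn Xs c h) V.unop).symm

/-- Compatible families descend to the inverse image. -/
theorem exists_descC (M : AbSys Xs) {N : EtCoh.Ab c.pt}
    (x : ∀ j, (EtCoh.pull (proj Xs c j)).obj ((res Xs j).obj M) ⟶ N)
    (hx : ∀ ⦃i j : ι⦄ (h : i ≤ j), (trC M h).comp ⟨proj Xs c j, x j⟩ = ⟨proj Xs c i, x i⟩) :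
    ∃ d : (pullSys Xs c).obj M ⟶ N, ∀ j, (coneC c M j).post d = ⟨proj Xs c j, x j⟩ := by
  let δ := fun j => (CHom.mk (proj Xs c j) (x j)).T ≫ (resPushIso Xs c j).inv.app N
  have hδ : ∀ ⦃i j : ι⦄ (hij : i ≤ j), transHom M hij ≫ (EtCoh.push (trn Xs hij)).map (δ j) =
      δ i ≫ transHom ((pushSys Xs c).obj N) hij := fun i j h => by
    have h1 := (CHom.comp_eq_iff (trC M h) ⟨proj Xs c j, x j⟩ ⟨proj Xs c i, x i⟩ (proj_trn Xs c h)).1 (hx h)
    rw [show (trC M h).T = transHom M h from CHom.T_ofT _ _] at h1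
    rw [← cancel_mono ((EtCoh.push (trn Xs h)).map ((resPushIso Xs c j).hom.app N))]
    refine (Category.assoc _ _ _).trans (Eq.trans ?_ (Category.assoc _ _ _).symm)
    rw [transHom_pushSys c N h]
    refine (congrArg (transHom M h ≫ ·) (((EtCoh.push (trn Xs h)).map_comp _ _).symm.trans
      (congrArg (EtCoh.push (trn Xs h)).map ((Category.assoc _ _ _).trans
        ((congrArg (_ ≫ ·) ((resPushIso Xs c j).inv_hom_id_app N)).trans (Category.comp_id _)))))).trans
        (h1.trans ?_)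
    exact (congrArg (_ ≫ ·) ((resPushIso Xs c i).inv_hom_id_app_assoc N _).symm).trans
      (Category.assoc _ _ _).symm
  refine ⟨((sysAdj Xs c).homEquiv _ _).symm (abSysHomMk δ hδ), fun j => ?_⟩
  refine CHom.ext_T (((coneC c M j).T_post _).trans ((congrArg (· ≫ _) (CHom.T_ofT _ _)).trans ?_))
  have h2 := (resPushIso Xs c j).hom.naturality (((sysAdj Xs c).homEquiv _ _).symm (abSysHomMk δ hδ))
  refine (Category.assoc _ _ _).trans ((congrArg (_ ≫ ·) h2.symm).trans ?_)
  refine (Category.assoc _ _ _).symm.trans ((congrArg (· ≫ _) (((res Xs j).map_comp _ _).symm.trans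
    (congrArg (res Xs j).map (((sysAdj Xs c).homEquiv_unit _ _ _).symm.trans
      (Equiv.apply_symm_apply _ _))))).trans ?_)
  refine (congrArg (· ≫ _) (res_abSysHomMk δ hδ j)).trans ?_
  exact (Category.assoc _ _ _).trans
    ((congrArg (_ ≫ ·) ((resPushIso Xs c j).inv_hom_id_app N)).trans (Category.comp_id _))

/-- Uniqueness of descended morphisms. -/
theorem descC_ext (M : AbSys Xs) {N : EtCoh.Ab c.pt} {d d' : (pullSys Xs c).obj M ⟶ N}
    (h : ∀ j, (coneC c M j).post d = (coneC c M j).post d') : d = d' := by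
  refine ((sysAdj Xs c).homEquiv _ _).injective (abSys_hom_ext fun j => ?_)
  have h1 := congrArg (β := (res Xs j).obj M ⟶ (EtCoh.push (coneC c M j).m).obj N)
    (fun z => (CHom.mk (coneC c M j).m z).T) (eq_of_heq (CHom.mk.inj (h j)).2)
  have e : ∀ d : (pullSys Xs c).obj M ⟶ N, ((coneC c M j).post d).T =
      (res Xs j).map ((sysAdj Xs c).homEquiv _ _ d) ≫ (resPushIso Xs c j).hom.app N := fun d => by
    refine ((coneC c M j).T_post d).trans ((congrArg (· ≫ _) (CHom.T_ofT _ _)).trans ?_)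
    refine (Category.assoc _ _ _).trans
      ((congrArg (_ ≫ ·) ((resPushIso Xs c j).hom.naturality d).symm).trans ?_)
    exact (Category.assoc _ _ _).symm.trans (congrArg (· ≫ _) (((res Xs j).map_comp _ _).symm.trans
      (congrArg (res Xs j).map ((sysAdj Xs c).homEquiv_unit _ _ _).symm)))
  exact (cancel_mono ((resPushIso Xs c j).hom.app N)).1 ((e d).symm.trans (h1.trans (e d')))

/-- Compatible families over a scheme over the cone point descend. -/
theorem exists_descE (M : AbSys Xs) {P : Scheme.{u}} (e : P ⟶ c.pt) {H : EtCoh.Ab P}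
    (γ : ∀ j, CHom ((res Xs j).obj M) H) (hm : ∀ j, e ≫ proj Xs c j = (γ j).m)
    (hγ : ∀ ⦃i j : ι⦄ (h : i ≤ j), (trC M h).comp (γ j) = γ i) :
    ∃ α : (EtCoh.pull e).obj ((pullSys Xs c).obj M) ⟶ H, ∀ j, (coneC c M j).comp ⟨e, α⟩ = γ j := by
  choose x hxm hx using fun j => CHom.exists_counitC (γ j) (proj Xs c j) e (hm j)
  have hx' : ∀ j, (CHom.mk (proj Xs c j) ((EtCore.pullCongr (hxm j)).inv.app _ ≫ (x j).α)) = x j := fun j =>
    CHom.ext' (hxm j).symm (congrArg (· ≫ _) (by simp [EtCore.pullCongr]))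
  obtain ⟨d, hd⟩ := exists_descC c M (fun j => (EtCore.pullCongr (hxm j)).inv.app _ ≫ (x j).α)
    (fun i j h => by
      rw [hx' j, hx' i]
      have hmeq : ((trC M h).comp (x j)).m = (x i).m := by
        show (x j).m ≫ trn Xs h = (x i).m
        rw [hxm j, hxm i, proj_trn]
      refine CHom.counitC_cancel' hmeq ?_
      rw [CHom.assoc, hx j, hγ h, hx i])
  refine ⟨((CHom.counitC e H).pre d).α, fun j => ?_⟩
  exact (CHom.post_comp (coneC c M j) d (CHom.counitC e H)).symm.trans
    ((congrArg (fun z => CHom.comp z _) ((hd j).trans (hx' j))).trans (hx j))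

/-- Uniqueness of descended morphisms over a scheme over the cone point. -/
theorem descE_ext (M : AbSys Xs) {P : Scheme.{u}} (e : P ⟶ c.pt) {H : EtCoh.Ab P}
    {α α' : (EtCoh.pull e).obj ((pullSys Xs c).obj M) ⟶ H}
    (h : ∀ j, (coneC c M j).comp ⟨e, α⟩ = (coneC c M j).comp ⟨e, α'⟩) : α = α' := by
  have k : ∀ a : (EtCoh.pull e).obj ((pullSys Xs c).obj M) ⟶ H, CHom.mk e a =
      (CHom.counitC e H).pre ((EtCoh.pullPushAdj e).homEquiv _ _ a) := fun a =>
    congrArg (CHom.mk e) (((EtCoh.pullPushAdj e).homEquiv_counit _ _ _).symm.trans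
      (Equiv.symm_apply_apply _ _)).symm
  refine ((EtCoh.pullPushAdj e).homEquiv _ _).injective (descC_ext c M fun j => ?_)
  have h1 := h j
  rw [k α, k α', ← CHom.post_comp, ← CHom.post_comp] at h1
  exact congrArg (CHom.mk _) (CHom.counitC_cancel h1)

end Groth.EtaleBase.EtLimit
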