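import Groth.Agent.EtaleBase.Limit.SysCone
import Groth.Agent.EtaleBase.Limit.LimitBC
import Groth.Agent.EtaleBase.InjCoh

/-!
Stalks of higher direct images of the inverse image of a system of sheaves to the limit.
-/

set_option autoImplicit false

universe u

open CategoryTheory CategoryTheory.Limits AlgebraicGeometry Opposite

namespace Groth.EtaleBase.EtLimit

attribute [local instance] pull_preservesFiniteLimits

namespace SMor

variable {T S T' S' : Scheme.{u}} {g : T ⟶ S} {F : EtCoh.Ab T} {g' : T' ⟶ S'} {F' : EtCoh.Ab T'}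
  {Ω : Type u} [Field Ω] [IsSepClosed Ω]

/-- Change of the target sheaf. -/
noncomputable def post (a : SMor g F g' F') {F'' : EtCoh.Ab T'} (β : F' ⟶ F'') : SMor g F g' F'' :=
  ⟨a.bS, a.c.post β, a.w⟩

theorem st_post (a : SMor g F g' F') {F'' : EtCoh.Ab T'} (β : F' ⟶ F'')
    (ξ : Spec (CommRingCat.of Ω) ⟶ S') (η : Spec (CommRingCat.of Ω) ⟶ S) (h : ξ ≫ a.bS = η) (q : ℕ) :
    (a.post β).st ξ η h q = a.st ξ η h q ≫ (EtCoh.stalk ξ).map ((EtCoh.Rpush g' q).map β) :=
  (congrArg (eqToHom _ ≫ ·) (stalkBC_map g a.bS g' a.c.m a.w ξ a.c.α β q)).trans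
    (Category.assoc _ _ _).symm

end SMor

variable {ι : Type u} [Preorder ι] [Nonempty ι] [IsDirectedOrder ι] {Ts Ss : ιᵒᵖ ⥤ Scheme.{u}}
  (gN : Ts ⟶ Ss) (cT : Cone Ts) (cS : Cone Ss) (g : cT.pt ⟶ cS.pt)
  (hg : ∀ j, g ≫ proj Ss cS j = proj Ts cT j ≫ gN.app (op j)) (M : AbSys Ts)

omit [Nonempty ι] [IsDirectedOrder ι] in
lemma isIso_transHom_refl (i : ι) : IsIso (transHom M (le_refl i)) := by
  haveI : ∀ V, IsIso ((transHom M (le_refl i)).hom.app V) := fun V => by
    haveI : IsIso (trn Ts (le_refl i)) := by rw [trn_refl]; infer_instance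
    have hp : IsIso (pullback.fst V.unop.hom (trn Ts (le_refl i))) :=
      (IsPullback.of_hasPullback V.unop.hom (trn Ts (le_refl i))).isIso_fst_of_isIso inferInstance
    let p := @asIso _ _ _ _ (pullback.fst V.unop.hom (trn Ts (le_refl i))) hp
    have e := trn_refl Ts i (le_refl i)
    have hw : p.inv ≫ pullback.snd V.unop.hom (trn Ts (le_refl i)) = V.unop.hom ≫ trn Ts (le_refl i) := by
      refine (Iso.inv_comp_eq p).2 ?_
      refine Eq.trans ?_ (Category.assoc _ _ _)
      refine Eq.trans ?_ ((congrArg (fun m => (p.hom ≫ V.unop.hom) ≫ m) e).trans (Category.comp_id _)).symm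
      exact ((congrArg (pullback.snd V.unop.hom (trn Ts (le_refl i)) ≫ ·) e).trans
        (Category.comp_id _)).symm.trans (pullback.condition (f := V.unop.hom)).symm
    let b : (incl Ts i).obj V.unop ⟶ (incl Ts i).obj ((EtCoh.bc (trn Ts (le_refl i))).obj V.unop) :=
      ⟨p.inv, le_refl i, hw⟩
    haveI : IsIso (st (le_refl i) V.unop) :=
      ⟨⟨b, Obj.hom_ext p.hom_inv_id, Obj.hom_ext p.inv_hom_id⟩⟩
    exact inferInstanceAs (IsIso (M.obj.map (st (le_refl i) V.unop).op))
  haveI : IsIso ((sheafToPresheaf _ _).map (transHom M (le_refl i))) :=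
    NatIso.isIso_of_isIso_app (transHom M (le_refl i)).hom
  exact isIso_of_reflects_iso _ (sheafToPresheaf _ _)

omit [Nonempty ι] [IsDirectedOrder ι] in
lemma isIso_trC_refl (i : ι) : IsIso (trC M (le_refl i)).α := by
  haveI : IsIso (trn Ts (le_refl i)) := by rw [trn_refl]; infer_instance
  have hc := isIso_counit_openImmersion (trn Ts (le_refl i)) ((res Ts i).obj M)
  have ht := isIso_transHom_refl M i
  have e : (trC M (le_refl i)).α = (EtCoh.pull (trn Ts (le_refl i))).map (transHom M (le_refl i)) ≫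
      (EtCoh.pullPushAdj (trn Ts (le_refl i))).counit.app _ :=
    (EtCoh.pullPushAdj (trn Ts (le_refl i))).homEquiv_counit _ _ _
  rw [e]
  exact IsIso.comp_isIso' (@Functor.map_isIso _ _ _ _ _ _ (EtCoh.pull (trn Ts (le_refl i))) _ ht) hc

/-- The transition maps of the diagram of inverse images at the cone point. -/
noncomputable def gmMap {i j : ι} (h : i ≤ j) :
    (EtCoh.pull (proj Ts cT i)).obj ((res Ts i).obj M) ⟶ (EtCoh.pull (proj Ts cT j)).obj ((res Ts j).obj M) :=
  (EtCore.pullCongr (proj_trn Ts cT h)).inv.app _ ≫ ((trC M h).comp (CHom.cart (proj Ts cT j) _)).α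

lemma gmMap_spec {i j : ι} (h : i ≤ j) :
    (trC M h).comp (CHom.cart (proj Ts cT j) ((res Ts j).obj M)) =
      (CHom.cart (proj Ts cT i) ((res Ts i).obj M)).post (gmMap cT M h) := by
  refine CHom.ext' (proj_trn Ts cT h) ?_
  exact (((EtCore.pullCongr (proj_trn Ts cT h)).hom_inv_id_app_assoc _ _).symm.trans
    (congrArg (_ ≫ ·) (Category.id_comp _).symm))

lemma gmMap_comp {i j k : ι} (h : i ≤ j) (h' : j ≤ k) :
    gmMap cT M h ≫ gmMap cT M h' = gmMap cT M (h.trans h') := by
  apply CHom.cart_post_injective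
  refine (CHom.post_post _ _ _).symm.trans ?_
  rw [← gmMap_spec, ← gmMap_spec, CHom.comp_post, ← gmMap_spec, ← CHom.assoc, trC_comp]

lemma gmMap_refl (i : ι) : gmMap cT M (le_refl i) = 𝟙 _ := by
  have ht := isIso_trC_refl M i
  haveI : IsIso (gmMap cT M (le_refl i)) :=
    IsIso.comp_isIso' inferInstance (IsIso.comp_isIso'
      (inferInstanceAs (IsIso ((EtCore.pullComp (proj Ts cT i) (trn Ts (le_refl i))).hom.app ((res Ts i).obj M))))
      (IsIso.comp_isIso' (@Functor.map_isIso _ _ _ _ _ _ (EtCoh.pull (proj Ts cT i)) _ ht)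
        (inferInstanceAs (IsIso (𝟙 ((EtCoh.pull (proj Ts cT i)).obj ((res Ts i).obj M)))))))
  rw [← cancel_epi (gmMap cT M (le_refl i)), Category.comp_id]
  exact gmMap_comp cT M (le_refl i) (le_refl i)

/-- The diagram of inverse images at the cone point. -/
noncomputable def gm : ι ⥤ EtCoh.Ab cT.pt where
  obj i := (EtCoh.pull (proj Ts cT i)).obj ((res Ts i).obj M)
  map m := gmMap cT M (leOfHom m)
  map_id i := gmMap_refl cT M i
  map_comp m m' := (gmMap_comp cT M (leOfHom m) (leOfHom m')).symm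

/-- The transition morphisms of sheaves. -/
noncomputable abbrev resPhi ⦃i j : ι⦄ (h : i ≤ j) :
    (EtCoh.pull (Ts.map (homOfLE h).op)).obj ((res Ts i).obj M) ⟶ (res Ts j).obj M :=
  (trC M h).α

omit [Nonempty ι] [IsDirectedOrder ι] in
lemma resPhi_comp ⦃i j k : ι⦄ (h : i ≤ j) (h' : j ≤ k) :
    resPhi M (h.trans h') = (EtLim.pullTrans Ts h h').hom.app ((res Ts i).obj M) ≫
      (EtCoh.pull (Ts.map (homOfLE h').op)).map (resPhi M h) ≫ resPhi M h' :=
  phi_comp_of (fun i => (res Ts i).obj M) (resPhi M) (fun _ _ _ a b => trC_comp M a b) h h'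

lemma gm_psi ⦃i j : ι⦄ (h : i ≤ j) :
    (Iso.refl ((gm cT M).obj i)).hom ≫ (gm cT M).map (homOfLE h) =
      (EtLim.pullTransCone Ts cT h).hom.app ((res Ts i).obj M) ≫
        (EtCoh.pull (cT.π.app (op j))).map (resPhi M h) ≫ (Iso.refl ((gm cT M).obj j)).hom :=
  psi_comp_of (fun i => (res Ts i).obj M) (resPhi M) cT (gm cT M) (fun i => Iso.refl _)
    (fun _ _ a => gmMap_spec cT M a) h

/-- The cocone at the inverse image. -/
noncomputable def gmCocone : Cocone (gm cT M) where
  pt := (pullSys Ts cT).obj M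
  ι :=
    { app := fun i => (coneC cT M i).α
      naturality := fun i j m => by
        refine Eq.trans ?_ (Category.comp_id _).symm
        apply CHom.cart_post_injective
        refine (CHom.post_post _ _ _).symm.trans ?_
        show ((CHom.cart _ _).post (gmMap cT M (leOfHom m))).post _ = _
        rw [← gmMap_spec, CHom.comp_post]
        exact (congrArg (CHom.comp _) (CHom.eq_post_cart (coneC cT M j)).symm).trans
          ((trC_coneC cT M (leOfHom m)).trans (CHom.eq_post_cart _)) }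

/-- The comparison with the colimit. -/
noncomputable def gmDesc : colimit (gm cT M) ⟶ (pullSys Ts cT).obj M := colimit.desc _ (gmCocone cT M)

lemma ι_gmDesc (i : ι) : colimit.ι (gm cT M) i ≫ gmDesc cT M = (coneC cT M i).α :=
  colimit.ι_desc _ i

lemma limC_gmDesc (i : ι) :
    (limC (fun i => (res Ts i).obj M) cT (gm cT M) (fun _ => Iso.refl _) i).post (gmDesc cT M) =
      coneC cT M i :=
  (CHom.post_post _ _ _).trans ((congrArg _ (ι_gmDesc cT M i)).trans
    (congrArg (CHom.mk _) (Category.id_comp _)))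

instance isIso_gmDesc : IsIso (gmDesc cT M) := by
  obtain ⟨d, hd⟩ := exists_descC cT M (fun i => colimit.ι (gm cT M) i) (fun i j h => by
    rw [show CHom.mk (proj Ts cT j) (colimit.ι (gm cT M) j) =
        (CHom.cart (proj Ts cT j) _).post (colimit.ι (gm cT M) j) from CHom.mk_eq_cart_post _ _,
      ← CHom.comp_post, gmMap_spec, CHom.post_post]
    exact (congrArg _ (colimit.w (gm cT M) (homOfLE h))).trans (CHom.mk_eq_cart_post _ _).symm)
  have hd' : ∀ i, (coneC cT M i).α ≫ d = colimit.ι (gm cT M) i := fun i =>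
    eq_of_heq (CHom.mk.inj (hd i)).2
  refine ⟨⟨d, colimit.hom_ext fun i => ?_, descC_ext cT M fun i => ?_⟩⟩
  · exact (Category.assoc _ _ _).symm.trans ((congrArg (· ≫ d) (ι_gmDesc cT M i)).trans
      ((hd' i).trans (Category.comp_id _).symm))
  · refine congrArg (CHom.mk _) ?_
    exact (Category.assoc _ _ _).symm.trans ((congrArg (· ≫ gmDesc cT M) (hd' i)).trans
      ((ι_gmDesc cT M i).trans (Category.comp_id _).symm))

/-- The morphism of stages. -/
noncomputable def trS {i j : ι} (h : i ≤ j) :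
    SMor (gN.app (op i)) ((res Ts i).obj M) (gN.app (op j)) ((res Ts j).obj M) :=
  ⟨trn Ss h, trC M h, trn_gN gN h⟩

/-- The morphism to the limit. -/
noncomputable def coneS (i : ι) : SMor (gN.app (op i)) ((res Ts i).obj M) g ((pullSys Ts cT).obj M) :=
  ⟨proj Ss cS i, coneC cT M i, (hg i).symm⟩

lemma coneS_eq (i : ι) : coneS gN cT cS g hg M i =
    (toLimS gN cT cS g hg (fun i => (res Ts i).obj M) (gm cT M) (fun _ => Iso.refl _) i).post (gmDesc cT M) :=
  SMor.ext' rfl (limC_gmDesc cT M i).symm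

variable [∀ (p q : ιᵒᵖ) (m : p ⟶ q), IsAffineHom (Ts.map m)]
  [∀ (p q : ιᵒᵖ) (m : p ⟶ q), IsAffineHom (Ss.map m)] [∀ a : ιᵒᵖ, QuasiCompact (gN.app a)]
  [∀ a : ιᵒᵖ, QuasiSeparated (gN.app a)] {Ω : Type u} [Field Ω] [IsSepClosed Ω]
  (η : Spec (CommRingCat.of Ω) ⟶ cS.pt) (q : ℕ)

/-- Every element of the stalk at the limit comes from a stage. -/
theorem sys_stalk_surj (hcT : IsLimit cT) (hcS : IsLimit cS)
    (e : (EtCoh.stalk η).obj ((EtCoh.Rpush g q).obj ((pullSys Ts cT).obj M))) :
    ∃ (i : ι) (y : (EtCoh.stalk (η ≫ proj Ss cS i)).obj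
        ((EtCoh.Rpush (gN.app (op i)) q).obj ((res Ts i).obj M))),
      (coneS gN cT cS g hg M i).st η (η ≫ proj Ss cS i) rfl q y = e := by
  let D := (EtCoh.stalk η).map ((EtCoh.Rpush g q).map (gmDesc cT M))
  haveI : IsIso D := inferInstance
  obtain ⟨e', rfl⟩ := ((ConcreteCategory.isIso_iff_bijective D).1 inferInstance).2 e
  obtain ⟨i, y, rfl⟩ := stalk_limit_surj gN cT cS g hg (fun i => (res Ts i).obj M) (resPhi M)
    (resPhi_comp M) (gm cT M) (fun _ => Iso.refl _) (gm_psi cT M) η q hcT hcS e'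
  refine ⟨i, y, ?_⟩
  have e1 := SMor.st_congr (coneS_eq gN cT cS g hg M i) η _ rfl rfl q
  rw [SMor.st_post] at e1
  exact ConcreteCategory.congr_hom e1 y

/-- Elements vanishing at the limit vanish at a stage. -/
theorem sys_stalk_inj (hcT : IsLimit cT) (hcS : IsLimit cS) (i : ι)
    (y : (EtCoh.stalk (η ≫ proj Ss cS i)).obj ((EtCoh.Rpush (gN.app (op i)) q).obj ((res Ts i).obj M)))
    (hy : (coneS gN cT cS g hg M i).st η (η ≫ proj Ss cS i) rfl q y = 0) :
    ∃ (k : ι) (h : i ≤ k),
      (trS gN M h).st (η ≫ proj Ss cS k) (η ≫ proj Ss cS i) (pt_trn cS η h) q y = 0 := by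
  let D := (EtCoh.stalk η).map ((EtCoh.Rpush g q).map (gmDesc cT M))
  haveI : IsIso D := inferInstance
  have e1 := SMor.st_congr (coneS_eq gN cT cS g hg M i) η _ rfl rfl q
  rw [SMor.st_post] at e1
  have h0 : D ((toLimS gN cT cS g hg (fun i => (res Ts i).obj M) (gm cT M) (fun _ => Iso.refl _) i).st
      η (η ≫ proj Ss cS i) rfl q y) = 0 := (ConcreteCategory.congr_hom e1 y).symm.trans hy
  exact stalk_limit_inj gN cT cS g hg (fun i => (res Ts i).obj M) (resPhi M)
    (resPhi_comp M) (gm cT M) (fun _ => Iso.refl _) (gm_psi cT M) η q hcT hcS i y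
    (((ConcreteCategory.isIso_iff_bijective D).1 inferInstance).1 (h0.trans (map_zero _).symm))

omit η q in
include gN cS hg in
/-- Inverse images of injective systems to the limit are acyclic for direct image. -/
theorem isZero_Rpush_pullSys (hcT : IsLimit cT) (hcS : IsLimit cS) [Injective M] (n : ℕ) :
    IsZero ((EtCoh.Rpush g (n + 1)).obj ((pullSys Ts cT).obj M)) := by
  rw [IsZero.iff_id_eq_zero]
  refine stalkAt_jointlyReflectIsomorphisms.jointlyFaithful.map_injective fun s => ?_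
  rw [CategoryTheory.Functor.map_id, Functor.map_zero]
  ext e
  obtain ⟨i, y, rfl⟩ := sys_stalk_surj gN cT cS g hg M (geomPoint s) (n + 1) hcT hcS e
  haveI : Injective ((res Ts i).obj M) := (res Ts i).injective_obj M
  have hy : y = 0 := @Subsingleton.elim _ (AddCommGrpCat.subsingleton_of_isZero
    ((EtCoh.stalk _).map_isZero (InjCoh.Rpush_injective _ _ (n + 1) n.succ_pos))) _ _
  rw [hy, map_zero]
  rfl

end Groth.EtaleBase.EtLimit
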