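import Groth.Agent.EtaleBase.Limit.Base
import Groth.Agent.EtaleBase.Stalks

/-!
The topology on the category of étale schemes over an inverse system, with vertical coverings.
-/

set_option autoImplicit false

universe u

open CategoryTheory CategoryTheory.Limits AlgebraicGeometry Opposite

namespace Groth.EtaleBase.EtLimit

variable {ι : Type u} [Preorder ι] (Xs : ιᵒᵖ ⥤ Scheme.{u})

/-- Base change of a vertical morphism along an arbitrary morphism. -/
lemma exists_vertical_square {a b : Obj Xs} (f : b ⟶ a) {V : (Xs.obj (op a.idx)).Etale}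
    (g : V ⟶ a.obj) (x : b.obj.left) (v : V.left) (hv : g.left.base v = f.1.base x) :
    ∃ (W : (Xs.obj (op b.idx)).Etale) (k : W ⟶ b.obj)
      (f' : (incl Xs b.idx).obj W ⟶ (incl Xs a.idx).obj V),
      (incl Xs b.idx).map k ≫ f = f' ≫ (incl Xs a.idx).map g ∧ ∃ w : W.left, k.left.base w = x := by
  have hg : AlgebraicGeometry.Etale g.left :=
    MorphismProperty.of_postcomp @AlgebraicGeometry.Etale g.left a.obj.hom a.obj.prop
      (by rw [MorphismProperty.Over.w]; exact V.prop)
  have h1 : AlgebraicGeometry.Etale (pullback.fst f.1 g.left) :=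
    MorphismProperty.pullback_fst _ _ hg
  have h2 : AlgebraicGeometry.Etale (pullback.fst f.1 g.left ≫ b.obj.hom) :=
    MorphismProperty.comp_mem _ _ _ h1 b.obj.prop
  let W : (Xs.obj (op b.idx)).Etale := Scheme.Etale.mk (pullback.fst f.1 g.left ≫ b.obj.hom)
  refine ⟨W, MorphismProperty.Over.homMk (pullback.fst f.1 g.left) rfl,
    ⟨pullback.snd f.1 g.left, (Obj.idx_le f : a.idx ≤ b.idx), ?_⟩, Obj.hom_ext pullback.condition, ?_⟩
  · refine Eq.trans ?_ (Category.assoc (pullback.fst f.1 g.left) b.obj.hom _).symm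
    exact (congrArg (pullback.snd f.1 g.left ≫ ·) (MorphismProperty.Over.w g).symm).trans
      (((Category.assoc _ _ _).symm.trans (congrArg (· ≫ a.obj.hom) pullback.condition.symm)).trans
        ((Category.assoc _ _ _).trans
          (congrArg (pullback.fst f.1 g.left ≫ ·) (Obj.w f (Obj.idx_le f)))))
  · obtain ⟨w, hw, -⟩ :=
      Scheme.Pullback.exists_preimage_pullback (f := f.1) (g := g.left) x v hv.symm
    exact ⟨w, hw⟩

/-- The topology: sieves containing jointly surjective vertical arrows. -/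
def top' : GrothendieckTopology (Obj Xs) where
  sieves a := { S | ∀ x : a.obj.left, ∃ (V : (Xs.obj (op a.idx)).Etale) (g : V ⟶ a.obj) (v : V.left),
    S ((incl Xs a.idx).map g) ∧ g.left.base v = x }
  top_mem' a x := ⟨a.obj, 𝟙 _, x, trivial, rfl⟩
  pullback_stable' {a b} S f hS x := by
    obtain ⟨V, g, v, hg, hv⟩ := hS (f.1.base x)
    obtain ⟨W, k, f', e, w, hw⟩ := exists_vertical_square Xs f g x v hv
    refine ⟨W, k, w, ?_, hw⟩
    show S ((incl Xs b.idx).map k ≫ f)
    rw [e]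
    exact S.downward_closed hg f'
  transitive' {a} S hS R hR x := by
    obtain ⟨V, g, v, hg, hv⟩ := hS x
    obtain ⟨W, k, w, hk, hw⟩ := hR hg v
    refine ⟨W, k ≫ g, w, ?_, ?_⟩
    · rw [Functor.map_comp]
      exact hk
    · exact ((Scheme.Hom.comp_apply k.left g.left w).trans (congrArg g.left.base hw)).trans hv

lemma mem_top'_iff {a : Obj Xs} (S : Sieve a) :
    S ∈ top' Xs a ↔ ∀ x : a.obj.left, ∃ (V : (Xs.obj (op a.idx)).Etale) (g : V ⟶ a.obj) (v : V.left),
      S ((incl Xs a.idx).map g) ∧ g.left.base v = x := Iff.rfl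

lemma mem_top'_iff_fibre {a : Obj Xs} (S : Sieve a) :
    S ∈ top' Xs a ↔
      S.functorPullback (incl Xs a.idx) ∈ (Xs.obj (op a.idx)).smallEtaleTopology a.obj :=
  (mem_top'_iff Xs S).trans
    (Groth.EtaleBase.mem_topology_iff (U := a.obj) (S.functorPullback (incl Xs a.idx))).symm

lemma coverPreserving_incl (j : ι) :
    CoverPreserving (Xs.obj (op j)).smallEtaleTopology (top' Xs) (incl Xs j) := by
  refine ⟨fun {U S} hS x => ?_⟩
  obtain ⟨V, g, v, hg, hv⟩ := (Groth.EtaleBase.mem_topology_iff S).1 hS x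
  exact ⟨V, g, v, Sieve.image_mem_functorPushforward _ _ hg, hv⟩

lemma compatiblePreserving_incl (j : ι) :
    CompatiblePreserving.{u + 1} (top' Xs) (incl Xs j) := by
  constructor
  intro ℱ Z T x hx Y₁ Y₂ W f₁ f₂ g₁ g₂ hg₁ hg₂ e
  have hp : IsPullback (pullback.fst g₁ g₂).left (pullback.snd g₁ g₂).left g₁.left g₂.left :=
    (IsPullback.of_hasPullback g₁ g₂).map (Scheme.Etale.forget _ ⋙ Over.forget _)
  let l : W ⟶ (incl Xs j).obj (pullback g₁ g₂) :=
    ⟨hp.lift f₁.1 f₂.1 (congrArg Subtype.val e), (Obj.idx_le f₁ : j ≤ W.idx), by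
      refine Eq.trans ?_ (Obj.w f₁ (Obj.idx_le f₁))
      exact (congrArg (hp.lift f₁.1 f₂.1 (congrArg Subtype.val e) ≫ ·)
        (MorphismProperty.Over.w (pullback.fst g₁ g₂)).symm).trans
        ((Category.assoc _ _ _).symm.trans
          (congrArg (· ≫ Y₁.hom) (hp.lift_fst f₁.1 f₂.1 (congrArg Subtype.val e))))⟩
  have h1 : f₁ = l ≫ (incl Xs j).map (pullback.fst g₁ g₂) := Obj.hom_ext (hp.lift_fst _ _ _).symm
  have h2 : f₂ = l ≫ (incl Xs j).map (pullback.snd g₁ g₂) := Obj.hom_ext (hp.lift_snd _ _ _).symm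
  rw [h1, h2, op_comp, op_comp, Functor.map_comp_apply, Functor.map_comp_apply]
  exact congrArg _ (hx (pullback.fst g₁ g₂) (pullback.snd g₁ g₂) hg₁ hg₂ pullback.condition)

instance isContinuous_incl (j : ι) :
    (incl Xs j).IsContinuous (Xs.obj (op j)).smallEtaleTopology (top' Xs) :=
  Functor.isContinuous_of_coverPreserving (compatiblePreserving_incl Xs j) (coverPreserving_incl Xs j)

instance isCocontinuous_incl (j : ι) :
    (incl Xs j).IsCocontinuous (Xs.obj (op j)).smallEtaleTopology (top' Xs) :=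
  ⟨fun {U} S hS => (mem_top'_iff_fibre Xs S).1 hS⟩

/-- A presheaf is a sheaf as soon as its restrictions to all fibres are. -/
theorem isSheaf_of_fibres (P : (Obj Xs)ᵒᵖ ⥤ Type (u + 1))
    (h : ∀ j, Presieve.IsSheaf (Xs.obj (op j)).smallEtaleTopology ((incl Xs j).op ⋙ P)) :
    Presieve.IsSheaf (top' Xs) P := by
  intro a
  obtain ⟨i, U⟩ := a
  intro (S : Sieve ((incl Xs i).obj U)) hS x hx
  have hS' : S.functorPullback (incl Xs i) ∈ (Xs.obj (op i)).smallEtaleTopology U :=
    (mem_top'_iff_fibre Xs (a := (incl Xs i).obj U) S).1 hS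
  let x' : Presieve.FamilyOfElements ((incl Xs i).op ⋙ P)
      (S.functorPullback (incl Xs i)).arrows := fun V g hg => x ((incl Xs i).map g) hg
  have hx' : x'.Compatible := fun V₁ V₂ V g₁ g₂ k₁ k₂ h₁ h₂ e =>
    hx ((incl Xs i).map g₁) ((incl Xs i).map g₂) h₁ h₂
      (((incl Xs i).map_comp g₁ k₁).symm.trans ((congrArg (incl Xs i).map e).trans
        ((incl Xs i).map_comp g₂ k₂)))
  refine ⟨(h i _ hS').amalgamate x' hx', ?_, fun t ht => ?_⟩
  · rintro ⟨j, W₀⟩ (f : (incl Xs j).obj W₀ ⟶ (incl Xs i).obj U) hf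
    let κ : Type (u + 1) := {p : Σ (W : (Xs.obj (op j)).Etale), W ⟶ W₀ //
      ∃ (V : (Xs.obj (op i)).Etale) (g : V ⟶ U)
        (f' : (incl Xs j).obj p.1 ⟶ (incl Xs i).obj V),
        S ((incl Xs i).map g) ∧ (incl Xs j).map p.2 ≫ f = f' ≫ (incl Xs i).map g}
    have hb' : Sieve.generate (Presieve.ofArrows (fun p : κ => p.1.1) (fun p => p.1.2)) ∈
        (Xs.obj (op j)).smallEtaleTopology W₀ := by
      refine (Groth.EtaleBase.mem_topology_iff _).2 fun y => ?_
      obtain ⟨V, g, v, hg, hv⟩ := hS (f.1.base y)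
      obtain ⟨W, k, f', e, w, hw⟩ :=
        exists_vertical_square Xs (a := (incl Xs i).obj U) (b := (incl Xs j).obj W₀) f g y v hv
      exact ⟨W, k, w, ⟨W, 𝟙 _, k, ⟨(⟨⟨W, k⟩, V, g, f', hg, e⟩ : κ)⟩, Category.id_comp _⟩, hw⟩
    refine ((h j _ hb').isSeparatedFor).ext ?_
    rintro W' k' ⟨W, l, k, ⟨⟨⟨W, k⟩, V, g, f', hg, e⟩⟩, rfl⟩
    show P.map ((incl Xs j).map (l ≫ k)).op (P.map f.op _) =
      P.map ((incl Xs j).map (l ≫ k)).op (x f hf)
    rw [Functor.map_comp, op_comp, Functor.map_comp_apply, Functor.map_comp_apply]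
    refine congrArg _ ?_
    refine (Functor.map_comp_apply P f.op ((incl Xs j).map k).op _).symm.trans ?_
    refine (congrArg (fun m => P.map m _) (congrArg Quiver.Hom.op e)).trans ?_
    refine (Functor.map_comp_apply P ((incl Xs i).map g).op f'.op _).trans ?_
    refine (congrArg (P.map f'.op) ((h i _ hS').valid_glue hx' g hg)).trans ?_
    exact hx f' ((incl Xs j).map k) hg hf e.symm
  · refine ((h i _ hS').isSeparatedFor).ext fun V g hg => ?_
    exact (ht _ hg).trans ((h i _ hS').valid_glue hx' g hg).symm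

variable (c : Cone Xs) [Nonempty ι] [IsDirectedOrder ι]

lemma coverPreserving_toPt : CoverPreserving (top' Xs) c.pt.smallEtaleTopology (toPt Xs c) := by
  refine ⟨fun {a S} hS => ?_⟩
  have h := (EtCoh.coverPreserving_bc (proj Xs c a.idx)).cover_preserve
    ((mem_top'_iff_fibre Xs S).1 hS)
  refine GrothendieckTopology.superset_covering _ ?_ h
  rintro W k ⟨V, g, l, hg, rfl⟩
  exact ⟨(incl Xs a.idx).obj V, (incl Xs a.idx).map g, l, hg,
    congrArg (l ≫ ·) (toPt_map_incl Xs c a.idx g).symm⟩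

instance isContinuous_toPt : (toPt Xs c).IsContinuous (top' Xs) c.pt.smallEtaleTopology :=
  Functor.isContinuous_of_coverPreserving (compatiblePreservingOfFlat _ _)
    (coverPreserving_toPt Xs c)

end Groth.EtaleBase.EtLimit
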